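import Cfsg.Agent.INV.UM.Base

/-!
The fusion analysis (compare INV/SC/A1, A2).
-/

set_option autoImplicit false
set_option linter.unusedSectionVars false
set_option linter.unusedVariables false

namespace CL.UM

open Matrix Subgroup CL.SC
open scoped commutatorElement

variable {m : ℕ} [NeZero m] {F : Type*} [Field F] [Finite F] [CharP F 2] {φ : F ≃+* F}
variable {G : Type*} [Group G] [Finite G] {ρ : SU m φ →* G} {t : G}

/-- a standard Sylow subgroup of `C(t)` -/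
structure T0 (ρ : SU m φ →* G) (t : G) (T : Subgroup G) : Prop extends St ρ t where
  pg : IsPGroup 2 T
  le : T ≤ centralizer {t}
  odd : Odd (T.relIndex (centralizer {t}))
  tT : t ∈ T
  US : ∀ a ∈ UU m φ, ρ a ∈ T
  sd : ∀ s ∈ T, Sa ρ s

variable {T : Subgroup G}

theorem St.exists_T0 (hp : Pa m φ) (h : St ρ t) : ∃ β T, T0 (ru ρ β) t T := by
  obtain ⟨S, h1, h2, h3, h4⟩ := exists_syl (H := centralizer {t}) (el_zpowers h.tt).pgroup
    (zpowers_le.2 (mem_centralizer_singleton_iff.2 rfl))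
  obtain ⟨β, hg⟩ := h.fr.nf hp h1 fun s hs => h.nrm s (mem_centralizer_singleton_iff.1 (h3 hs))
  have h' := h.aut β
  refine ⟨β, S, h', h1, h3, h4, h2 (mem_zpowers t), h'.fr.UU_le hp h1 h3 h4 ?_
    (fun s hs => h'.nrm s (mem_centralizer_singleton_iff.1 hs)) hg, hg⟩
  rintro _ ⟨a, rfl⟩
  exact mem_centralizer_singleton_iff.2 (h'.tc a).symm

theorem T0.comm (h : T0 ρ t T) {s : G} (hs : s ∈ T) : Commute s t :=
  mem_centralizer_singleton_iff.1 (h.le hs)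

theorem T0.mem_UU (hp : Pa m φ) (h : T0 ρ t T) {a : SU m φ} (ha : Two a) (hT : ρ a ∈ T) :
    a ∈ UU m φ :=
  (h.fr.mem_map (qs hp) pgroup_UU ha).1 (h.fr.mem_UU hp ⟨a, rfl⟩ (ha.map ρ) (h.sd _ hT))

theorem T0.Et_le (h : T0 ρ t T) : Et ρ t ≤ T := by
  refine sup_le (zpowers_le.2 h.tT) ?_
  rintro _ ⟨a, ha, rfl⟩
  exact h.US a (AA_le_UU ha)

theorem A1.cj_Et {n : G} (hn : Commute n t) : cj n (Et ρ t) = zpowers t ⊔ cj n (Ar ρ) := by
  rw [Et, cj, Subgroup.map_sup, MonoidHom.map_zpowers]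
  exact congrArg (fun y => zpowers y ⊔ _) (mul_inv_eq_iff_eq_mul.2 hn)

theorem St.cj_Et (h : St ρ t) (s : SU m φ) :
    cj (ρ s) (Et ρ t) = zpowers t ⊔ (cj s (AA m φ)).map ρ := by
  rw [A1.cj_Et (h.tc s).symm, map_cj]

theorem St.norm_Et (h : St ρ t) {n : G} (hn : Commute n t) (hA : n ∈ normalizer (Ar ρ : Set G)) :
    n ∈ normalizer (Et ρ t : Set G) := by
  rw [← cj_eq_iff, A1.cj_Et hn, cj_eq_iff.2 hA, Et]

theorem A1.cj_cent (g t : G) : cj g (centralizer {t}) = centralizer {g * t * g⁻¹} := by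
  ext y
  rw [mem_cj, mem_centralizer_singleton_iff, mem_centralizer_singleton_iff]
  exact (commute_cj (g := g)).symm.trans (by rw [show g * (g⁻¹ * y * g) * g⁻¹ = y by group]; rfl)

theorem T0.odd_cj (h : T0 ρ t T) (g : G) :
    Odd ((cj g T).relIndex (centralizer {g * t * g⁻¹})) := by
  rw [← A1.cj_cent, cj, cj, relIndex_map_map_of_injective _ _ (MulAut.conj g).injective]
  exact h.odd

theorem A1.sq_mem {y : G} (n : ℕ) (h1 : y ^ 2 ^ n ∈ T) (h2 : y ∉ T) :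
    ∃ k : ℕ, y ^ k ∉ T ∧ y ^ k * y ^ k ∈ T := by
  induction n generalizing y with
  | zero => exact (h2 (by simpa using h1)).elim
  | succ n ih =>
    by_cases h3 : y ^ 2 ∈ T
    · exact ⟨1, by simpa using h2, by simpa [pow_two] using h3⟩
    · obtain ⟨k, hk⟩ := ih (y := y ^ 2) (by rwa [← pow_mul, ← pow_succ']) h3
      exact ⟨2 * k, by simpa only [pow_mul] using hk⟩

/-- `rank_eq`, `Fu.mem_UU`, `cj_AA_le` -/
theorem T0.el_eq (hp : Pa m φ) (h : T0 ρ t T) {E : Subgroup G} (hE : El E) (hT : E ≤ T)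
    (hn : 2 * qa m F ≤ Nat.card E) : E = Et ρ t := by
  obtain ⟨s, e⟩ := h.toSt.rank_eq hp hE (fun e he => h.comm (hT he)) hn
  rwa [cj_AA_le hp fun a ha => h.mem_UU hp (two_of_sq (el_AA.map _ a ha))
    (hT (e ▸ mem_sup_right (mem_map_of_mem ρ ha)))] at e

theorem T0.weak (hp : Pa m φ) (h : T0 ρ t T) {g : G} (hg : cj g (Et ρ t) ≤ T) :
    cj g (Et ρ t) = Et ρ t :=
  h.el_eq hp (h.toSt.el_Et.map _) hg (by rw [card_cj, h.toSt.card_Et hp])

/-- `cent_UU2` -/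
theorem T0.omega (hp : Pa m φ) (h : T0 ρ t T) {e : G} (he : e * e = 1) (hc : ∀ s ∈ T, Commute e s) :
    ∃ c, φ c = c ∧ (e = ρ (zl φ 0 c) ∨ e = t * ρ (zl φ 0 c)) := by
  obtain ⟨α, hα⟩ := h.toSt.au' hp (hc t h.tT)
  obtain ⟨c, h1, rfl⟩ := cent_UU2 hp (α := α)
    (fun a ha => (hα.fix (qs hp) h.fr (two_of_pgroup pgroup_UU ha)).1 (hc _ (h.US a ha)))
    (two_of_sq (hα.sq (qs hp) h.fr he))
  exact ⟨c, h1, h.toSt.inner' he (hc t h.tT) (zl_sq _ _) hα⟩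

/-- as `CL.SC.T0.nr` with `Et` for `Jt`, `zl_mem_comm` -/
theorem T0.nr (hp : Pa m φ) (h : T0 ρ t T) {r : SU m φ} (hr : IsTv r) : ¬ IsConj t (ρ r) := fun hc => by
  obtain ⟨g, hg⟩ := isConj_iff.1 (hc.trans (ρ.map_isConj hr).symm)
  obtain ⟨c, hc1, hc2⟩ := conj_into (h.pg.map _) (A1.cj_cent g t ▸ map_mono h.le) (h.odd_cj g)
    h.pg fun s hs => mem_centralizer_singleton_iff.2 (hg ▸ ((h.sd s hs).norm hp).2.2)
  have h1 : cj (g⁻¹ * c) T ≤ T := by
    rw [cj_mul']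
    refine (map_mono hc2).trans ?_
    change cj _ _ ≤ _
    rw [← cj_mul', inv_mul_cancel, cj_one]
  have h2 := h.weak hp ((map_mono h.Et_le).trans h1)
  have h3 : ⁅Et ρ t, T⁆ ≤ ρ.range := commutator_le.2 fun y hy s hs => by
    have n := mem_normalizer_iff.1 (h.nrm s (h.comm hs))
    have k : ∀ y ∈ ρ.range, y * s * y⁻¹ * s⁻¹ ∈ ρ.range := fun y hy => by
      simpa only [mul_assoc] using mul_mem hy ((n _).1 (inv_mem hy))
    rcases (mem_zsup h.toSt.tt (V := ρ.range) (by rintro _ ⟨a, rfl⟩; exact h.tc a)).1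
      (sup_le_sup_left (map_le_range _ _) _ hy) with e | e
    · exact k y e
    · obtain ⟨a, ha⟩ := k _ e
      have : t⁻¹ * ρ a * t ∈ ρ.range := by
        rw [mul_assoc, ← (h.tc a).eq, inv_mul_cancel_left]; exact ⟨a, rfl⟩
      rwa [ha, show t⁻¹ * (t * y * s * (t * y)⁻¹ * s⁻¹) * t = y * s * y⁻¹ * (t⁻¹ * (s⁻¹ * t)) by group,
        (h.comm (inv_mem hs)).eq, inv_mul_cancel_left] at this
  have h4 : ρ (zl φ 0 1) ∈ ⁅Et ρ t, T⁆ := by
    have := mem_map_of_mem ρ (zl_mem_comm hp 1)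
    rw [map_commutator] at this
    refine commutator_mono le_sup_right ?_ this
    rintro _ ⟨a, ha, rfl⟩
    exact h.US a ha
  have h5 := mem_map_of_mem (MulAut.conj (g⁻¹ * c)).toMonoidHom h4
  rw [map_commutator] at h5
  refine h.toSt.not_mem (qs hp) (h3 (commutator_mono h2.le h1 ?_))
  convert h5
  change t = g⁻¹ * c * ρ (zl φ 0 1) * (g⁻¹ * c)⁻¹
  rw [mul_assoc g⁻¹, ← hg, mem_centralizer_singleton_iff.1 hc1]
  group

/-- as `CL.SC.T0.mv`; `y ∈ N(T)` normalises `Et` (`weak`), and so does `ρ (dh d)` (`exists_dh_zl`) -/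
theorem T0.mv (hp : Pa m φ) (h : T0 ρ t T) (hns : Even T.index) :
    ∃ y, y * t * y⁻¹ = t * ρ (zl φ 0 1) ∧ Commute y (ρ (zl φ 0 1)) ∧
      y ∈ normalizer (Et ρ t : Set G) := by
  obtain ⟨S, h1, h2, -, h3⟩ := exists_syl (H := ⊤) h.pg le_top
  have := h1.isNilpotent
  have h4 : T.subgroupOf S < ⊤ := lt_top_iff_ne_top.2 fun e => by
    rw [← le_antisymm h2 (subgroupOf_eq_top.1 e), relIndex_top_right] at h3
    exact Nat.not_even_iff_odd.2 h3 hns
  obtain ⟨y0, hy, hy'⟩ := SetLike.exists_of_lt (Group.normalizerCondition_of_isNilpotent _ h4)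
  rw [← subgroupOf_normalizer_eq h2] at hy
  obtain ⟨n, hn⟩ := h1 y0
  have hn' : (y0 : G) ^ 2 ^ n = 1 := congrArg Subtype.val hn
  obtain ⟨k, k1, k2⟩ := A1.sq_mem (T := T) (y := y0) n (hn' ▸ one_mem T) hy'
  have k3 : (y0 : G) ^ k ∈ normalizer (T : Set G) := pow_mem hy k
  have k4 : ((y0 : G) ^ k) ^ 2 ^ n = 1 := by rw [← pow_mul, mul_comm, pow_mul, hn', one_pow]
  generalize (y0 : G) ^ k = y at k1 k2 k3 k4
  have k5 : ¬ Commute y t := fun e => k1 (CL.SylowRel.mem_of_not_dvd_relIndex h.pg h.le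
    (odd_iff_not.1 h.odd) (mem_centralizer_singleton_iff.2 e) k4 k3)
  have z0 : (0 : Fin m) ≠ Fin.rev 0 := zero_ne_la (by have := hp.six; omega)
  obtain ⟨c, hc, e | e⟩ := h.omega hp (e := y * t * y⁻¹)
    (by rw [conj_mul, h.toSt.tt, mul_one, mul_inv_cancel]) fun s hs => by
      have := (commute_cj (g := y)).2 (h.comm ((mem_normalizer_iff''.1 k3 s).1 hs)).symm
      rwa [show y * (y⁻¹ * s * y) * y⁻¹ = s by group] at this
  · by_cases c0 : c = 0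
    · rw [c0, zl_zero, map_one, conj_eq_one_iff] at e
      exact (h.toSt.ne_one e).elim
    · exact (h.nr hp (isTv_zl hp z0 hc c0) (isConj_iff.2 ⟨y, e⟩)).elim
  have c0 : c ≠ 0 := by
    rintro rfl
    rw [zl_zero, map_one, mul_one] at e
    exact k5 (mul_inv_eq_iff_eq_mul.1 e)
  have cz : Commute y (ρ (zl φ 0 c)) := by
    have e1 : t = t * ρ (zl φ 0 c) * (y * ρ (zl φ 0 c) * y⁻¹) := by
      calc t = y * y * t * (y * y)⁻¹ := by rw [(h.comm k2).eq, mul_inv_cancel_right]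
        _ = y * (y * t * y⁻¹) * y⁻¹ := by group
        _ = y * t * y⁻¹ * (y * ρ (zl φ 0 c) * y⁻¹) := by rw [e, ← e]; nth_rw 1 [e]; group
        _ = _ := by rw [e]
    rw [mul_assoc, left_eq_mul, mul_eq_one_iff_inv_eq, ← map_inv,
      inv_eq_of_mul_eq_one_right (zl_sq _ _)] at e1
    exact mul_inv_eq_iff_eq_mul.1 e1.symm
  obtain ⟨d, -, hL, hd⟩ := exists_dh_zl hp hc c0
  have hD := h.toSt.norm_Et (h.tc (dh φ d)⁻¹).symm (norm_map (inv_mem (Lv_norm hp hL)))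
  have e2 : ρ (zl φ 0 1) = ρ (dh φ d)⁻¹ * ρ (zl φ 0 c) * (ρ (dh φ d)⁻¹)⁻¹ := by
    rw [← hd, map_mul, map_mul, map_inv]; group
  have c1 := (h.tc (dh φ d)⁻¹).eq
  generalize ρ (dh φ d)⁻¹ = D at hD e2 c1
  refine ⟨D * y * D⁻¹, ?_, e2 ▸ commute_cj.2 cz, mul_mem (mul_mem hD (cj_eq_iff.1 (h.weak hp
    ((map_mono h.Et_le).trans (cj_eq_iff.2 k3).le)))) (inv_mem hD)⟩
  calc _ = D * (y * (D⁻¹ * (t * D)) * y⁻¹) * D⁻¹ := by group
    _ = _ := by rw [c1, inv_mul_cancel_left, e, e2, ← mul_assoc, ← c1]; group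

/-- `ρ(Gz)` is perfect, generated by involutions and centralises `y t y⁻¹`, so it lies in the range
of `tu y ρ` (`St.conj`, `perf_le`).  Hence `ρ(AA) ≤ cj y range ⊓ Et = cj y (range ⊓ Et) = cj y ρ(AA)`. -/
theorem St.norm_A (hp : Pa m φ) (h : St ρ t) {y : G} (h1 : y * t * y⁻¹ = t * ρ (zl φ 0 1))
    (h2 : y ∈ normalizer (Et ρ t : Set G)) : y ∈ normalizer (Ar ρ : Set G) := by
  have e : (Gz m φ).map ρ = closure (ρ '' _) := MonoidHom.map_closure _ _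
  have k : (Gz m φ).map ρ ≤ (tu y ρ).range := by
    rw [e]
    refine (h.conj y).perf_le hp ?_ ?_ ?_
    · rintro _ ⟨_, ⟨a, b, u, hab, -, -, rfl⟩, rfl⟩
      rw [← map_mul, xs_sq hp hab, map_one]
    · rintro _ ⟨g, hg, rfl⟩
      rw [h1]
      exact (h.tc g).symm.mul_right ((Gz_comm hp (subset_closure hg) 1).map ρ)
    · rw [← e, ← map_commutator]
      exact map_mono (Gz_perfect hp)
  refine (inv_mem_iff (x := y)).1 (mem_norm_of_le fun v hv => ?_)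
  obtain ⟨c, hc⟩ := mem_cj.1 (range_tu y ρ ▸ k (map_mono (AA_le_Gz hp) hv))
  obtain ⟨b, hb, e | e⟩ := h.mem_Et.1 ((mem_normalizer_iff''.1 h2 v).1 (mem_sup_right hv))
  · exact ⟨b, hb, by rw [inv_inv, e]⟩
  · exact (h.ne hp c b (hc.trans e)).elim

/-- Let `u = g t g⁻¹ ∈ T` act as `α`.  Type `1`: `St.inner`.  Type `φ`: `NA α` (`Sa.norm`), the group
`K = im α` has order at least 8 (`im_large`, `outer_not_cent`), `u ρ v ~ u` for `v ∈ K`
(`Au.isConj`) and `ρ v` commutes with `u`.  The elements `g⁻¹ (ρ v) g ∈ C(t)` have type `1` or `φ`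
(`ty_of_sq`), so one with `v ≠ 1` has type `1` (product of two of type `φ`); it is `ρ a` or
`t ρ a`, and its product with `t` is conjugate to `t`. -/
theorem T0.exists_inner (hp : Pa m φ) (h : T0 ρ t T) {u : G} (hu : IsConj t u) (hne : u ≠ t)
    (hT : u ∈ T) : ∃ a : SU m φ, a * a = 1 ∧ a ≠ 1 ∧ (IsConj t (ρ a) ∨ IsConj t (t * ρ a)) := by
  have n1 : ∀ a : SU m φ, IsConj t (ρ a) → a ≠ 1 := by
    rintro _ e rfl
    rw [map_one, isConj_one_left] at e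
    exact h.toSt.ne_one e
  obtain ⟨a0, ha0, σ, hα⟩ := h.sd u hT
  have na := na_std hp ha0 σ
  generalize MulAut.conj a0 * fs φ σ = α at hα na
  have hc := h.comm hT
  obtain ⟨g, rfl⟩ := isConj_iff.1 hu
  have u2 : g * t * g⁻¹ * (g * t * g⁻¹) = 1 := by rw [conj_mul, h.toSt.tt, mul_one, mul_inv_cancel]
  have α2 := hα.sq (qs hp) h.fr u2
  rcases ty_of_sq hp α2 with ho | ho
  · obtain ⟨a, ha, e | e⟩ := h.toSt.inner hp u2 hc hα ho
    · exact ⟨a, ha, n1 a (e ▸ hu), Or.inl (e ▸ hu)⟩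
    · refine ⟨a, ha, ?_, Or.inr (e ▸ hu)⟩
      rintro rfl
      exact hne (by rw [e, map_one, mul_one])
  obtain ⟨K, hK, eK⟩ := exists_im na α2
  have h8 := (im_large hp na α2 (outer_not_cent hp ho)).1
  have cm : ∀ v ∈ K, Commute (g⁻¹ * ρ v * g⁻¹⁻¹) t := fun v hv => by
    have := (commute_cj (g := g⁻¹)).2 (hα.commute (hK hv).2).symm
    rwa [show g⁻¹ * (g * t * g⁻¹) * g⁻¹⁻¹ = t by group] at this
  have sq : ∀ v ∈ K, g⁻¹ * ρ v * g⁻¹⁻¹ * (g⁻¹ * ρ v * g⁻¹⁻¹) = 1 := fun v hv => by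
    rw [conj_mul, ← map_mul, el_AA v (hK hv).1, map_one, mul_one, mul_inv_cancel]
  obtain ⟨v, hv, v1, β, hβ, ty⟩ : ∃ v ∈ K, v ≠ 1 ∧ ∃ β, Au ρ (g⁻¹ * ρ v * g⁻¹⁻¹) β ∧ Ty β 1 := by
    obtain ⟨v, hv, w, hw, hvw⟩ := (Set.one_lt_ncard (s := (K : Set (SU m φ)) \ {1})).1 (by
      rw [Set.ncard_sdiff_singleton_of_mem (one_mem K), eK]; omega)
    obtain ⟨β, hβ⟩ := h.toSt.au' hp (cm v hv.1)
    obtain ⟨γ, hγ⟩ := h.toSt.au' hp (cm w hw.1)
    rcases ty_of_sq hp (hβ.sq (qs hp) h.fr (sq v hv.1)) with t1 | t1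
    · exact ⟨v, hv.1, hv.2, β, hβ, t1⟩
    rcases ty_of_sq hp (hγ.sq (qs hp) h.fr (sq w hw.1)) with t2 | t2
    · exact ⟨w, hw.1, hw.2, γ, hγ, t2⟩
    refine ⟨v * w, mul_mem hv.1 hw.1, fun e => hvw ?_, β * γ, by
      rw [map_mul, ← conj_mul]; exact hβ.mul hγ, hp.sq ▸ t1.mul t2⟩
    rw [← mul_one v, ← el_AA w (hK hw.1).1, ← mul_assoc, e, one_mul]
  obtain ⟨y, -, hy⟩ : v ∈ im α := eK ▸ hv
  have c : IsConj t (g⁻¹ * ρ v * g⁻¹⁻¹ * t) := by
    have e : y * (α y)⁻¹ = v := by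
      rw [← inv_eq_of_mul_eq_one_right (el_AA v (hK hv).1), hy, _root_.mul_inv_rev, inv_inv]
    refine (hu.trans (hα.isConj y)).trans (isConj_iff.2 ⟨g⁻¹, by rw [e]; group⟩)
  obtain ⟨b, hb, e | e⟩ := h.toSt.inner hp (sq v hv) (cm v hv) hβ ty
  · refine ⟨b, hb, ?_, Or.inr (by rwa [e, ← (h.tc b).eq] at c)⟩
    rintro rfl
    rw [map_one, conj_eq_one_iff] at e
    exact v1 (h.fr.eq_one (qs hp) (two_of_sq (el_AA v (hK hv).1)) e)
  · rw [e, (h.tc b).eq, mul_assoc, h.toSt.tt, mul_one] at c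
    exact ⟨b, hb, n1 b c, Or.inl c⟩

/-- `u = ρ a` or `t ρ a` with `a ∈ AA` (`exists_conj_AA`) lies in `Et`; if `u = g t g⁻¹` then
`g⁻¹ Et g ≤ C(t)` is `cj (ρ s) Et` (`rank_eq`). -/
theorem St.exists_norm (hp : Pa m φ) (h : St ρ t) {a : SU m φ} (ha : a * a = 1) (h1 : a ≠ 1)
    (hc : IsConj t (ρ a) ∨ IsConj t (t * ρ a)) :
    ∃ n ∈ normalizer (Et ρ t : Set G), ¬ Commute n t := by
  obtain ⟨s, hs⟩ := exists_conj_AA hp ha
  have key : ∀ u, IsConj t u → u ≠ t → u ∈ Et ρ t →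
      ∃ n ∈ normalizer (Et ρ t : Set G), ¬ Commute n t := fun u hu hne hJ => by
    obtain ⟨g, rfl⟩ := isConj_iff.1 hu
    obtain ⟨s, e⟩ := h.rank_eq hp (E := cj g⁻¹ (Et ρ t)) (h.el_Et.map _) (by
        rintro _ ⟨y, hy, rfl⟩
        have := (commute_cj (g := g⁻¹)).2 (h.el_Et.comm hy hJ)
        rwa [show g⁻¹ * (g * t * g⁻¹) * g⁻¹⁻¹ = t by group] at this) (by rw [card_cj, h.card_Et hp])
    rw [← h.cj_Et] at e
    refine ⟨g * ρ s, cj_eq_iff.1 (by rw [cj_mul', ← e, ← cj_mul', mul_inv_cancel, cj_one]),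
      fun c => hne ?_⟩
    have c2 : Commute g t := by simpa using c.mul_left (h.tc s).symm.inv_left
    rw [c2.eq, mul_inv_cancel_right]
  have c := ρ.map_isConj (isConj_iff.2 ⟨s, rfl⟩ : IsConj a (s * a * s⁻¹))
  rcases hc with hc | hc
  · exact key _ (hc.trans c) (fun e => h.not_mem (qs hp) ⟨_, e⟩) (h.mem_Et.2 ⟨_, hs, .inl rfl⟩)
  · refine key (t * ρ (s * a * s⁻¹)) (hc.trans (isConj_iff.2 ⟨ρ s, ?_⟩)) (fun e => h1 ?_)
      (h.mem_Et.2 ⟨_, hs, .inr rfl⟩)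
    · rw [← mul_assoc, ← (h.tc s).eq, map_mul, map_mul, map_inv]; group
    · exact h.fr.eq_one (qs hp) (two_of_sq ha) (isConj_one_left.1 (mul_eq_left.1 e ▸ c))

/-- as `CL.SC.T0.even_index`: the orbit `O ⊆ Et` of `t` under `N(Et) ≥ T` has odd length;
`O ∩ ρ(AA)` has even size (`exists_fixed` for `ρ(UU)`, `cent_UU`, `isTv_zl`, `nr`); the product of
the elements of `O` is `t ρ a` and is fixed by `ρ(Lv)`, `fix_Lv`. -/
theorem T0.even_index (hp : Pa m φ) (h : T0 ρ t T) {n : G} (hn : n ∈ normalizer (Et ρ t : Set G))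
    (hc : ¬ Commute n t) : Even T.index := by
  classical
  by_contra hodd
  rw [Nat.not_even_iff_odd] at hodd
  set N := normalizer (Et ρ t : Set G)
  have TN : T ≤ N := fun s hs => cj_eq_iff.1 (h.weak hp (by
    rintro _ ⟨y, hy, rfl⟩
    exact mul_mem (mul_mem hs (h.Et_le hy)) (inv_mem hs)))
  set E := Et ρ t with hE
  let _ : CommGroup E := { mul_comm := fun a b => Subtype.ext (h.toSt.el_Et.comm a.2 b.2) }
  let _ : MulDistribMulAction N E := MulDistribMulAction.compHom E (normalizerMonoidHom E)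
  have sm : ∀ (x : N) (u : E), ((x • u : E) : G) = x * u * (x : G)⁻¹ := fun _ _ => rfl
  let t0 : E := ⟨t, mem_sup_left (mem_zpowers t)⟩
  have : Fintype E := Fintype.ofFinite E
  set O := (MulAction.orbit N t0).toFinset with hO
  have mO : ∀ u, u ∈ O ↔ u ∈ MulAction.orbit N t0 := fun u => Set.mem_toFinset
  have cO : ∀ u ∈ O, IsConj t u := fun u hu => by
    obtain ⟨x, rfl⟩ := (mO u).1 hu
    exact isConj_iff.2 ⟨x, rfl⟩
  have oO : Odd O.card := by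
    rw [hO, ← Set.ncard_eq_toFinset_card', ← MulAction.index_stabilizer]
    refine hodd.of_dvd_nat ((index_dvd_of_le (H := T.subgroupOf N) fun x hx => Subtype.ext ?_).trans
      (relIndex_dvd_index_of_le TN))
    exact mul_inv_eq_iff_eq_mul.2 (h.comm hx)
  set V := ρ.range.subgroupOf E
  have e1 : ¬ Odd (O.filter (· ∈ V)).card := fun e => by
    obtain ⟨_, ⟨u, hu, rfl⟩, h1⟩ := exists_fixed (pgroup_UU.map ρ)
      (O := Subtype.val '' ((O.filter (· ∈ V) : Finset E) : Set E))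
      (by rwa [Set.ncard_image_of_injective _ Subtype.val_injective, Set.ncard_coe_finset]) (by
        rintro _ ⟨a, ha, rfl⟩ _ ⟨u, hu, rfl⟩
        rw [Finset.mem_coe, Finset.mem_filter] at hu
        refine ⟨(⟨ρ a, TN (h.US a ha)⟩ : N) • u, Finset.mem_coe.2 (Finset.mem_filter.2
          ⟨(mO _).2 (MulAction.mem_orbit_of_mem_orbit _ ((mO u).1 hu.1)), ?_⟩), rfl⟩
        exact ρ.range.mul_mem (ρ.range.mul_mem ⟨a, rfl⟩ hu.2) (ρ.range.inv_mem ⟨a, rfl⟩))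
    rw [Finset.mem_coe, Finset.mem_filter] at hu
    obtain ⟨a, ha, e⟩ := h.fr.lift_inv (qs hp) hu.2 (h.toSt.el_Et _ u.2)
    obtain ⟨c, hc, rfl⟩ := cent_UU hp (two_of_sq ha) fun b hb =>
      h.fr.commute (qs hp) (two_of_sq ha) (e ▸ (h1 _ (mem_map_of_mem ρ hb)).symm)
    have c1 : IsConj t (ρ (zl φ 0 c)) := e ▸ cO u hu.1
    refine h.nr hp (isTv_zl hp (zero_ne_la (by have := hp.six; omega)) hc ?_) c1
    rintro rfl
    rw [zl_zero, map_one, isConj_one_left] at c1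
    exact h.toSt.ne_one c1
  have e2 : Odd (O.filter (· ∉ V)).card := by
    rw [← Finset.card_filter_add_card_filter_not (· ∈ V)] at oO
    exact (Nat.odd_add'.1 oO).2 (Nat.not_odd_iff_even.1 e1)
  have om : ∀ u : E, ∃ a ∈ AA m φ, (u : G) = ρ a ∨ (u : G) = t * ρ a := fun u => h.toSt.mem_Et.1 u.2
  have e3 : (QuotientGroup.mk' V) (∏ u ∈ O, u) = QuotientGroup.mk' V t0 := by
    rw [map_prod, Finset.prod_congr rfl (g := fun u => if u ∈ V then 1 else QuotientGroup.mk' V t0),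
      Finset.prod_ite, Finset.prod_const_one, one_mul, Finset.prod_const]
    · obtain ⟨k, hk⟩ := e2
      rw [hk, pow_succ, pow_mul, sq, ← map_mul, show t0 * t0 = 1 from Subtype.ext h.toSt.tt, map_one,
        one_pow, one_mul]
    · intro u hu
      split_ifs with h1
      · exact (QuotientGroup.eq_one_iff u).2 h1
      · obtain ⟨a, -, e | e⟩ := om u
        · exact (h1 ⟨a, e.symm⟩).elim
        · have : t0⁻¹ * u ∈ V := show t⁻¹ * u ∈ ρ.range from ⟨a, by rw [e, inv_mul_cancel_left]⟩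
          exact (QuotientGroup.eq.2 this).symm
  have fx : ∀ x : N, x • (∏ u ∈ O, u) = ∏ u ∈ O, u := fun x => by
    rw [Finset.smul_prod']
    exact Finset.prod_bijective _ (MulAction.bijective x)
      (fun u => by
        rw [mO, mO]
        exact ⟨MulAction.mem_orbit_of_mem_orbit x, fun hu => by
          simpa using MulAction.mem_orbit_of_mem_orbit x⁻¹ hu⟩) fun _ _ => rfl
  obtain ⟨a, ha, e | e⟩ := om (∏ u ∈ O, u)
  · have := mul_mem (show (∏ u ∈ O, u) ∈ V from ⟨a, e.symm⟩) (QuotientGroup.eq.1 e3)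
    rw [mul_inv_cancel_left] at this
    exact h.toSt.not_mem (qs hp) this
  have cm : ∀ x ∈ N, Commute x (t * ρ a) := fun x hx =>
    e ▸ mul_inv_eq_iff_eq_mul.1 (congrArg Subtype.val (fx ⟨x, hx⟩))
  have a1 := fix_Lv hp ha fun g h1 => (h.fr.commute (qs hp) (two_of_sq (el_AA a ha)) (by
    have := cm (ρ g) (h.toSt.norm_Et (h.tc g).symm (norm_map (Lv_norm hp h1)))
    simpa using ((h.tc g).symm.inv_right.mul_right this).symm)).symm
  have := cm n hn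
  rw [a1, map_one, mul_one] at this
  exact hc this

theorem St.st1 (hp : Pa m φ) (h : St ρ t) {N : Subgroup G} (hN : Al N) : ∃ β, St1 (ru ρ β) t := by
  obtain ⟨β, T, hT⟩ := h.exists_T0 hp
  have ev : Even T.index := by
    by_contra ho
    obtain ⟨u, h1, h2, h3⟩ := hN.zstar h.t2
      (hT.pg.toSylow (odd_iff_not.1 (Nat.not_even_iff_odd.1 ho))) hT.tT
    obtain ⟨a, ha, a1, hc⟩ := hT.exists_inner hp h2 h3 h1
    obtain ⟨n, hn, hc⟩ := hT.toSt.exists_norm hp ha a1 hc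
    exact ho (hT.even_index hp hn hc)
  obtain ⟨y, h1, h2, h3⟩ := hT.mv hp ev
  exact ⟨β, hT.toSt, y, h1, h2, hT.toSt.norm_A hp h1 h3⟩

end CL.UM
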