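import Cfsg.Agent.INV.UM.K
import Cfsg.Agent.INV.UM.Hm

/-!
Automorphisms of `AA` preserving the elements of rank one.
-/

set_option autoImplicit false
set_option linter.unusedSectionVars false
set_option linter.unusedVariables false

namespace CL.UM

open Matrix Subgroup CL.SC CL.UM.Blk
open scoped commutatorElement

variable {m : ℕ} [NeZero m] {F : Type*} [Field F] [Finite F] [CharP F 2] {φ : F ≃+* F}

/-- `γ` is induced by the isometry `g` fixing `e 0` -/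
def Rp (γ : MulAut (AA m φ)) (g : GL (Fin m) F) : Prop :=
  GUm φ g ∧ Sw g ∧ (g : Matrix (Fin m) (Fin m) F) *ᵥ Pi.single 0 1 = Pi.single 0 1 ∧
    ∀ a : AA m φ, ((γ a : SU m φ) : SL m F) = inn g ((a : SU m φ) : SL m F)

/-- `γ` is conjugation by `s` -/
def Cn (γ : MulAut (AA m φ)) (s : SU m φ) : Prop := ∀ a : AA m φ, (γ a : SU m φ) = s * a * s⁻¹

/-- the hypotheses on the group `Γ` -/
structure Gm (Γ : Subgroup (MulAut (AA m φ))) : Prop where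
  rp : ∀ γ ∈ Γ, ∃ g, Rp γ g
  xs : ∀ p r u, Lo p → Lo r → p ≠ r → r ≠ 0 → ∃ γ ∈ Γ, Cn γ (xs φ p r u)
  h1 : ∀ d, D1 φ d → ∃ γ ∈ Γ, Cn γ (dh φ d)

variable {Γ : Subgroup (MulAut (AA m φ))} {μ : MulAut (AA m φ)}

namespace TR

theorem inv_mv (g : GL (Fin m) F) (u : Fin m → F) : ((g⁻¹ : GL (Fin m) F) : Matrix (Fin m) (Fin m) F) *ᵥ
    ((g : Matrix (Fin m) (Fin m) F) *ᵥ u) = u := by rw [mulVec_mulVec, Units.inv_mul, one_mulVec]

theorem mv_inv (g : GL (Fin m) F) (u : Fin m → F) : (g : Matrix (Fin m) (Fin m) F) *ᵥ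
    (((g⁻¹ : GL (Fin m) F) : Matrix (Fin m) (Fin m) F) *ᵥ u) = u := by
  rw [mulVec_mulVec, Units.mul_inv, one_mulVec]

theorem lo0 (hp : Pa m φ) : Lo (0 : Fin m) := (exists_lo3 hp).choose_spec.choose_spec.1

theorem sh {u v : Fin m → F} (h : ∀ j, j ≠ 0 → u j = v j) : ∃ s, u = v + Pi.single 0 s :=
  ⟨u 0 - v 0, funext fun j => by
    by_cases e : j = 0
    · rw [e, Pi.add_apply, Pi.single_eq_same, add_sub_cancel]
    · rw [Pi.add_apply, Pi.single_eq_of_ne e, add_zero, h j e]⟩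

theorem sh' (v : Fin m → F) (s : F) {j : Fin m} (h : j ≠ 0) : (v + Pi.single 0 s : Fin m → F) j = v j := by
  rw [Pi.add_apply, Pi.single_eq_of_ne h, add_zero]

theorem sh0 {v : Fin m → F} (h : ¬ ∃ j, j ≠ 0 ∧ v j ≠ 0) : ∃ s, v = Pi.single 0 s :=
  (sh (v := 0) fun j e => by_contra fun n => h ⟨j, e, n⟩).imp fun _ e => e.trans (zero_add _)

theorem vv (v : Fin m → F) : v + v = 0 := funext fun _ => CharTwo.add_self_eq_zero _

theorem lo_of {v : Fin m → F} (hv : v ∈ Wv m F) {j : Fin m} (h : v j ≠ 0) : Lo j :=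
  by_contra fun n => h (mem_Wv.1 hv j n)

theorem eq_mul_zl (hp : Pa m φ) {a b : SU m φ} (ha : a ∈ AA m φ) (hb : b ∈ AA m φ)
    (h : ∀ i j, Lo i → Lo j → i ≠ 0 → en b i j = en a i j) : ∃ c, φ c = c ∧ b = a * zl φ 0 c := by
  have l := lo0 hp
  have hc : φ (en b 0 0 - en a 0 0) = en b 0 0 - en a 0 0 := by rw [map_sub, en_herm ha l l, en_herm hb l l]
  refine ⟨_, hc, AA_ext hb (mul_mem ha (zl_mem_AA l _)) fun i j hi hj => ?_⟩
  rw [en_mul ha (zl_mem_AA l _) hi hj, en_zl l hc hi hj]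
  split_ifs with e
  · rw [e.1, e.2, add_sub_cancel]
  · by_cases i0 : i = 0
    · rw [add_zero, ← en_herm ha hj hi, ← en_herm hb hj hi, h j i hj hi fun k => e ⟨i0, k⟩]
    · rw [add_zero, h i j hi hj i0]

end TR

open TR

theorem Rp.fix {γ : MulAut (AA m φ)} {g : GL (Fin m) F} (h : Rp γ g) (s : F) :
    (g : Matrix (Fin m) (Fin m) F) *ᵥ Pi.single 0 s = Pi.single 0 s := by
  rw [← mul_one s, ← smul_eq_mul, Pi.single_smul, mulVec_smul, h.2.2.1]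

theorem Rp.inv {γ : MulAut (AA m φ)} {g : GL (Fin m) F} (h : Rp γ g) : Rp γ⁻¹ g⁻¹ :=
  ⟨h.1.inv, h.2.1.inv, by nth_rewrite 1 [← h.2.2.1]; exact inv_mv _ _, fun a => by
    have := h.2.2.2 (γ⁻¹ a)
    rw [MulAut.apply_inv_self] at this
    rw [this, map_inv, MulAut.inv_apply_self]⟩

theorem rp_one : Rp (1 : MulAut (AA m φ)) 1 :=
  ⟨gum_one, fun v hv => (one_mulVec v).symm ▸ hv, one_mulVec _, fun a => by rw [map_one]; rfl⟩

theorem Rp.mul {γ γ' : MulAut (AA m φ)} {g g' : GL (Fin m) F} (h : Rp γ g) (h' : Rp γ' g') :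
    Rp (γ * γ') (g * g') :=
  ⟨h.1.mul h'.1, h.2.1.mul h'.2.1, by rw [Units.val_mul, ← mulVec_mulVec, h'.2.2.1, h.2.2.1], fun a => by
    rw [MulAut.mul_apply, h.2.2.2, h'.2.2.2, map_mul, MulAut.mul_apply]⟩

theorem Rp.tv (hp : Pa m φ) {γ : MulAut (AA m φ)} {g : GL (Fin m) F} (h : Rp γ g) {v : Fin m → F}
    (hv : v ∈ Wv m F) :
    (γ ⟨tv φ v, tv_mem hp hv⟩ : SU m φ) = tv φ ((g : Matrix (Fin m) (Fin m) F) *ᵥ v) := Subtype.ext ((h.2.2.2 _).trans (tv_inn hp h.1 (hf_W hv hv)))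

/-- `g v = c v • v` (`tv_inj`); compare `e 0`, `v`, `e 0 + v` -/
theorem Rp.one (hp : Pa m φ) {g : GL (Fin m) F} (h : Rp (1 : MulAut (AA m φ)) g) {v : Fin m → F}
    (hv : v ∈ Wv m F) : (g : Matrix (Fin m) (Fin m) F) *ᵥ v = v := by
  by_cases e : ∃ j, j ≠ 0 ∧ v j ≠ 0
  · obtain ⟨j, j0, e⟩ := e
    have k : ∀ {v : Fin m → F}, v ∈ Wv m F → ∃ c : F, (g : Matrix (Fin m) (Fin m) F) *ᵥ v = c • v :=
      fun {v} hv => (tv_inj hp (hf_W hv hv) (hf_W (h.2.1 v hv) (h.2.1 v hv)) (h.tv hp hv)).imp fun _ k => k.2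
    obtain ⟨c, hc⟩ := k hv
    obtain ⟨c', hc'⟩ := k (add_mem hv (single_mem_Wv (lo0 hp) 1))
    rw [mulVec_add, hc, h.fix] at hc'
    have h1 := congrFun hc' j
    have h2 := congrFun hc' 0
    rw [sh' _ _ j0, Pi.smul_apply, Pi.smul_apply, sh' _ _ j0, smul_eq_mul, smul_eq_mul, mul_left_inj' e] at h1
    simp only [Pi.add_apply, Pi.smul_apply, Pi.single_eq_same, smul_eq_mul, ← h1] at h2
    rw [hc, show c = 1 by linear_combination -h2, one_smul]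
  · obtain ⟨s, rfl⟩ := sh0 e
    exact h.fix s

theorem Rp.uq (hp : Pa m φ) {γ : MulAut (AA m φ)} {g g' : GL (Fin m) F} (h : Rp γ g) (h' : Rp γ g')
    {v : Fin m → F} (hv : v ∈ Wv m F) :
    (g : Matrix (Fin m) (Fin m) F) *ᵥ v = (g' : Matrix (Fin m) (Fin m) F) *ᵥ v := by
  have := (inv_mul_cancel γ ▸ h'.inv.mul h).one hp hv
  rw [Units.val_mul, ← mulVec_mulVec] at this
  rw [← mv_inv g' (_ *ᵥ v), this]

theorem Rp.ext (hp : Pa m φ) {γ γ' : MulAut (AA m φ)} {g g' : GL (Fin m) F} (h : Rp γ g) (h' : Rp γ' g')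
    (e : ∀ v ∈ Wv m F, (g : Matrix (Fin m) (Fin m) F) *ᵥ v = (g' : Matrix (Fin m) (Fin m) F) *ᵥ v) :
    γ = γ' := MulEquiv.ext fun a => by
  obtain ⟨b, hb, k⟩ := tv_gen hp (K := (γ.toMonoidHom.eqLocus γ'.toMonoidHom).map (AA m φ).subtype)
    (fun v hv => ⟨⟨_, tv_mem hp hv⟩, Subtype.ext ((h.tv hp hv).trans ((congrArg _ (e v hv)).trans
      (h'.tv hp hv).symm)), rfl⟩) a.2
  exact (Subtype.ext k : b = a) ▸ hb

theorem Rp.nz {γ : MulAut (AA m φ)} {g : GL (Fin m) F} (h : Rp γ g) {v : Fin m → F}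
    (hv : ∃ j, j ≠ 0 ∧ v j ≠ 0) : ∃ j, j ≠ 0 ∧ ((g : Matrix (Fin m) (Fin m) F) *ᵥ v) j ≠ 0 :=
  by_contra fun n => by
    obtain ⟨s, e⟩ := sh0 n
    obtain ⟨j, j0, k⟩ := hv
    rw [← inv_mv g v, e, h.inv.fix] at k
    exact k (Pi.single_eq_of_ne j0 _)

theorem Cn.rp (hp : Pa m φ) {γ : MulAut (AA m φ)} {l : SU m φ} (h : Cn γ l) (hl : l ∈ Lf0 φ 0) :
    Rp γ (SpecialLinearGroup.toGL (l : SL m F)) :=
  ⟨gum_toGL hp l, fun _ => Lv_sw hp (Lf0_le _ hl), Lf0_fix hp (lo0 hp) hl 1, fun a => by rw [h a, conj_inn]⟩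

theorem Gm.lf (h : Gm Γ) {l : SU m φ} (hl : l ∈ Lf0 φ 0) : ∃ γ ∈ Γ, Cn γ l := by
  induction hl using closure_induction with
  | mem x hx =>
    obtain ⟨p, r, u, h1, h2, h3, h4, rfl⟩ := hx
    exact h.xs p r u h1 h2 h3 h4
  | one => exact ⟨1, one_mem _, fun a => by simp⟩
  | mul x y _ _ h1 h2 =>
    obtain ⟨γ, m1, h1⟩ := h1
    obtain ⟨γ', m2, h2⟩ := h2
    exact ⟨_, mul_mem m1 m2, fun a => by rw [MulAut.mul_apply, h1, h2]; group⟩
  | inv x _ h1 =>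
    obtain ⟨γ, m1, h1⟩ := h1
    refine ⟨_, inv_mem m1, fun a => ?_⟩
    have := h1 (γ⁻¹ a)
    rw [MulAut.apply_inv_self] at this
    rw [this]; group

theorem Gm.trans (hp : Pa m φ) (h : Gm Γ) {v w : Fin m → F} (hv : v ∈ Wv m F) (hw : w ∈ Wv m F)
    (hv0 : ∃ j, j ≠ 0 ∧ v j ≠ 0) (hw0 : ∃ j, j ≠ 0 ∧ w j ≠ 0) :
    ∃ γ ∈ Γ, ∃ g, Rp γ g ∧ (g : Matrix (Fin m) (Fin m) F) *ᵥ v = w := by
  obtain ⟨l, hl, e⟩ := Lf0_trans hp (lo0 hp) hv hw hv0 hw0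
  obtain ⟨γ, hγ, k⟩ := h.lf hl
  exact ⟨γ, hγ, _, k.rp hp hl, e⟩

/-- `fix_row0` -/
theorem Gm.fix (hp : Pa m φ) (h : Gm Γ) {a : AA m φ} :
    (∀ γ ∈ Γ, γ a = a) ↔ ∃ c, φ c = c ∧ (a : SU m φ) = zl φ 0 c := by
  have l := lo0 hp
  refine ⟨fun k => fix_row0 hp a.2 fun r u hr r0 => ?_, fun ⟨c, hc, e⟩ γ hγ => ?_⟩
  · obtain ⟨γ, hγ, e⟩ := h.xs 0 r u l hr r0.symm r0
    exact mul_inv_eq_iff_eq_mul.1 ((e a).symm.trans (by rw [k γ hγ]))
  · obtain ⟨g, hg⟩ := h.rp γ hγ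
    obtain ⟨b, rfl⟩ := exists_norm hp.ne hp.sq hc
    obtain rfl : a = ⟨_, tv_mem hp (single_mem_Wv l b)⟩ := Subtype.ext (e.trans (tv_single hp (l.ne_rev l) b).symm)
    exact Subtype.ext ((hg.tv hp (single_mem_Wv l b)).trans (by rw [hg.fix]))

/-- the elements acting trivially on `Wv / F e 0` -/
def Y0 (Γ : Subgroup (MulAut (AA m φ))) : Set (MulAut (AA m φ)) :=
  {γ | γ ∈ Γ ∧ ∃ g, Rp γ g ∧ ∀ v ∈ Wv m F, ∀ j, j ≠ 0 → ((g : Matrix (Fin m) (Fin m) F) *ᵥ v) j = v j}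

theorem TR.Y0_sh {γ : MulAut (AA m φ)} (h : γ ∈ Y0 Γ) : ∃ g, Rp γ g ∧ ∀ v ∈ Wv m F, ∃ s,
    (g : Matrix (Fin m) (Fin m) F) *ᵥ v = v + Pi.single 0 s :=
  h.2.imp fun _ k => ⟨k.1, fun v hv => sh (k.2 v hv)⟩

theorem TR.Y0_comm (hp : Pa m φ) {γ γ' : MulAut (AA m φ)} (h : γ ∈ Y0 Γ) (h' : γ' ∈ Y0 Γ) :
    γ * γ' = γ' * γ := by
  obtain ⟨g, r, k⟩ := Y0_sh h
  obtain ⟨g', r', k'⟩ := Y0_sh h'
  refine (r.mul r').ext hp (r'.mul r) fun v hv => ?_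
  obtain ⟨s, e⟩ := k v hv
  obtain ⟨s', e'⟩ := k' v hv
  rw [Units.val_mul, Units.val_mul, ← mulVec_mulVec, ← mulVec_mulVec, e, e', mulVec_add, mulVec_add, e, e',
    r.fix, r'.fix, add_right_comm]

theorem TR.Y0_sq (hp : Pa m φ) {γ : MulAut (AA m φ)} (h : γ ∈ Y0 Γ) : γ * γ = 1 := by
  obtain ⟨g, r, k⟩ := Y0_sh h
  refine (r.mul r).ext hp rp_one fun v hv => ?_
  obtain ⟨s, e⟩ := k v hv
  rw [Units.val_mul, ← mulVec_mulVec, e, mulVec_add, e, r.fix, add_assoc, vv, add_zero, Units.val_one,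
    one_mulVec]

theorem TR.Y0_conj {δ γ : MulAut (AA m φ)} (hδ : δ ∈ Γ) (h : Gm Γ) (hγ : γ ∈ Y0 Γ) :
    δ * γ * δ⁻¹ ∈ Y0 Γ := by
  obtain ⟨g, r, k⟩ := Y0_sh hγ
  obtain ⟨d, hd⟩ := h.rp δ hδ
  refine ⟨mul_mem (mul_mem hδ hγ.1) (inv_mem hδ), _, (hd.mul r).mul hd.inv, fun v hv j j0 => ?_⟩
  obtain ⟨s, e⟩ := k _ (hd.2.1.inv v hv)
  rw [Units.val_mul, Units.val_mul, ← mulVec_mulVec, ← mulVec_mulVec, e, mulVec_add, mv_inv, hd.fix, sh' _ _ j0]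

theorem TR.Y0_one : (1 : MulAut (AA m φ)) ∈ Y0 Γ :=
  ⟨one_mem _, 1, rp_one, fun v _ j _ => by rw [Units.val_one, one_mulVec]⟩

theorem TR.Y0_mul {γ γ' : MulAut (AA m φ)} (h : γ ∈ Y0 Γ) (h' : γ' ∈ Y0 Γ) : γ * γ' ∈ Y0 Γ := by
  obtain ⟨g, r, k⟩ := h.2
  obtain ⟨g', r', k'⟩ := h'.2
  exact ⟨mul_mem h.1 h'.1, _, r.mul r', fun v hv j j0 => by
    rw [Units.val_mul, ← mulVec_mulVec, k _ (r'.2.1 v hv) j j0, k' v hv j j0]⟩

theorem Gm.y0 (hp : Pa m φ) (h : Gm Γ) {r : Fin m} (hr : Lo r) (r0 : r ≠ 0) (u : F) :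
    ∃ γ ∈ Y0 Γ, Cn γ (CL.UM.xs φ 0 r u) ∧ ∃ g, Rp γ g ∧ ∀ v ∈ Wv m F,
      (g : Matrix (Fin m) (Fin m) F) *ᵥ v = v + Pi.single 0 (u * v r) := by
  have l := lo0 hp
  obtain ⟨γ, hγ, k⟩ := h.xs 0 r u l hr r0.symm r0
  have p := k.rp hp (subset_closure ⟨0, r, u, l, hr, r0.symm, r0, rfl⟩)
  have e : ∀ v ∈ Wv m F, (CL.UM.xs φ 0 r u : SL m F).1 *ᵥ v = v + Pi.single 0 (u * v r) := fun v hv => by
    rw [xs_mulVec hp (Ind.of_lo l hr r0.symm).1, mem_Wv.1 hv _ l.rev, mul_zero, Pi.single_zero, add_zero]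
  exact ⟨γ, ⟨hγ, _, p, fun v hv j j0 => (congrFun (e v hv) j).trans (sh' _ _ j0)⟩, k, _, p, e⟩

/-- `Y0` is a normal elementary abelian subgroup of `Γ`.  A normal 2-subgroup `Y'` of `Γ` lies in
`Y0`: it acts on the finite vector space `Wv / F e 0` (by `Rp.one` the action of `γ ∈ Γ` on `Wv` is
well defined and multiplicative), so `V = {v ∈ Wv | ∀ γ ∈ Y', g v - v ∈ F e 0}` properly contains
`F e 0`; it is invariant under `Γ`, so under `Lf0 0`; `Lf0_trans`.  Apply this to `μ Y0 μ⁻¹`. -/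
theorem Gm.norm_Y0 (hp : Pa m φ) (h : Gm Γ) (hμ : μ ∈ normalizer (Γ : Set (MulAut (AA m φ))))
    {γ : MulAut (AA m φ)} (hγ : γ ∈ Y0 Γ) : μ * γ * μ⁻¹ ∈ Y0 Γ := by
  have n : ∀ {δ}, δ ∈ Y0 Γ → μ * δ * μ⁻¹ ∈ Γ := fun hδ => (mem_normalizer_iff.1 hμ _).1 hδ.1
  let S : (Fin m → F) → Set (MulAut (AA m φ)) := fun v => {δ | δ ∈ Y0 Γ ∧ ∀ g, Rp (μ * δ * μ⁻¹) g →
    ∃ s, (g : Matrix (Fin m) (Fin m) F) *ᵥ v = v + Pi.single 0 s}
  obtain ⟨i, -, -, hi, -, i1, -⟩ := exists_lo3 hp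
  have i0 : i ≠ 0 := fun e => by rw [e] at i1; exact absurd i1 (by simp)
  obtain ⟨v, ⟨hv, v0⟩, mx⟩ := Set.exists_max_image {v | v ∈ Wv m F ∧ ∃ j, j ≠ 0 ∧ v j ≠ 0}
    (fun v => (S v).ncard) (Set.toFinite _) ⟨_, single_mem_Wv hi 1, i, i0, by simp⟩
  have all : ∀ δ ∈ Y0 Γ, δ ∈ S v := fun δ hδ => by_contra fun k => by
    obtain ⟨g, hg⟩ := h.rp _ (n hδ)
    have w1 := add_mem (hg.2.1 v hv) hv
    refine (mx _ ⟨w1, by_contra fun z => k ⟨hδ, fun g' hg' => ?_⟩⟩).not_gt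
      (Set.ncard_lt_ncard ((Set.ssubset_iff_of_subset (s := S v) (t := S _)
        fun ε hε => ⟨hε.1, fun g' hg' => ?_⟩).2 ⟨δ, ⟨hδ, fun g' hg' => ⟨0, ?_⟩⟩, k⟩))
    · obtain ⟨s, e⟩ := sh0 z
      exact ⟨s, by rw [hg'.uq hp hg hv, ← e, add_comm _ v, ← add_assoc, vv, zero_add]⟩
    · obtain ⟨s, e⟩ := hε.2 g' hg'
      have c : μ * ε * μ⁻¹ * (μ * δ * μ⁻¹) = μ * δ * μ⁻¹ * (μ * ε * μ⁻¹) := by
        rw [conj_mul, conj_mul, Y0_comm hp hε.1 hδ]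
      have := (hg'.mul hg).uq hp (c ▸ hg.mul hg') hv
      rw [Units.val_mul, Units.val_mul, ← mulVec_mulVec, ← mulVec_mulVec, e, mulVec_add, hg.fix] at this
      exact ⟨0, by rw [mulVec_add, this, e, add_add_add_comm, vv]; simp⟩
    · have c : μ * δ * μ⁻¹ * (μ * δ * μ⁻¹) = 1 := by rw [conj_mul, Y0_sq hp hδ, mul_one, mul_inv_cancel]
      have := (c ▸ hg.mul hg).one hp hv
      rw [Units.val_mul, ← mulVec_mulVec] at this
      rw [hg'.uq hp hg w1, mulVec_add, this, add_comm v]; simp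
  obtain ⟨g, hg⟩ := h.rp _ (n hγ)
  refine ⟨n hγ, g, hg, fun w hw j j0 => ?_⟩
  by_cases w0 : ∃ j, j ≠ 0 ∧ w j ≠ 0
  · obtain ⟨δ, hδ, d, hd, rfl⟩ := h.trans hp hv hw v0 w0
    have k := Y0_conj ((mem_normalizer_iff''.1 hμ _).1 (inv_mem hδ)) h hγ
    obtain ⟨s, e⟩ := (all _ k).2 (d⁻¹ * g * d) (by convert (hd.inv.mul hg).mul hd using 1; group)
    rw [Units.val_mul, Units.val_mul, ← mulVec_mulVec, ← mulVec_mulVec] at e
    rw [← mv_inv d (_ *ᵥ (_ *ᵥ v)), e, mulVec_add, hd.fix, sh' _ _ j0]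
  · obtain ⟨s, rfl⟩ := sh0 w0
    rw [hg.fix]

/-- rank one modulo the highest root group -/
def R1 (a : SU m φ) : Prop :=
  ∃ w ∈ Wv m F, (∃ j, j ≠ 0 ∧ w j ≠ 0) ∧ ∃ c, φ c = c ∧ a = tv φ w * zl φ 0 c

theorem Gm.act (hp : Pa m φ) (h : Gm Γ) {γ : MulAut (AA m φ)} (hγ : γ ∈ Γ) {g : GL (Fin m) F}
    (r : Rp γ g) {w : Fin m → F} (hw : w ∈ Wv m F) {c : F} (hc : φ c = c) {a : AA m φ}
    (e : (a : SU m φ) = tv φ w * zl φ 0 c) :
    (γ a : SU m φ) = tv φ ((g : Matrix (Fin m) (Fin m) F) *ᵥ w) * zl φ 0 c := by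
  obtain rfl : a = ⟨_, tv_mem hp hw⟩ * ⟨_, zl_mem_AA (lo0 hp) c⟩ := Subtype.ext e
  rw [map_mul, coe_mul, r.tv hp hw, (h.fix hp).2 ⟨c, hc, rfl⟩ γ hγ]

/-- The elements of `Y0` act as `g = 1 + e 0 x^T` for all rows `x` supported on `0 < r < k`
(products of `xs 0 r u`).  With `M = en a`, `g M g* = M` iff `y = M φ(x)` satisfies `y j = 0` for
`j ≠ 0` and `y 0 ∈ F0`.  Let `K = {x | (M φ x) j = 0, j ≠ 0}`, an `F`-subspace of codimension `r`,
the rank of the lower block `M'`.  The stabiliser has index `1` or `q` in `K`, so the orbit has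
length `q ^ (2 r)` or `q ^ (2 r + 1)`, and `q ^ 2` iff `r = 1` and `y 0 = 0` on `K`.  Then
`M' = u u*` (a diagonal entry is non-zero as the minors vanish; `exists_norm`), column `0` of `M`
is `s u` below, and `a = tv (u + φ s e 0) * zl 0 c`.  Conversely for `a = tv w * zl 0 c` the orbit
is `{tv (w + s e 0) * zl 0 c}`. -/
theorem Gm.r1_iff (hp : Pa m φ) (h : Gm Γ) {a : AA m φ} :
    R1 (a : SU m φ) ↔ {b : AA m φ | ∃ γ ∈ Y0 Γ, b = γ a}.ncard = qq F ^ 2 := by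
  have l := lo0 hp
  refine ⟨fun ⟨w, hw, ⟨j, j0, wj⟩, c, hc, e⟩ => ?_, fun hO => ?_⟩
  · have hj := lo_of hw wj
    have m1 : ∀ s : F, w + Pi.single 0 s ∈ Wv m F := fun s => add_mem hw (single_mem_Wv l s)
    let f : F → AA m φ := fun s => ⟨tv φ (w + Pi.single 0 s) * zl φ 0 c, mul_mem (tv_mem hp (m1 s)) (zl_mem_AA l c)⟩
    have : {b : AA m φ | ∃ γ ∈ Y0 Γ, b = γ a} = Set.range f := Set.ext fun b => ⟨?_, ?_⟩
    · rw [this, Set.ncard_range_of_injective fun s s' e => ?_, hp.card]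
      have := congrArg (en · 0 j) (mul_right_cancel (congrArg Subtype.val e))
      simp only [en_tv hp (m1 _) l hj, sh' _ _ j0, Pi.add_apply, Pi.single_eq_same] at this
      exact add_left_cancel (mul_right_cancel₀ ((map_ne_zero φ).2 wj) this)
    · rintro ⟨γ, hγ, rfl⟩
      obtain ⟨g, r, k⟩ := Y0_sh hγ
      obtain ⟨s, k⟩ := k w hw
      exact ⟨s, Subtype.ext (by rw [h.act hp hγ.1 r hw hc e, k])⟩
    · rintro ⟨s, rfl⟩
      obtain ⟨γ, hγ, -, g, r, k⟩ := h.y0 hp hj j0 (s / w j)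
      exact ⟨γ, hγ, Subtype.ext (by rw [h.act hp hγ.1 r hw hc e, k w hw, div_mul_cancel₀ _ wj])⟩
  by_cases z : ∃ i j, Lo i ∧ Lo j ∧ i ≠ 0 ∧ j ≠ 0 ∧ en a.1 i j ≠ 0
  swap
  · have : {b : AA m φ | ∃ γ ∈ Y0 Γ, b = γ a} ⊆ Set.range fun c : {c : F // φ c = c} =>
        (⟨a.1 * zl φ 0 c, mul_mem a.2 (zl_mem_AA l _)⟩ : AA m φ) := by
      rintro _ ⟨γ, hγ, rfl⟩
      obtain ⟨g, r, k⟩ := hγ.2
      obtain ⟨c, hc, e⟩ := eq_mul_zl hp a.2 (γ a).2 fun i j hi hj i0 => by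
        have g0 : ∀ j, (g : Matrix (Fin m) (Fin m) F) j 0 = Pi.single (M := fun _ => F) 0 1 j := fun j => by
          rw [← r.2.2.1, mulVec_single_one, col_apply]
        have gi : ∀ s, Lo s → (g : Matrix (Fin m) (Fin m) F) i s = Pi.single (M := fun _ => F) s 1 i :=
          fun s hs => by rw [← k _ (single_mem_Wv hs 1) i i0, mulVec_single_one, col_apply]
        rw [(en_inn hp r.1 r.2.1 a.2 (r.2.2.2 a)).2 i j hi hj, Finset.sum_eq_single i (fun s _ n =>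
          Finset.sum_eq_zero fun _ _ => ite_eq_right_iff.2 fun k => by
            rw [gi s k.1, Pi.single_eq_of_ne n.symm, zero_mul, zero_mul]) fun n => (n (Finset.mem_univ _)).elim,
          Finset.sum_eq_single 0 (fun s _ n => ite_eq_right_iff.2 fun k => by
            rw [by_contra fun y => z ⟨i, s, hi, k.2, i0, n, y⟩, mul_zero, zero_mul])
          fun n => (n (Finset.mem_univ _)).elim, if_pos ⟨hi, l⟩, gi i hi, g0, Pi.single_eq_same, one_mul]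
        by_cases j0 : j = 0
        · rw [j0, Pi.single_eq_same, map_one, mul_one]
        · rw [Pi.single_eq_of_ne j0, map_zero, mul_zero, by_contra fun y => z ⟨i, j, hi, hj, i0, j0, y⟩]
      exact ⟨⟨c, hc⟩, Subtype.ext e.symm⟩
    have h1 := (Set.ncard_le_ncard this).trans (Set.image_univ ▸ Set.ncard_image_le)
    have h2 := hp.q2
    rw [hO, Set.ncard_univ, hp.card_fix] at h1
    exact absurd h1 (by nlinarith)
  obtain ⟨i, j, hi, hj, i0, j0, z⟩ := z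
  have cv : ∀ {γ : MulAut (AA m φ)} {r : Fin m} {u : F}, Cn γ (CL.UM.xs φ 0 r u) → Lo r → r ≠ 0 →
      ∀ (b : AA m φ) {p s : Fin m}, Lo p → Lo s → en (γ b).1 p s = en b.1 p s +
        (if p = 0 then u * en b.1 r s else 0) + (if s = 0 then φ u * en b.1 p r else 0) +
          if p = 0 ∧ s = 0 then u * φ u * en b.1 r r else 0 := fun k hr r0 b _ _ h1 h2 => by
    rw [k b, en_xs_conj hp l hr r0.symm _ b.2 h1 h2]
  have inj : Set.InjOn (fun b : AA m φ => en b.1 i 0) {b : AA m φ | ∃ γ ∈ Y0 Γ, b = γ a} := by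
    refine Set.injOn_of_ncard_image_eq ?_
    rw [hO, ← hp.card, ← Set.ncard_univ]
    refine congrArg _ (Set.eq_univ_of_forall fun t => ?_)
    obtain ⟨γ, hγ, k, -⟩ := h.y0 hp hj j0 (φ ((t - en a.1 i 0) / en a.1 i j))
    exact ⟨γ a, ⟨γ, hγ, rfl⟩, by simp [cv k hj j0 a hi l, i0, hp.ff, z]⟩
  have h2 : (2 : F) = 0 := CharTwo.two_eq_zero
  have mn : ∀ r s, Lo r → Lo s → s ≠ 0 → en a.1 r s * en a.1 i j = en a.1 r j * en a.1 i s := by
    intro r s hr hs s0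
    have k : ∀ t : F, (∀ p, Lo p → p ≠ 0 → t * (en a.1 p s * en a.1 i j + en a.1 p j * en a.1 i s) = 0) ∧
        t * (en a.1 0 s * en a.1 i j + en a.1 0 j * en a.1 i s) +
          φ (t * (en a.1 0 s * en a.1 i j + en a.1 0 j * en a.1 i s)) = 0 := fun t => by
      obtain ⟨γ, hγ, k, -⟩ := h.y0 hp hs s0 (φ (t * en a.1 i j))
      obtain ⟨γ', hγ', k', -⟩ := h.y0 hp hj j0 (φ (t * en a.1 i s))
      have c1 : ∀ p, Lo p → p ≠ 0 → en (γ (γ' a)).1 p 0 =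
          en a.1 p 0 + t * (en a.1 p s * en a.1 i j + en a.1 p j * en a.1 i s) := fun p hp' p0 => by
        simp only [cv k hs s0 _ hp' l, cv k' hj j0 _ hp' l, cv k' hj j0 _ hp' hs, p0, s0, hp.ff, if_false,
          if_true, false_and, add_zero]
        ring
      have e : γ (γ' a) = a := inj ⟨_, Y0_mul hγ hγ', rfl⟩ ⟨1, Y0_one, rfl⟩ ((c1 i hi i0).trans (by
        linear_combination t * en a.1 i s * en a.1 i j * h2))
      have c2 : ∀ p, Lo p → p ≠ 0 → t * (en a.1 p s * en a.1 i j + en a.1 p j * en a.1 i s) = 0 :=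
        fun p hp' p0 => by have := c1 p hp' p0; rw [e] at this; linear_combination -this
      refine ⟨c2, ?_⟩
      have c3 := cv k hs s0 (γ' a) l l
      simp only [e, cv k' hj j0 _ l l, cv k' hj j0 _ l hs, cv k' hj j0 _ hs l, cv k' hj j0 _ hs hs, s0, hp.ff,
        if_false, if_true, and_self, and_false, false_and, add_zero] at c3
      rw [map_mul, map_add, map_mul, map_mul, en_herm a.2 l hs, en_herm a.2 l hj]
      simp only [map_mul] at c3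
      linear_combination -c3 - φ t * φ (en a.1 i s) * c2 j hj j0 - φ t * φ (en a.1 i j) * c2 s hs s0
    by_cases r0 : r = 0
    · obtain ⟨θ, hθ⟩ := hp.th
      refine r0 ▸ CharTwo.add_eq_zero.1 (by_contra fun n => ?_)
      have := (k (θ / (en a.1 0 s * en a.1 i j + en a.1 0 j * en a.1 i s))).2
      rw [div_mul_cancel₀ _ n, hθ] at this
      exact one_ne_zero this
    · exact CharTwo.add_eq_zero.1 ((one_mul _).symm.trans ((k 1).1 r hr r0))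
  have ii : en a.1 i i ≠ 0 := fun e => by
    have := mn j i hj hi i0
    rw [e, mul_zero, ← en_herm a.2 hi hj] at this
    exact mul_ne_zero ((map_ne_zero φ).2 z) z this
  obtain ⟨n, hn⟩ := exists_norm hp.ne hp.sq (en_herm a.2 hi hi)
  have n0 : n ≠ 0 := fun e => ii (by rw [← hn, e, zero_mul])
  have n1 : φ n ≠ 0 := (map_ne_zero φ).2 n0
  let w : Fin m → F := fun r => if Lo r then en a.1 r i / φ n else 0
  have hw : w ∈ Wv m F := mem_Wv.2 fun r hr => if_neg hr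
  have k : ∀ r s, Lo r → Lo s → s ≠ 0 → en a.1 r s = en (tv φ w) r s := fun r s hr hs s0 => by
    rw [en_tv hp hw hr hs]
    simp only [w, hr, hs, if_true, map_div₀, hp.ff, en_herm a.2 hs hi]
    rw [div_mul_div_comm, mul_comm (φ n), hn, eq_div_iff ii]
    refine mul_right_cancel₀ z ?_
    linear_combination en a.1 i i * mn r s hr hs s0 - en a.1 i s * mn r i hr hi i0
  obtain ⟨c, hc, e⟩ := eq_mul_zl hp (tv_mem hp hw) a.2 fun r s hr hs r0 => by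
    rw [← en_herm a.2 hs hr, k s r hs hr r0, en_herm (tv_mem hp hw) hs hr]
  exact ⟨w, hw, ⟨i, i0, by simp only [w, hi, if_true]; exact div_ne_zero ii n1⟩, c, hc, e⟩

theorem r1_unique (hp : Pa m φ) {w w' : Fin m → F} (hw : w ∈ Wv m F) (hw' : w' ∈ Wv m F)
    (h0 : ∃ j, j ≠ 0 ∧ w j ≠ 0) {c c' : F} (hc : φ c = c) (hc' : φ c' = c')
    (h : tv φ w * zl φ 0 c = tv φ w' * zl φ 0 c') : c = c' ∧ tv φ w = tv φ w' := by
  obtain ⟨j, j0, wj⟩ := h0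
  have l := lo0 hp
  have hj := lo_of hw wj
  have k : ∀ r s, Lo r → Lo s → w r * φ (w s) + (if r = 0 ∧ s = 0 then c else 0) =
      w' r * φ (w' s) + if r = 0 ∧ s = 0 then c' else 0 := fun r s hr hs => by
    rw [← en_tv hp hw hr hs, ← en_tv hp hw' hr hs, ← en_zl l hc hr hs, ← en_zl l hc' hr hs,
      ← en_mul (tv_mem hp hw) (zl_mem_AA l _) hr hs, h, en_mul (tv_mem hp hw') (zl_mem_AA l _) hr hs]
  have h1 := k 0 0 l l
  have h2 := k 0 j l hj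
  have h3 := k j 0 hj l
  have h4 := k j j hj hj
  simp only [j0, and_self, and_false, false_and, if_true, if_false, add_zero] at h1 h2 h3 h4
  obtain rfl : c = c' := mul_left_cancel₀ (mul_ne_zero wj ((map_ne_zero φ).2 wj)) (by
    linear_combination w j * φ (w j) * h1 - w j * φ (w 0) * h2 - w' 0 * φ (w' j) * h3 +
      w' 0 * φ (w' 0) * h4)
  exact ⟨rfl, mul_right_cancel h⟩

/-- `μ` preserves `R1` (`norm_Y0`, `r1_iff`); the constant is invariant under `Γ` (`r1_unique`,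
`μ γ = γ' μ`), and `Γ` is transitive on `Wv ∖ F e 0` (`Lf0_trans`). -/
theorem Gm.const (hp : Pa m φ) (h : Gm Γ) (hμ : μ ∈ normalizer (Γ : Set (MulAut (AA m φ)))) :
    ∃ f, φ f = f ∧ ∀ w (hw : w ∈ Wv m F), (∃ j, j ≠ 0 ∧ w j ≠ 0) → ∃ w' ∈ Wv m F,
      (∃ j, j ≠ 0 ∧ w' j ≠ 0) ∧ (μ ⟨tv φ w, tv_mem hp hw⟩ : SU m φ) = tv φ w' * zl φ 0 f := by
  obtain ⟨i, -, -, hi, -, i1, -⟩ := exists_lo3 hp
  have i0 : i ≠ 0 := fun e => by rw [e] at i1; exact absurd i1 (by simp)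
  have hv := single_mem_Wv (F := F) hi 1
  have v0 : ∃ j, j ≠ 0 ∧ Pi.single (M := fun _ => F) i 1 j ≠ 0 := ⟨i, i0, by simp⟩
  have k := (h.r1_iff hp (a := ⟨_, tv_mem hp hv⟩)).1 ⟨_, hv, v0, 0, map_zero _, by rw [zl_zero, mul_one]⟩
  rw [← Set.ncard_image_of_injective _ μ.injective] at k
  obtain ⟨v', hv', v0', f, hf, e⟩ := (h.r1_iff hp (a := μ ⟨_, tv_mem hp hv⟩)).2 (k ▸ congrArg _ (Set.ext fun b =>
    ⟨fun ⟨γ, hγ, e⟩ => ⟨_, ⟨_, h.norm_Y0 hp (inv_mem hμ) hγ, rfl⟩, by simp [e]⟩, by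
      rintro ⟨_, ⟨γ, hγ, rfl⟩, rfl⟩
      exact ⟨_, h.norm_Y0 hp hμ hγ, by simp⟩⟩))
  refine ⟨f, hf, fun w hw w0 => ?_⟩
  obtain ⟨δ, hδ, d, hd, rfl⟩ := h.trans hp hv hw v0 w0
  have n := (mem_normalizer_iff.1 hμ _).1 hδ
  obtain ⟨g, hg⟩ := h.rp _ n
  refine ⟨_, hg.2.1 _ hv', hg.nz v0', ?_⟩
  rw [← h.act hp n hg hv' hf e, ← (Subtype.ext (hd.tv hp hv) : δ _ = ⟨_, tv_mem hp hw⟩)]
  simp

/-- `f = 0`.  Take `d` with `d 1 = d 2 ≠ d 0` (`sep1`), `η ∈ Γ` conjugation by `dh d`,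
`η' = μ η μ⁻¹ ∈ Γ` with `Rp η' g`.  Let `w i` be the five vectors of `five` for `e 1, e 2`, and
`μ (tv (w i)) = tv (x i) * zl 0 f`.  `η` fixes `tv (w i)`, so `g (x i) = c i • x i` (`r1_unique`,
`tv_inj`).  `c i ≠ 1`: otherwise `η'` fixes the `Y0`-orbit `{tv (x i + s e 0) * zl 0 f}` of
`μ (tv (w i))` pointwise, so `η` fixes `tv (w i + e 0)` (`norm_Y0`), but it maps it to
`tv (d 1 • w i + d 0 • e 0)`.  The product gives `Σ x i (x i)* = f e 0 (e 0)*`; apply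
`M ↦ p M p*` with `p = ∏ (g - c i)`, which kills the `x i` and multiplies `e 0` by
`∏ (1 - c i) ≠ 0` (equivalently: apply both sides to a vector `y` and then `p`:
`Σ hf y (x i) • x i = f * hf y (e 0) • e 0`). -/
theorem Gm.rk (hp : Pa m φ) (h : Gm Γ) (hμ : μ ∈ normalizer (Γ : Set (MulAut (AA m φ))))
    {a : AA m φ} (ha : Rk (a : SU m φ)) : Rk (μ a : SU m φ) := by
  have l := lo0 hp
  obtain ⟨f, hf, H⟩ := h.const hp hμ
  obtain rfl : f = 0 := by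
    obtain ⟨i, j, -, hi, hj, i1, j2⟩ := exists_lo3 hp
    have i0 : i ≠ 0 := fun e => by rw [e] at i1; exact absurd i1 (by simp)
    have j0 : j ≠ 0 := fun e => by rw [e] at j2; exact absurd j2 (by simp)
    have ij : i ≠ j := fun e => by rw [e] at i1; omega
    obtain ⟨d, hd, d1, d2⟩ := sep1 hp ⟨(Ind.of_lo hi hj ij).1, (Ind.of_lo hj l j0).1, (Ind.of_lo hi l i0).1⟩
    obtain ⟨η, hη, cη⟩ := h.h1 d hd
    have n := (mem_normalizer_iff.1 hμ _).1 hη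
    obtain ⟨g, hg⟩ := h.rp _ n
    have act : ∀ w (hw : w ∈ Wv m F), (η ⟨_, tv_mem hp hw⟩ : SU m φ) = tv φ (d * w) := fun w hw => by
      rw [cη, tv_conj hp _ (hf_W hw hw), dh_mulVec hp hd.1]
    let U := ⨆ (c : F) (_ : c ≠ 1), Module.End.eigenspace (toLin' (g : Matrix (Fin m) (Fin m) F)) c
    let ψ : AA m φ → Fin m → F := fun b => NN (μ b : SU m φ) *ᵥ Pi.single (0 : Fin m).rev 1
    have nm : ∀ {a b : SU m φ}, a ∈ AA m φ → b ∈ AA m φ → NN (a * b) = NN a + NN b := fun {a b} ha hb => by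
      rw [NN_mul, show NN a * NN b = 0 from Matrix.ext fun r s =>
        (AA_up.1 ha).mul (AA_up.1 hb) r s (by have := lv_le s; omega), add_zero]
    have pm : ∀ a b, ψ (a * b) = ψ a + ψ b := fun a b => by
      simp only [ψ, map_mul, coe_mul, nm (μ a).2 (μ b).2, add_mulVec]
    have key : ∀ (s t : F) (hw : Pi.single i s + Pi.single j t ∈ Wv m F), s ≠ 0 ∨ t ≠ 0 →
        ψ ⟨_, tv_mem hp hw⟩ + Pi.single 0 f ∈ U := fun s t hw st => by
      generalize ew : Pi.single (M := fun _ => F) i s + Pi.single j t = w at hw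
      have dw : d * w = d j • w := by
        rw [← ew, mul_add, smul_add, ← Pi.single_mul_right, ← Pi.single_mul_right, ← Pi.single_smul,
          ← Pi.single_smul, d1, smul_eq_mul, smul_eq_mul]
      have w0 : w 0 = 0 := by rw [← ew]; simp [i0.symm, j0.symm]
      obtain ⟨r, r0, wr⟩ : ∃ r, r ≠ 0 ∧ w r ≠ 0 := by
        rcases st with k | k
        exacts [⟨i, i0, by rw [← ew]; simpa [ij] using k⟩, ⟨j, j0, by rw [← ew]; simpa [ij.symm] using k⟩]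
      obtain ⟨x, hx, x0, e⟩ := H w hw ⟨r, r0, wr⟩
      have k := h.act hp n hg hx hf e
      rw [MulAut.mul_apply, MulAut.mul_apply, MulAut.inv_apply_self,
        (Subtype.ext ((act w hw).trans (by rw [dw, tv_smul (hd.norm j)])) : η _ = ⟨_, tv_mem hp hw⟩), e] at k
      obtain ⟨c, -, hc⟩ := tv_inj hp (hf_W hx hx) (hf_W (hg.2.1 x hx) (hg.2.1 x hx)) (mul_right_cancel k)
      have c1 : c ≠ 1 := by
        rintro rfl
        obtain ⟨γ, hγ, -, g', r', k'⟩ := h.y0 hp (lo_of hw wr) r0 (w r)⁻¹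
        obtain ⟨g'', r'', k''⟩ := Y0_sh (h.norm_Y0 hp hμ hγ)
        obtain ⟨s, k''⟩ := k'' x hx
        have w1 := add_mem hw (single_mem_Wv l 1)
        have e1 := h.act hp (h.norm_Y0 hp hμ hγ).1 r'' hx hf e
        rw [MulAut.mul_apply, MulAut.mul_apply, MulAut.inv_apply_self, (Subtype.ext ((r'.tv hp hw).trans
          (by rw [k' w hw, inv_mul_cancel₀ wr])) : γ _ = ⟨_, tv_mem hp w1⟩), k''] at e1
        have e2 := h.act hp n hg (add_mem hx (single_mem_Wv l s)) hf e1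
        rw [mulVec_add, hc, hg.fix, one_smul, ← e1, MulAut.mul_apply, MulAut.mul_apply,
          MulAut.inv_apply_self] at e2
        have w2 : d * (w + Pi.single 0 1) ∈ Wv m F := mem_Wv.2 fun p hp' => by
          rw [Pi.mul_apply, mem_Wv.1 w1 p hp', mul_zero]
        obtain ⟨c, -, e3⟩ := tv_inj hp (hf_W w1 w1) (hf_W w2 w2)
          ((congrArg Subtype.val (μ.injective (Subtype.ext e2))).symm.trans (act _ w1))
        have h1 := congrFun e3 0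
        have h2 := congrFun e3 r
        rw [Pi.smul_apply, Pi.mul_apply, Pi.add_apply, w0, Pi.single_eq_same, zero_add, smul_eq_mul,
          mul_one, mul_one] at h1
        rw [Pi.smul_apply, Pi.mul_apply, sh' _ _ r0, ← Pi.mul_apply, dw, Pi.smul_apply, smul_eq_mul,
          smul_eq_mul, mul_left_inj' wr] at h2
        exact d2 (h2.trans h1.symm)
      have : ψ ⟨_, tv_mem hp hw⟩ + Pi.single 0 f = φ (x 0) • x := by
        simp only [ψ]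
        rw [e, nm (tv_mem hp hx) (zl_mem_AA l f), NN, NN, tv_val hp (hf_W hx hx), zl_val (l.ne_rev l) hf,
          x_val (l.ne_rev l), add_sub_cancel_left, add_sub_cancel_left, add_mulVec, single_mulVec,
          Pi.single_eq_same, mul_one, add_assoc, ← Pi.single, vv, add_zero, mulVec_single_one]
        exact funext fun p => by simp [ad, vecMulVec_apply, mul_comm]
      exact this ▸ U.smul_mem _ (Submodule.mem_iSup_of_mem c (Submodule.mem_iSup_of_mem c1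
        (Module.End.mem_eigenspace_iff.2 hc)))
    obtain ⟨θ, hθ⟩ := hp.th
    have hv := single_mem_Wv (F := F) hi 1
    have hw := single_mem_Wv (F := F) hj 1
    have m1 : ∀ s t : F, Pi.single i s + Pi.single j t ∈ Wv m F := fun s t =>
      add_mem (single_mem_Wv hi s) (single_mem_Wv hj t)
    have f5 := five hp hθ hv hw
    rw [← Pi.single_smul, ← Pi.single_smul] at f5
    have := U.add_mem (U.add_mem (U.add_mem (U.add_mem (key 1 0 (m1 _ _) (.inl one_ne_zero))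
      (key 0 1 (m1 _ _) (.inr one_ne_zero))) (key 1 1 (m1 _ _) (.inl one_ne_zero)))
      (key 1 (θ • 1) (m1 _ _) (.inl one_ne_zero))) (key 1 ((1 + θ) • 1) (m1 _ _) (.inl one_ne_zero))
    have e5 : ∀ p1 p2 p3 p4 p5 s : Fin m → F, p1 + s + (p2 + s) + (p3 + s) + (p4 + s) + (p5 + s) =
        p1 + p2 + p3 + p4 + p5 + s := fun p1 p2 p3 p4 p5 s => by
      rw [← add_zero (p1 + p2 + p3 + p4 + p5 + s), ← vv (s + s)]; abel
    rw [e5, ← pm, ← pm, ← pm, ← pm, show (_ * _ * _ * _ * _ : AA m φ) = 1 from Subtype.ext (by simpa using f5)] at this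
    rw [left_eq_add.1 ((congrArg ψ (mul_one 1).symm).trans (pm 1 1)), zero_add] at this
    have z := Submodule.disjoint_def.1 (Module.End.eigenspaces_iSupIndep (toLin' (g : Matrix (Fin m) (Fin m) F)) 1)
      _ (Module.End.mem_eigenspace_iff.2 ((hg.fix f).trans (one_smul _ _).symm)) this
    simpa using congrFun z 0
  obtain ⟨v, hv, v0, e⟩ := ha
  by_cases z : ∃ j, j ≠ 0 ∧ v j ≠ 0
  · obtain ⟨w, hw, ⟨j, -, wj⟩, k⟩ := H v hv z
    exact ⟨w, hw, fun e => wj (congrFun e j), by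
      rw [(Subtype.ext e : a = ⟨_, tv_mem hp hv⟩), k, zl_zero, mul_one]⟩
  · obtain ⟨s, rfl⟩ := sh0 z
    have k := (h.fix hp).2 ⟨_, by rw [map_mul, hp.ff, mul_comm], e.trans (tv_single hp (l.ne_rev l) s)⟩
    obtain ⟨c, hc, e'⟩ := (h.fix hp (a := μ a)).1 fun γ hγ => by
      have := k _ ((mem_normalizer_iff''.1 hμ _).1 hγ)
      rwa [MulAut.mul_apply, MulAut.mul_apply, MulAut.inv_apply, MulEquiv.symm_apply_eq] at this
    refine e' ▸ rk_zl hp l hc fun c0 => v0 ((tv_eq_one hp (hf_W hv hv)).1 (e.symm.trans ?_))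
    rw [c0, zl_zero] at e'
    exact congrArg Subtype.val (μ.map_eq_one_iff.1 (Subtype.ext e'))

/-- If `w ∈ K`, `zl 0 c * w = tv v` with `v j ≠ 0`, `j ≠ 0`, let `w' = y w y⁻¹`, `y = xs 0 j 1`.  Then
`zl 0 c * (w * w')` has entry `0` at `(j, j)` and `v j * φ (v j)` at `(j, 0)`: against `Rk.row`. -/
theorem le_Z (hp : Pa m φ) {K : Subgroup (SU m φ)} (hK : K ≤ AA m φ)
    (hn : ∀ u ∈ UU m φ, ∀ a ∈ K, u * a * u⁻¹ ∈ K) {c : F} (hc : φ c = c)
    (h : ∀ w ∈ K, Rk (zl φ 0 c * w)) {w : SU m φ} (hw : w ∈ K) : ∃ e, φ e = e ∧ w = zl φ 0 e := by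
  have l := lo0 hp
  obtain ⟨v, hv, -, e⟩ := h w hw
  have z := zl_mem_AA (φ := φ) l c
  by_cases v0 : ∃ j, j ≠ 0 ∧ v j ≠ 0
  · obtain ⟨j, j0, vj⟩ := v0
    have hj := lo_of hv vj
    have w' := hn _ (xs_mem_UU hp (Ind.of_lo l hj j0.symm).1 (Fin.pos_iff_ne_zero.2 j0) 1) w hw
    have e1 := en_tv hp hv hj hj
    rw [← e, en_mul z (hK hw) hj hj, en_zl l hc hj hj, if_neg fun k => j0 k.1, zero_add] at e1
    have := ((h _ (mul_mem hw w')).row hp hj l (by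
      rw [en_mul z (hK (mul_mem hw w')) hj hj, en_mul (hK hw) (hK w') hj hj, en_zl l hc hj hj,
        en_xs_conj hp l hj j0.symm _ (hK hw) hj hj]
      simp [j0, CharTwo.add_self_eq_zero])).1
    rw [en_mul z (hK (mul_mem hw w')) hj l, en_mul (hK hw) (hK w') hj l, en_zl l hc hj l,
      en_xs_conj hp l hj j0.symm _ (hK hw) hj l, e1] at this
    simp [j0, ← add_assoc, CharTwo.add_self_eq_zero, vj] at this
  · obtain ⟨s, rfl⟩ := sh0 v0
    have hs : φ (s * φ s) = s * φ s := by rw [map_mul, hp.ff, mul_comm]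
    refine ⟨c + s * φ s, by rw [map_add, hc, hs], ?_⟩
    rw [zl_add (l.ne_rev l) hc hs, ← tv_single hp (l.ne_rev l), ← e, ← mul_assoc, zl_sq, one_mul]

/-- `ν a = μ a * a⁻¹` is an endomorphism with image `K` as in `le_Z`.  So `ν` is invariant under
conjugation by `UU` and kills the commutators `[u, a]`, among them `xs i j' u` (`i < j`:
`[xs i j s, zl j 1] = xs i j' s * zl i (s φ s)`) and `zl i e` (`i < k - 1`, `xs_long`).  For
`i = k - 1`, `zl i e * zl 0 e'` has rank one, so `e' = 0` (`Rk.minor`).  `AA_gen`. -/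
theorem eq_one_of_rk (hp : Pa m φ) (h1 : ∀ a : AA m φ, Rk (a : SU m φ) → Rk (μ a : SU m φ))
    (h2 : ∀ u ∈ UU m φ, ∀ a b : AA m φ, (b : SU m φ) = u * a * u⁻¹ →
      (μ b : SU m φ) = u * μ a * u⁻¹) {c : F} (hc : φ c = c)
    (h3 : ∀ a : AA m φ, Rk (zl φ 0 c * ((μ a : SU m φ) * (a : SU m φ)⁻¹))) : μ = 1 := by
  have l := lo0 hp
  let ν : AA m φ →* SU m φ := MonoidHom.mk' (fun a => (μ a : SU m φ) * (a : SU m φ)⁻¹) fun a b => by
    rw [map_mul, coe_mul, coe_mul, _root_.mul_inv_rev, mul_assoc, mul_assoc, ← mul_assoc (μ b : SU m φ),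
      (AA_comm (mul_mem (μ b).2 (inv_mem b.2)) (inv_mem a.2)).eq]
  have cm : ∀ {u a}, u ∈ UU m φ → a ∈ AA m φ → u * a * u⁻¹ ∈ AA m φ := fun hu ha =>
    (mem_normalizer_iff.1 (UU_norm hp hu) _).1 ha
  have k : ∀ a : AA m φ, ∃ e, φ e = e ∧ (μ a : SU m φ) = zl φ 0 e * a.1 := fun a =>
    (le_Z hp (K := ν.range) (by rintro _ ⟨a, rfl⟩; exact mul_mem (μ a).2 (inv_mem a.2)) (by
      rintro u hu _ ⟨a, rfl⟩
      exact ⟨⟨_, cm hu a.2⟩, by simp only [ν, MonoidHom.mk'_apply, h2 u hu a ⟨_, cm hu a.2⟩ rfl]; group⟩) hc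
      (by rintro _ ⟨a, rfl⟩; exact h3 a) ⟨a, rfl⟩).imp fun _ e => ⟨e.1, eq_mul_of_mul_inv_eq e.2⟩
  let K := (μ.toMonoidHom.eqLocus (MonoidHom.id _)).map (AA m φ).subtype
  have mk : ∀ {a} (ha : a ∈ AA m φ), (μ ⟨a, ha⟩ : SU m φ) = a → a ∈ K := fun ha e =>
    ⟨⟨_, ha⟩, Subtype.ext e, rfl⟩
  have z : ∀ i c, Lo i → φ c = c → zl φ i c ∈ K := fun i c hi hc => by
    by_cases i0 : i = 0
    · refine i0 ▸ commutator_le.2 (fun a ha u hu => ?_) (zl_mem_comm hp c)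
      have hb := cm hu (inv_mem ha)
      obtain ⟨e, -, he⟩ := k ⟨a, ha⟩
      rw [commutatorElement_def, mul_assoc, mul_assoc, ← mul_assoc u]
      refine mk (mul_mem ha hb) ?_
      rw [show (⟨_, mul_mem ha hb⟩ : AA m φ) = ⟨a, ha⟩ * ⟨_, hb⟩ from rfl, map_mul, coe_mul,
        h2 u hu (⟨a, ha⟩ : AA m φ)⁻¹ ⟨_, hb⟩ rfl, map_inv, coe_inv, he, _root_.mul_inv_rev, mul_assoc u, mul_assoc,
        mul_assoc, ((zl_comm_UU hu e).inv_left.inv_right).eq, ← mul_assoc a⁻¹, ← mul_assoc u, ← mul_assoc a,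
        ← mul_assoc u, ← mul_assoc, (zl_comm_UU (AA_le_UU (mul_mem ha hb)) e).eq, mul_inv_cancel_right]
    · by_cases c0 : c = 0
      · rw [c0, zl_zero]; exact one_mem _
      obtain ⟨e, he, k⟩ := k ⟨_, zl_mem_AA hi c⟩
      have := (h1 ⟨_, zl_mem_AA hi c⟩ (rk_zl hp hi hc c0)).minor hp l l hi hi
      simp only [k, en_mul (zl_mem_AA l _) (zl_mem_AA hi _), l, hi, en_zl l he, en_zl hi hc] at this
      refine mk (zl_mem_AA hi c) (by rw [k, show e = 0 by simpa [i0, Ne.symm i0, c0] using this, zl_zero, one_mul])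
  have x : ∀ i j u, Lo i → Lo j → i < j → xs φ i j.rev u ∈ K := fun i j u hi hj ij => by
    have hu := xs_mem_UU hp (Ind.of_lo hi hj ij.ne).1 ij u
    have hs : φ (u * φ u) = u * φ u := by rw [map_mul, hp.ff, mul_comm]
    have o := map_one φ
    obtain ⟨a, ha, e⟩ := z j 1 hj o
    have y : xs φ i j u * zl φ j 1 * (xs φ i j u)⁻¹ ∈ K := mk (cm hu (zl_mem_AA hj 1)) (by
      rw [h2 _ hu a ⟨_, _⟩ (congrArg (_ * · * _) e.symm), show μ a = a from ha, ← e]; rfl)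
    rw [AA_ext (cm hu (zl_mem_AA hj 1)) (mul_mem (mul_mem (zl_mem_AA hj 1) (xs_mem_AA hp hi hj ij.ne u))
      (zl_mem_AA hi (u * φ u))) fun r s hr hs' => by
        rw [en_xs_conj hp hi hj ij.ne u (zl_mem_AA hj 1) hr hs', en_mul (mul_mem (zl_mem_AA hj 1)
          (xs_mem_AA hp hi hj ij.ne u)) (zl_mem_AA hi _) hr hs', en_mul (zl_mem_AA hj 1)
          (xs_mem_AA hp hi hj ij.ne u) hr hs', en_xs hp hi hj ij.ne u hr hs', en_zl hi hs hr hs',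
          en_zl hj o hr hs', en_zl hj o hj hs', en_zl hj o hr hj, en_zl hj o hj hj]
        by_cases r1 : r = i <;> by_cases s1 : s = i <;> simp [r1, s1, ij.ne, and_comm]] at y
    exact (mul_mem_cancel_left (z j 1 hj o)).1 ((mul_mem_cancel_right (z i _ hi hs)).1 y)
  refine MulEquiv.ext fun a => ?_
  obtain ⟨b, hb, e⟩ := AA_gen hp z (fun i j u hi hj n => n.lt_or_gt.elim (x i j u hi hj) fun ij => by
    rw [← xs_flip hp (Ind.of_lo hi hj n).2, Fin.rev_rev]; exact x j i _ hj hi ij) a.2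
  exact (Subtype.ext e : b = a) ▸ hb

end CL.UM
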