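import Cfsg.Agent.INV.UM.Base
import Cfsg.Agent.INV.UM.TR
import Cfsg.Agent.INV.SC.Tr

/-!
The translations.
-/

set_option autoImplicit false
set_option linter.unusedSectionVars false
set_option linter.unusedVariables false

namespace CL.UM

open Matrix Subgroup CL.SC
open scoped commutatorElement

variable {m : ℕ} [NeZero m] {F : Type*} [Field F] [Finite F] [CharP F 2] {φ : F ≃+* F}
variable {G : Type*} [Group G] [Finite G] {ρ : SU m φ →* G} {t : G}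

/-- `n` normalises `ρ(AA)`, preserves the rank one elements and the coset `t ρ(AA)` -/
def Ns (ρ : SU m φ →* G) (t n : G) : Prop :=
  n ∈ normalizer (Ar ρ : Set G) ∧ (∃ a ∈ AA m φ, n * t * n⁻¹ = t * ρ a) ∧
    ∀ a, Rk a → ∃ b, Rk b ∧ n * ρ a * n⁻¹ = ρ b

theorem St.exists_Ns (hp : Pa m φ) (h : St ρ t) : ∃ K : Subgroup G, ∀ n, n ∈ K ↔ Ns ρ t n := by
  let S : Submonoid G :=
    { carrier := {n | Ns ρ t n}
      one_mem' := ⟨one_mem _, ⟨1, one_mem _, by simp⟩, fun a ha => ⟨a, ha, by simp⟩⟩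
      mul_mem' := by
        rintro n n' ⟨h1, ⟨a, ha, e⟩, h3⟩ ⟨h1', ⟨a', ha', e'⟩, h3'⟩
        refine ⟨mul_mem h1 h1', ?_, fun c hc => ?_⟩
        · obtain ⟨b, hb, eb⟩ := (mem_normalizer_iff.1 h1 _).1 (⟨a', ha', rfl⟩ : ρ a' ∈ Ar ρ)
          refine ⟨a * b, mul_mem ha hb, ?_⟩
          calc _ = n * (n' * t * n'⁻¹) * n⁻¹ := by group
            _ = n * t * n⁻¹ * (n * ρ a' * n⁻¹) := by rw [e']; group
            _ = _ := by rw [e, ← eb, map_mul, mul_assoc]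
        · obtain ⟨b, hb, eb⟩ := h3' c hc
          obtain ⟨b', hb', eb'⟩ := h3 b hb
          exact ⟨b', hb', by rw [← eb', ← eb]; group⟩ }
  have k : ∀ {n}, n ∈ S → n⁻¹ ∈ S := fun {n} hn => (Submonoid.powers_le.2 hn : Submonoid.powers n ≤ S)
    (mem_powers_iff_mem_zpowers.2 (inv_mem (mem_zpowers n)))
  exact ⟨{ S with inv_mem' := k }, fun n => Iff.rfl⟩

/-- `au_na`, `Rk.aut` -/
theorem St.ns_of_comm (hp : Pa m φ) (h : St ρ t) {n : G} (h1 : Commute n t)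
    (h2 : n ∈ normalizer (Ar ρ : Set G)) : Ns ρ t n := by
  obtain ⟨α, h3, h4⟩ := h.au_na hp h1 h2
  exact ⟨h2, ⟨1, one_mem _, by rw [h1.eq, map_one, mul_one, mul_inv_cancel_right]⟩,
    fun a ha => ⟨_, ha.aut hp h4, h3 a⟩⟩

theorem A2.lo0 (hp : Pa m φ) : Lo (0 : Fin m) := (exists_lo3 hp).elim fun _ h => h.elim fun _ h => h.1

theorem A2.resc (hp : Pa m φ) {α : MulAut (SU m φ)} (h : Ty α 1) (h1 : α (zl φ 0 1) = zl φ 0 1) :
    ∃ g : GL (Fin m) F, GUm φ g ∧ (∀ a : SU m φ, (α a : SL m F) = inn g (a : SL m F)) ∧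
      (g : Matrix (Fin m) (Fin m) F) *ᵥ Pi.single 0 1 = Pi.single 0 1 := by
  obtain ⟨g, g1, g2⟩ := h
  simp only [map_one, MulAut.one_apply] at g2
  have w0 := single_mem_Wv (F := F) (A2.lo0 hp) 1
  have i0 : hf φ (Pi.single (0 : Fin m) (1 : F)) (Pi.single 0 1) = 0 := hf_W w0 w0
  have e0 : tv φ (Pi.single (0 : Fin m) (1 : F)) = zl φ 0 1 := by
    rw [tv_single hp (zero_ne_la (by have := hp.six; omega)), map_one, mul_one]
  obtain ⟨c, hc, e⟩ := tv_inj hp ((g1 _ _).trans i0) i0 (Subtype.ext (by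
    rw [← tv_inn hp g1 i0, ← g2, e0, h1]))
  have c0 : c ≠ 0 := left_ne_zero_of_mul_eq_one hc
  have v : ((Matrix.GeneralLinearGroup.scalar (Fin m) (Units.mk0 c c0) : GL (Fin m) F) :
      Matrix (Fin m) (Fin m) F) = c • (1 : Matrix (Fin m) (Fin m) F) := (smul_one_eq_diagonal c).symm
  have w : ∀ u, ((Matrix.GeneralLinearGroup.scalar (Fin m) (Units.mk0 c c0) * g : GL (Fin m) F) :
      Matrix (Fin m) (Fin m) F) *ᵥ u = c • ((g : Matrix (Fin m) (Fin m) F) *ᵥ u) := fun u => by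
    rw [Units.val_mul, v, smul_mul_assoc, one_mul, smul_mulVec]
  refine ⟨Matrix.GeneralLinearGroup.scalar (Fin m) (Units.mk0 c c0) * g, fun u u' => ?_, fun a => ?_,
    by rw [w, ← e]⟩
  · rw [w, w, hf_smul_left, hf_smul_right, ← mul_assoc, hc, one_mul, g1]
  · rw [map_mul, (inn_eq_one (by have := hp.six; omega)).2 ⟨c, v⟩, one_mul, g2]

theorem A2.fix_zl (hp : Pa m φ) {α : MulAut (SU m φ)} (h : Ty α 1) (h1 : α (zl φ 0 1) = zl φ 0 1)
    {c : F} (hc : φ c = c) : α (zl φ 0 c) = zl φ 0 c := by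
  obtain ⟨g, g1, g2, g3⟩ := A2.resc hp h h1
  obtain ⟨s, rfl⟩ := exists_norm hp.ne hp.sq hc
  have w0 := single_mem_Wv (F := F) (A2.lo0 hp) s
  rw [← tv_single hp (zero_ne_la (by have := hp.six; omega))]
  refine Subtype.ext ?_
  rw [g2, tv_inn hp g1 (hf_W w0 w0), show (Pi.single (0 : Fin m) s : Fin m → F) = s • Pi.single 0 1 by
    rw [← Pi.single_smul', smul_eq_mul, mul_one], mulVec_smul, g3]

theorem A2.ty_fix (hp : Pa m φ) {α : MulAut (SU m φ)} {σ : F ≃+* F} (h : Ty α σ)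
    (h1 : ∀ c, φ c = c → α (zl φ 0 c) = zl φ 0 c) : σ = 1 ∨ σ = φ := hp.fix fun c hc => by
  have z0 : (0 : Fin m) ≠ Fin.rev 0 := zero_ne_la (by have := hp.six; omega)
  have h2 : φ (σ c) = σ c := by
    have := congrArg (fun τ : F ≃+* F => τ c) (aut_comm φ σ)
    simpa [hc] using this
  have h3 := A2.fix_zl hp (α := α * (fs φ σ)⁻¹) (by simpa using h.mul (ty_fs σ).inv) (by
    rw [MulAut.mul_apply, ← map_inv, fs_zl _ z0 (map_one φ), map_one, h1 1 (map_one φ)]) h2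
  rw [← fs_zl σ z0 hc, MulAut.mul_apply, MulAut.inv_apply_self, h1 c hc, fs_zl σ z0 hc] at h3
  exact (zl_inj z0 hc h2 h3).symm

theorem A2.n_inf {y : G} {A B : Subgroup G} (h : y ∈ normalizer (A : Set G))
    (h' : y ∈ normalizer (B : Set G)) : y ∈ normalizer ((A ⊓ B : Subgroup G) : Set G) :=
  mem_norm_of_le fun x hx => ⟨(mem_normalizer_iff.1 h x).1 hx.1, (mem_normalizer_iff.1 h' x).1 hx.2⟩

theorem A2.n_cent {y : G} {A : Subgroup G} (h : y ∈ normalizer (A : Set G)) :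
    y ∈ normalizer (centralizer (A : Set G) : Set G) := mem_norm_of_le fun x hx => Trn.cen_conj h hx

theorem A2.n_comm {y : G} {A : Subgroup G} (h : y ∈ normalizer (A : Set G)) :
    y ∈ normalizer ((⁅A, A⁆ : Subgroup G) : Set G) := by
  rw [← cj_eq_iff] at h ⊢
  rw [cj, map_commutator, ← cj, h]

/-- Let `θ` be the action on `AA` (`exists_act`), `z = ρ (zl 0 1)`, `C1 = C(t) ⊓ C(z) ⊓ N(ρ AA)`, which is
normalised by `y`.  An element of `⁅C1, C1⁆` has type `1` (`Fu.ty_comm`), is `inn g` with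
`g e 0 = d e 0`, `d` of norm one (`tv_inj`), so fixes all `zl 0 c`.  `⁅C1, C1⁆` contains
`ρ (xs 0 j u) = ρ [xs 0 i u, xs i j 1]`, so its fixed points in `ρ(AA)` form the group
`Z = {ρ (zl 0 c)}` (`fix_row0`), and `y` normalises `Z` and `C2 = C1 ⊓ C(Z)`.  An element of `C2` has
type `1` or `φ` (`Pa.fix`), so the group `C3` generated by the squares of `C2` consists of elements
of type `1`; rescale `g` by `d⁻¹`.  `C3` contains `ρ (dh d)` (odd order) and all commutators of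
`C2`, among them `ρ (xs p r u)`, `r ≠ 0` (`xs_eq_comm`, `sep0`).  So `Γ = θ(C3)` satisfies `Gm`;
`Gm.rk`. -/
theorem St1.ns (hp : Pa m φ) (h : St ρ t) {y : G} (h1 : y * t * y⁻¹ = t * ρ (zl φ 0 1))
    (h2 : Commute y (ρ (zl φ 0 1))) (h3 : y ∈ normalizer (Ar ρ : Set G)) : Ns ρ t y := by
  refine ⟨h3, ⟨_, zl_mem_AA (A2.lo0 hp) 1, h1⟩, fun a ha => ?_⟩
  set N := normalizer (Ar ρ : Set G)
  obtain ⟨θ, hθ⟩ : ∃ θ : N →* MulAut (AA m φ), ∀ (n : N) (a : AA m φ),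
      (n : G) * ρ a * (n : G)⁻¹ = ρ (θ n a) := h.fr.exists_act (qs hp) (el_AA (m := m) (φ := φ)).pgroup
  set C1 := centralizer {t} ⊓ centralizer {ρ (zl φ 0 1)} ⊓ N with hC1
  have m1 : ∀ {x}, x ∈ C1 ↔ (Commute x t ∧ Commute x (ρ (zl φ 0 1))) ∧ x ∈ N := fun {x} => by
    simp only [hC1, mem_inf, mem_centralizer_singleton_iff, commute_iff_eq]
  have y1 : y ∈ normalizer (C1 : Set G) := mem_norm_of_le fun x hx => by
    obtain ⟨⟨c1, c2⟩, c3⟩ := m1.1 hx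
    have d2 := commute_cj (g := y).2 c2
    rw [h2.eq, mul_inv_cancel_right] at d2
    have d1 := (h1 ▸ commute_cj (g := y).2 c1).mul_right d2.inv_right
    rw [mul_inv_cancel_right] at d1
    exact m1.2 ⟨⟨d1, d2⟩, mul_mem (mul_mem h3 c3) (inv_mem h3)⟩
  have au : ∀ x ∈ C1, ∃ α, Au ρ x α ∧ NA α ∧ α (zl φ 0 1) = zl φ 0 1 := fun x hx => by
    obtain ⟨⟨c1, c2⟩, c3⟩ := m1.1 hx
    obtain ⟨α, h4, h5⟩ := h.au_na hp c1 c3
    exact ⟨α, h4, h5, (h4.fix (qs hp) h.fr (two_of_sq (zl_sq _ _))).1 c2⟩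
  have r1 : ∀ l, l ∈ normalizer (AA m φ : Set (SU m φ)) → (∀ c, φ c = c → Commute l (zl φ 0 c)) →
      ρ l ∈ C1 := fun l h4 h5 => m1.2 ⟨⟨(h.tc l).symm, (h5 1 (map_one φ)).map ρ⟩, norm_map h4⟩
  have z0 : (0 : Fin m) ≠ Fin.rev 0 := zero_ne_la (by have := hp.six; omega)
  have cd : ∀ d, D1 φ d → ∀ c, φ c = c → Commute (dh φ d) (zl φ 0 c) := fun d hd c hc =>
    mul_inv_eq_iff_eq_mul.1 (by rw [dh_zl hp hd.1 z0 hc, hd.norm, one_mul])
  have cx : ∀ p r u, Lo p → Lo r → p ≠ r → r ≠ 0 → ∀ c, φ c = c → Commute (xs φ p r u) (zl φ 0 c) :=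
    fun p r u a1 a2 a3 a4 c _ =>
      xs_zl hp (Ind.of_lo a1 a2 a3).1 ((A2.lo0 hp).ne_rev a1) a4.symm u c
  have xc : ∀ K : Subgroup G, (∀ l, l ∈ normalizer (AA m φ : Set (SU m φ)) →
      (∀ c, φ c = c → Commute l (zl φ 0 c)) → ρ l ∈ K) → ∀ p r u, Lo p → Lo r → p ≠ r → r ≠ 0 →
        ρ (xs φ p r u) ∈ ⁅K, K⁆ := fun K hK p r u a1 a2 a3 a4 => by
    obtain ⟨d, hd, hne, -⟩ := sep0 hp (Ind.of_lo a1 a2 a3).1
    obtain ⟨u', e⟩ := xs_eq_comm hp (Ind.of_lo a1 a2 a3).1 hd.1 hne u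
    rw [e, map_commutatorElement]
    exact commutator_mem_commutator (hK _ (dh_norm hp hd.1).1 (cd d hd))
      (hK _ (Lv_norm hp (xs_mem_Lv a1 a2 a3 u')) (cx p r u' a1 a2 a3 a4))
  set Z := Ar ρ ⊓ centralizer ((⁅C1, C1⁆ : Subgroup G) : Set G)
  have mZ : ∀ v, v ∈ Z ↔ ∃ c, φ c = c ∧ v = ρ (zl φ 0 c) := fun v => by
    constructor
    · rintro ⟨⟨a, ha, rfl⟩, h4⟩
      obtain ⟨c, hc, e⟩ := fix_row0 hp ha fun r u a2 a4 => (h.fr.commute (qs hp) (two_of_sq (el_AA a ha))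
        (Commute.symm (h4 _ (xc C1 r1 0 r u (A2.lo0 hp) a2 a4.symm a4)))).symm
      exact ⟨c, hc, by rw [e]⟩
    · rintro ⟨c, hc, rfl⟩
      refine ⟨⟨_, zl_mem_AA (A2.lo0 hp) c, rfl⟩, fun x hx => ?_⟩
      obtain ⟨α, h4, -, h6⟩ := au x (commutator_le_self _ hx)
      exact h4.commute (A2.fix_zl hp (h.fr.ty_comm hp (fun x hx => h.nrm x (m1.1 hx).1.1) hx h4) h6 hc)
  set C2 := C1 ⊓ centralizer (Z : Set G)
  have y2 : y ∈ normalizer (C2 : Set G) :=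
    A2.n_inf y1 (A2.n_cent (A2.n_inf h3 (A2.n_cent (A2.n_comm y1))))
  have r2 : ∀ l, l ∈ normalizer (AA m φ : Set (SU m φ)) → (∀ c, φ c = c → Commute l (zl φ 0 c)) →
      ρ l ∈ C2 := fun l h4 h5 => ⟨r1 l h4 h5, fun v hv => by
    obtain ⟨c, hc, rfl⟩ := (mZ v).1 hv
    exact ((h5 c hc).map ρ).symm⟩
  set C3 := closure {x | ∃ c ∈ C2, x = c * c}
  have y3 : y ∈ normalizer (C3 : Set G) := mem_norm_of_le fun x hx => by
    refine (?_ : cj y C3 ≤ C3) (cj_mem hx)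
    rw [cj, MonoidHom.map_closure]
    refine closure_mono ?_
    rintro _ ⟨_, ⟨c, hc, rfl⟩, rfl⟩
    exact ⟨_, (mem_normalizer_iff.1 y2 c).1 hc, map_mul _ _ _⟩
  have l3 : C3 ≤ C1 := (closure_le _).2 (by rintro _ ⟨c, hc, rfl⟩; exact mul_mem hc.1 hc.1)
  have t3 : ∀ x ∈ C3, ∃ α, Au ρ x α ∧ Ty α 1 := fun x hx => by
    induction hx using closure_induction with
    | mem x hx =>
      obtain ⟨c, hc, rfl⟩ := hx
      obtain ⟨α, h4, -, h6⟩ := au c hc.1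
      obtain ⟨σ, hσ⟩ := exists_ty hp α
      refine ⟨_, h4.mul h4, ?_⟩
      have := hσ.mul hσ
      rcases A2.ty_fix hp hσ (fun e he => (h4.fix (qs hp) h.fr (two_of_sq (zl_sq _ _))).1
        (Commute.symm (hc.2 _ ((mZ _).2 ⟨e, he, rfl⟩)))) with rfl | rfl
      · rwa [mul_one] at this
      · rwa [hp.sq] at this
    | one => exact ⟨1, au_one.2 fun a => Commute.one_left _, ty_one⟩
    | mul x x' _ _ i1 i2 =>
      obtain ⟨α, h4, h5⟩ := i1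
      obtain ⟨β, h6, h7⟩ := i2
      exact ⟨_, h4.mul h6, by simpa using h5.mul h7⟩
    | inv x _ i1 =>
      obtain ⟨α, h4, h5⟩ := i1
      exact ⟨_, h4.inv, by simpa using h5.inv⟩
  have c3 : ⁅C2, C2⁆ ≤ C3 := commutator_le.2 fun a ha b hb => by
    rw [show ⁅a, b⁆ = a * a * (a⁻¹ * b * (a⁻¹ * b)) * (b⁻¹ * b⁻¹) by rw [commutatorElement_def]; group]
    exact mul_mem (mul_mem (subset_closure ⟨_, ha, rfl⟩)
      (subset_closure ⟨_, mul_mem (inv_mem ha) hb, rfl⟩)) (subset_closure ⟨_, inv_mem hb, rfl⟩)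
  have cn : ∀ l, l ∈ normalizer (AA m φ : Set (SU m φ)) → ρ l ∈ C3 →
      ∃ γ ∈ (C3.subgroupOf N).map θ, Cn γ l := fun l h4 h5 =>
    ⟨_, ⟨⟨ρ l, norm_map h4⟩, h5, rfl⟩, fun a => h.injA hp (AA_le_UU (θ _ a).2)
      (AA_le_UU ((mem_normalizer_iff.1 h4 _).1 a.2)) (by rw [← hθ, map_mul, map_mul, map_inv])⟩
  have gm : Gm ((C3.subgroupOf N).map θ) := by
    refine ⟨?_, fun p r u a1 a2 a3 a4 => cn _ (Lv_norm hp (xs_mem_Lv a1 a2 a3 u))
      (c3 (xc C2 r2 p r u a1 a2 a3 a4)), fun d hd => cn _ (dh_norm hp hd.1).1 ?_⟩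
    · rintro _ ⟨n, hn, rfl⟩
      obtain ⟨α, h4, h5, h6⟩ := au n (l3 hn)
      obtain ⟨β, h7, h8⟩ := t3 n hn
      obtain rfl := h4.unique (qs hp) h.fr h7
      obtain ⟨g, g1, g2, g3⟩ := A2.resc hp h8 h6
      refine ⟨g, g1, h5.sw hp (σ := 1) g1 (by simpa using g2), g3, fun a => ?_⟩
      rw [← g2, h.injA hp (AA_le_UU (θ n a).2) (AA_le_UU (h5 _ a.2)) (by rw [← hθ, h4])]
    · obtain ⟨k, hk⟩ := dh_odd hp hd.1
      refine subset_closure ⟨ρ (dh φ d) ^ (k + 1), pow_mem (r2 _ (dh_norm hp hd.1).1 (cd d hd)) _, ?_⟩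
      rw [← pow_add, show k + 1 + (k + 1) = 2 * k + 1 + 1 by ring, ← hk, ← map_pow, pow_succ,
        pow_orderOf_eq_one, one_mul]
  have hμ : θ ⟨y, h3⟩ ∈ normalizer (((C3.subgroupOf N).map θ : Subgroup _) : Set (MulAut (AA m φ))) :=
    mem_norm_of_le (by
      rintro _ ⟨n, hn, rfl⟩
      exact ⟨⟨y, h3⟩ * n * ⟨y, h3⟩⁻¹, (mem_normalizer_iff.1 y3 n).1 hn, by rw [map_mul, map_mul, map_inv]⟩)
  exact ⟨_, gm.rk hp hμ (a := ⟨a, ha.mem hp⟩) ha, hθ ⟨y, h3⟩ ⟨a, ha.mem hp⟩⟩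

/-- The set of these `a` contains the rank one elements (`rk_conj`) and is closed under
multiplication by them: if `n t n⁻¹ = t ρ a`, `n (ρ r) n⁻¹ = ρ b` (`n` permutes the finite set of
rank one elements) and `n' t n'⁻¹ = t ρ r` then `n n'` gives `a b`; `tv_gen`. -/
theorem St1.trans (hp : Pa m φ) (h : St1 ρ t) {a : SU m φ} (ha : a ∈ AA m φ) :
    ∃ n, Ns ρ t n ∧ n * t * n⁻¹ = t * ρ a := by
  obtain ⟨K, hK⟩ := h.toSt.exists_Ns hp
  obtain ⟨y, h1, h2, h3⟩ := h.mv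
  have hy := (hK y).2 (St1.ns hp h.toSt h1 h2 h3)
  have k1 : ∀ r, Rk r → ∃ n ∈ K, n * t * n⁻¹ = t * ρ r := fun r hr => by
    obtain ⟨l, hl, rfl⟩ := rk_conj hp hr
    refine ⟨ρ l * y, mul_mem ((hK _).2 (h.toSt.ns_of_comm hp (h.tc l).symm (norm_map (Lv_norm hp hl)))) hy, ?_⟩
    calc _ = ρ l * (y * t * y⁻¹) * (ρ l)⁻¹ := by group
      _ = _ := by rw [h1, ← mul_assoc, ← (h.tc l).eq, map_mul, map_mul, map_inv]; group
  let K' : Subgroup (SU m φ) :=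
    { carrier := {b | b ∈ AA m φ ∧ ∀ a, (∃ n ∈ K, n * t * n⁻¹ = t * ρ a) →
        ∃ n ∈ K, n * t * n⁻¹ = t * ρ (a * b)}
      one_mem' := ⟨one_mem _, fun a ha => by rwa [mul_one]⟩
      mul_mem' := fun hb hc => ⟨mul_mem hb.1 hc.1, fun a ha => by
        rw [← mul_assoc]; exact hc.2 _ (hb.2 a ha)⟩
      inv_mem' := fun {b} hb => by rwa [inv_eq_of_mul_eq_one_right (el_AA b hb.1)] }
  obtain ⟨n, hn, e⟩ := (tv_gen hp (K := K') (fun v hv => ⟨tv_mem hp hv, fun a ⟨n, hn, e⟩ => by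
    by_cases v0 : v = 0
    · exact ⟨n, hn, by rw [v0, tv_zero, mul_one, e]⟩
    obtain ⟨r, hr, e1⟩ := ((hK _).1 (inv_mem hn)).2.2 _ ⟨v, hv, v0, rfl⟩
    obtain ⟨n', hn', e2⟩ := k1 r hr
    refine ⟨n * n', mul_mem hn hn', ?_⟩
    calc _ = n * (n' * t * n'⁻¹) * n⁻¹ := by group
      _ = n * t * n⁻¹ * ρ (tv φ v) := by rw [e2, ← e1]; group
      _ = _ := by rw [e, map_mul, mul_assoc]⟩) ha).2 1 ⟨1, one_mem _, by simp⟩
  exact ⟨n, (hK n).1 hn, by rw [e, one_mul]⟩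

/-- A Sylow subgroup `P ≥ ρ(UU)` of the group `K` of `exists_Ns` is transitive on `t ρ(AA)`, which
has 2-power order (as in `CL.SC.St1.exists_s`).  `Trn.exists_inv` for `E = Et` gives `s`, central
modulo `C(E)`.  `s t s⁻¹ = t ρ b` with `b ≠ 1` (otherwise `s` fixes all `p t p⁻¹`), `b` is fixed by
`UU`, `b = zl 0 c`.  If `p t p⁻¹ = t ρ a`, compare `s p t p⁻¹ s⁻¹ = p s t s⁻¹ p⁻¹`:
`b * μ a = a * b'` with `ρ b' = p (ρ b) p⁻¹` of rank one, `μ` the action of `s`.  `eq_one_of_rk`. -/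
theorem St1.exists_lm (hp : Pa m φ) (h : St1 ρ t) : ∃ y a, a ≠ 1 ∧ Lm ρ t y a := by
  obtain ⟨N, hN⟩ := h.toSt.exists_Ns hp
  obtain ⟨θ, hθ⟩ := h.fr.exists_act (qs hp) (el_AA (m := m) (φ := φ)).pgroup
  have tE : t ∈ Et ρ t := mem_sup_left (mem_zpowers t)
  have rE : ∀ a ∈ AA m φ, ρ a ∈ Et ρ t := fun a ha => mem_sup_right ⟨a, ha, rfl⟩
  have NE : N ≤ normalizer (Et ρ t : Set G) := fun n hn => mem_norm_of_le fun y hy => by
    obtain ⟨h1, ⟨a, ha, e⟩, -⟩ := (hN n).1 hn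
    obtain ⟨b, hb, rfl | rfl⟩ := h.toSt.mem_Et.1 hy
    · exact mem_sup_right ((mem_normalizer_iff.1 h1 _).1 ⟨b, hb, rfl⟩)
    · rw [← conj_mul, e]
      exact mul_mem (mul_mem tE (rE a ha)) (mem_sup_right ((mem_normalizer_iff.1 h1 _).1 ⟨b, hb, rfl⟩))
  obtain ⟨P, hP, hUP, hPN, odd⟩ := exists_syl (H := N) (pgroup_UU.map ρ) (by
    rintro _ ⟨a, ha, rfl⟩
    exact (hN _).2 (h.toSt.ns_of_comm hp (h.tc a).symm (norm_map (UU_norm hp ha))))
  have idx : (centralizer {t}).relIndex N = Nat.card (Ar ρ) := by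
    rw [← CL.CS.ncard_conj_subgroup, ← SetLike.coe_sort_coe (Ar ρ), Nat.card_coe_set_eq,
      ← Set.ncard_image_of_injective (Ar ρ : Set G) (mul_right_injective t)]
    congr 1
    ext y
    constructor
    · rintro ⟨n, rfl⟩
      obtain ⟨a, ha, e⟩ := ((hN _).1 n.2).2.1
      exact ⟨_, ⟨a, ha, rfl⟩, e.symm⟩
    · rintro ⟨_, ⟨a, ha, rfl⟩, rfl⟩
      obtain ⟨n, hn, e⟩ := h.trans hp ha
      exact ⟨⟨n, (hN n).2 hn⟩, e⟩
  have tr : ∀ a ∈ AA m φ, ∃ p ∈ P, p * t * p⁻¹ = t * ρ a := fun a ha => by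
    obtain ⟨n, hn, e⟩ := h.trans hp ha
    obtain ⟨k, hk⟩ := IsPGroup.iff_card.1 ((el_AA (m := m) (φ := φ)).map ρ).pgroup
    obtain ⟨p, hp, c, hc, e1⟩ := CL.exists_mul_eq_of_coprime_index (P.subgroupOf N)
      ((centralizer {t}).subgroupOf N) (by
        show (P.relIndex N).Coprime ((centralizer {t}).relIndex N)
        rw [idx, hk]
        exact (Nat.coprime_two_right.2 odd).pow_right k) ⟨n, (hN n).2 hn⟩
    refine ⟨p, hp, ?_⟩
    have c1 : (c : G) * t = t * c := mem_centralizer_singleton_iff.1 hc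
    rw [← e, show n = p * c from congrArg Subtype.val e1, mul_assoc (p : G) c, c1]
    group
  obtain ⟨s, s1, s2, s3, s4⟩ := Trn.exists_inv hP (hPN.trans NE) fun k => by
    obtain ⟨p, hp', e⟩ := tr _ (zl_mem_AA (A2.lo0 hp) 1)
    rw [← k hp' t tE, mul_inv_cancel_right, left_eq_mul] at e
    exact zl_ne_one hp (h.fr.eq_one (qs hp) (two_of_sq (zl_sq _ _)) e)
  have sw : ∀ y ∈ P, ∀ e ∈ Et ρ t, y * (s * e * s⁻¹) * y⁻¹ = s * (y * e * y⁻¹) * s⁻¹ :=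
    fun y hy e he => Trn.swap (s3 y hy)
      ((mem_normalizer_iff.1 (NE (hPN s1)) _).1 ((mem_normalizer_iff.1 (NE (hPN hy)) _).1 he))
  obtain ⟨n1, ⟨b, hb, e⟩, n3⟩ := (hN s).1 (hPN s1)
  obtain ⟨c, hc, rfl⟩ := cent_UU hp (two_of_sq (el_AA b hb)) fun u hu =>
    h.fr.commute (qs hp) (two_of_sq (el_AA b hb)) (by
      have := sw _ (hUP ⟨u, hu, rfl⟩) t tE
      rw [← (h.tc u).eq, mul_inv_cancel_right, e, ← mul_assoc, ← (h.tc u).eq, mul_assoc, mul_assoc,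
        mul_right_inj, ← mul_assoc, mul_inv_eq_iff_eq_mul] at this
      exact this.symm)
  have c0 : c ≠ 0 := fun c0 => s2 (by
    rw [c0, zl_zero, map_one, mul_one] at e
    have k : ∀ a ∈ AA m φ, t * ρ a * s = s * (t * ρ a) := fun a ha => by
      obtain ⟨p, hp', e1⟩ := tr a ha
      have := sw p hp' t tE
      rw [e, e1] at this
      exact eq_mul_inv_iff_mul_eq.1 this
    intro y hy
    obtain ⟨a, ha, rfl | rfl⟩ := h.toSt.mem_Et.1 hy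
    · have := k a ha
      rw [← mul_assoc, mul_inv_eq_iff_eq_mul.1 e, mul_assoc, mul_assoc] at this
      exact mul_left_cancel this
    · exact k a ha)
  have hs := hθ ⟨s, n1⟩
  have := eq_one_of_rk hp (μ := θ ⟨s, n1⟩) (c := c) (fun a ha => by
      obtain ⟨b, hb, e⟩ := n3 a ha
      rwa [h.toSt.injA hp (AA_le_UU (θ _ a).2) (AA_le_UU (hb.mem hp)) ((hs a).symm.trans e)])
    (fun u hu a b e => h.toSt.injA hp (AA_le_UU (θ _ b).2)
      (mul_mem (mul_mem hu (AA_le_UU (θ _ a).2)) (inv_mem hu)) (by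
        rw [← hs, map_mul, map_mul, map_inv, ← hs, sw _ (hUP ⟨u, hu, rfl⟩) _ (rE _ a.2), e, map_mul,
          map_mul, map_inv])) hc
    fun a => by
      obtain ⟨p, hp', e1⟩ := tr a a.2
      obtain ⟨b', hb', e2⟩ := ((hN p).1 (hPN hp')).2.2 _ (rk_zl hp (A2.lo0 hp) hc c0)
      have := sw p hp' t tE
      rw [e, e1, ← conj_mul, ← conj_mul, e, e1, e2, hs, mul_assoc, mul_assoc, mul_right_inj, ← map_mul,
        ← map_mul] at this
      have := h.toSt.injA hp (AA_le_UU (mul_mem a.2 (hb'.mem hp))) (AA_le_UU (mul_mem hb (θ _ a).2)) this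
      rwa [← mul_assoc, ← this, (AA_comm a.2 (hb'.mem hp)).eq, mul_inv_cancel_right]
  refine ⟨s, _, fun e => c0 (zl_inj (zero_ne_la (by have := hp.six; omega)) hc (map_zero φ)
    (e.trans (zl_zero _).symm)), hb, fun a ha => mul_inv_eq_iff_eq_mul.1 ?_, e⟩
  rw [hs ⟨a, ha⟩, this]
  rfl

/-- `irr` -/
theorem St1.trn (hp : Pa m φ) (h : St1 ρ t) {a : SU m φ} (ha : a ∈ AA m φ) : ∃ y, Lm ρ t y a := by
  let K : Subgroup (SU m φ) :=
    { carrier := {a | ∃ y, Lm ρ t y a}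
      one_mem' := ⟨1, lm_one⟩
      mul_mem' := fun ⟨y, hy⟩ ⟨y', hy'⟩ => ⟨_, hy.mul hy'⟩
      inv_mem' := fun {b} ⟨y, hy⟩ => ⟨y, by rwa [inv_eq_of_mul_eq_one_right (el_AA b hy.1)]⟩ }
  rcases irr hp (K := K) (fun a ⟨y, hy⟩ => hy.1)
    (fun l hl a ⟨y, hy⟩ => ⟨_, hy.conj h.toSt (Lv_norm hp hl)⟩) with e | e
  · obtain ⟨y, b, b1, hy⟩ := h.exists_lm hp
    exact (b1 (mem_bot.1 (e.le ⟨y, hy⟩))).elim
  · exact e.ge ha

/-- Let `k * k = t`, `Lm y b` with `b` as in `exists_rk3`.  `k' = y k y⁻¹` centralises `t ρ b = k' k'`,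
`ρ(AA)`, so `t`; it acts as `conj g`, `g ∈ QW` (`cent_AA2`), `k' = ρ g k''` with `Kt k''`, and
`ρ (g g b)` satisfies `Kt`, so `b = g g = tv (nv g)` (`kt_two`). -/
theorem St1.r2 (hp : Pa m φ) (h : St1 ρ t) {k : G} (hk : Kt ρ t k) : k * k ≠ t := fun e => by
  obtain ⟨b, hb, h3⟩ := exists_rk3 hp
  obtain ⟨y, hy⟩ := h.trn hp hb
  have cA : ∀ a ∈ AA m φ, Commute (y * k * y⁻¹) (ρ a) := fun a ha =>
    ((hy.2.1 a ha).mul_left (hk.2 a)).mul_left (hy.2.1 a ha).inv_left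
  have e2 : y * k * y⁻¹ * (y * k * y⁻¹) = t * ρ b := by rw [conj_mul, e, hy.2.2]
  have ct : Commute (y * k * y⁻¹) t := by
    have := (hy.2.2 ▸ commute_cj (g := y).2 hk.1).mul_right (cA b hb).inv_right
    rwa [mul_inv_cancel_right] at this
  have k2 : Two (y * k * y⁻¹) := Two.conj (Two.of_sq (e ▸ two_of_sq h.toSt.tt)) y
  generalize y * k * y⁻¹ = k' at cA e2 ct k2
  obtain ⟨α, hα⟩ := h.toSt.au' hp ct
  obtain ⟨g, hg, rfl⟩ := cent_AA2 hp (α := α)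
    (fun a ha => (hα.fix (qs hp) h.fr (two_of_sq (el_AA a ha))).1 (cA a ha))
    (k2.imp fun k e => hα.pow_eq_one (qs hp) h.fr e)
  have k3 := h.toSt.kt ct hα
  have c : Commute k' (ρ g) := hα.commute (by simp)
  have k4 := Kt.mul ⟨Commute.refl t, h.tc⟩ (k3.pow 2)
  rw [c.symm.inv_left.mul_pow, sq k', e2, ← mul_assoc, ← mul_assoc, ← map_inv, ← map_pow, (h.tc _).eq,
    mul_assoc (ρ _), h.toSt.tt, mul_one, ← map_mul] at k4
  have := h.toSt.kt_two (qs hp) (two_of_pgroup pgroup_UU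
    (mul_mem (pow_mem (inv_mem (QW_le_UU hg)) 2) (AA_le_UU hb))) k4
  rw [inv_pow, inv_mul_eq_one, sq, QW_sq hp hg] at this
  exact h3 0 (zero_mem _) _ (nv_mem g) (by rw [tv_zero, mul_one, this])

theorem St1.st2 (hp : Pa m φ) (h : St1 ρ t) : St2 ρ t :=
  ⟨h.toSt, fun _ => h.r2 hp, fun _ => h.trn hp⟩

end CL.UM
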