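import Cfsg.Agent.INV.UM.SA

/-!
The basic configuration (compare INV/SC/Base, W1).
-/

set_option autoImplicit false
set_option linter.unusedSectionVars false
set_option linter.unusedVariables false

namespace CL.UM

open Matrix Subgroup CL.SC
open scoped commutatorElement

variable {m : ℕ} [NeZero m] {F : Type*} [Field F] [Finite F] [CharP F 2] {φ : F ≃+* F}
variable {G : Type*} [Group G] [Finite G] {ρ : SU m φ →* G} {t : G}

theorem St.au' (hp : Pa m φ) (h : St ρ t) {g : G} (hg : Commute g t) : ∃ α, Au ρ g α :=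
  h.au (qs hp) (lf hp) hg

theorem St.inner (hp : Pa m φ) (h : St ρ t) {e : G} (he : e * e = 1) (hc : Commute e t)
    {α : MulAut (SU m φ)} (hac : Au ρ e α) (hα : Ty α 1) :
    ∃ a : SU m φ, a * a = 1 ∧ (e = ρ a ∨ e = t * ρ a) := by
  obtain ⟨a, ha, rfl⟩ := hα.invol hp (hac.sq (qs hp) h.fr he)
  exact ⟨a, ha, h.inner' he hc ha hac⟩

theorem St.inner_comm (hp : Pa m φ) (h : St ρ t) {e : G} (he : e * e = 1)
    (hc : e ∈ ⁅centralizer ({t} : Set G), centralizer ({t} : Set G)⁆) :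
    ∃ a : SU m φ, a * a = 1 ∧ (e = ρ a ∨ e = t * ρ a) := by
  have c : Commute e t := mem_centralizer_singleton_iff.1 (commutator_le_self _ hc)
  obtain ⟨α, hα⟩ := h.au' hp c
  exact h.inner hp he c hα
    (h.fr.ty_comm hp (fun g hg => h.nrm g (mem_centralizer_singleton_iff.1 hg)) hc hα)

/-- `inner_comm` puts the group in `⟨t⟩ ⊔ range`, whose derived group lies in the range -/
theorem St.perf_le (hp : Pa m φ) (h : St ρ t) {s : Set G} (h1 : ∀ e ∈ s, e * e = 1)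
    (h2 : ∀ e ∈ s, Commute e t) (h3 : closure s ≤ ⁅closure s, closure s⁆) : closure s ≤ ρ.range :=
  by
  have k : closure s ≤ centralizer {t} := (closure_le _).2 fun e he =>
    mem_centralizer_singleton_iff.2 (h2 e he)
  have c : ∀ v ∈ ρ.range, Commute t v := by rintro _ ⟨a, rfl⟩; exact h.tc a
  have k2 : closure s ≤ zpowers t ⊔ ρ.range := (closure_le _).2 fun e he => by
    obtain ⟨a, -, e | e⟩ := h.inner_comm hp (h1 e he) (commutator_mono k k (h3 (subset_closure he)))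
    · exact e ▸ mem_sup_right ⟨a, rfl⟩
    · exact e ▸ mul_mem_sup (mem_zpowers t) ⟨a, rfl⟩
  refine h3.trans ((commutator_mono k2 k2).trans (commutator_le.2 fun y hy z hz => ?_))
  obtain ⟨a, ha, _, ⟨b, rfl⟩, rfl⟩ := (mem_sup_comm (zp_comm h.tt c)).1 hy
  obtain ⟨a', ha', _, ⟨b', rfl⟩, rfl⟩ := (mem_sup_comm (zp_comm h.tt c)).1 hz
  have c1 := (zp_comm h.tt c a' ha' _ ⟨b, rfl⟩).eq
  have c2 : Commute a (a' * ρ (b * b' * b⁻¹)) :=
    ((el_zpowers h.tt).comm ha ha').mul_right (zp_comm h.tt c a ha _ ⟨_, rfl⟩)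
  have c3 := (zp_comm h.tt c a' ha' _ ⟨b * b' * b⁻¹ * b'⁻¹, rfl⟩).eq
  refine ⟨b * b' * b⁻¹ * b'⁻¹, ?_⟩
  simp only [map_mul, map_inv] at c2 c3 ⊢
  calc _ = a' * (ρ b * ρ b' * (ρ b)⁻¹ * (ρ b')⁻¹) * a'⁻¹ := by rw [c3]; group
    _ = a * (a' * (ρ b * ρ b' * (ρ b)⁻¹)) * a⁻¹ * (ρ b')⁻¹ * a'⁻¹ := by rw [c2.eq]; group
    _ = a * (a' * ρ b) * ρ b' * (ρ b)⁻¹ * a⁻¹ * (ρ b')⁻¹ * a'⁻¹ := by group
    _ = _ := by rw [c1, commutatorElement_def]; group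

/-- `closure_isTv`, `perfect_range` -/
theorem St.range_le (hp : Pa m φ) (h : St ρ t) {ρ' : SU m φ →* G} (hc : ∀ a, Commute (ρ' a) t) :
    ρ'.range ≤ ρ.range := by
  have e : ρ'.range = closure (ρ' '' {a | IsTv a}) := by
    rw [← MonoidHom.map_closure, closure_isTv hp, MonoidHom.range_eq_map]
  rw [e]
  refine h.perf_le hp ?_ ?_ ?_
  · rintro _ ⟨a, ha, rfl⟩
    rw [← map_mul, IsTv.sq ha, map_one]
  · rintro _ ⟨a, -, rfl⟩
    exact hc a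
  · rw [← e, perfect_range (qs hp)]

theorem St.rank (hp : Pa m φ) (h : St ρ t) {E : Subgroup G} (hE : El E) (hc : ∀ e ∈ E, Commute e t) :
    Nat.card E ≤ 2 * qa m F := by
  obtain ⟨f, -, h1, h2⟩ := h.exists_f (qs hp) (lf hp) hE hc
  exact h2.trans (Nat.mul_le_mul_left _ (aut_le hp h1))

theorem St.rank_conj (hp : Pa m φ) (h : St ρ t) {u : G} (hu : IsConj t u) {E : Subgroup G}
    (hE : El E) (hc : ∀ e ∈ E, Commute e u) : Nat.card E ≤ 2 * qa m F := by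
  obtain ⟨g, rfl⟩ := isConj_iff.1 hu
  exact (h.conj g).rank hp hE hc

theorem St.rank_eq (hp : Pa m φ) (h : St ρ t) {E : Subgroup G} (hE : El E)
    (hc : ∀ e ∈ E, Commute e t) (hn : 2 * qa m F ≤ Nat.card E) :
    ∃ s, E = zpowers t ⊔ (cj s (AA m φ)).map ρ := by
  obtain ⟨f, hf, h1, h2⟩ := h.exists_f (qs hp) (lf hp) hE hc
  obtain ⟨s, e⟩ := aut_eq hp h1 (Nat.le_of_mul_le_mul_left (hn.trans h2) two_pos)
  have c : ∀ v ∈ (cj s (AA m φ)).map ρ, Commute t v := by rintro _ ⟨a, -, rfl⟩; exact h.tc a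
  refine ⟨s, eq_of_le_of_card_ge (fun y hy => ?_) (le_trans ?_ hn)⟩
  · obtain ⟨a, ha, e⟩ := e.le ⟨⟨y, hy⟩, rfl⟩
    rcases h.inner' (hE y hy) (hc y hy) (el_AA.map _ a ha) (e ▸ hf ⟨y, hy⟩) with rfl | rfl
    · exact mem_sup_right ⟨a, ha, rfl⟩
    · exact mul_mem_sup (mem_zpowers t) ⟨a, ha, rfl⟩
  · rw [card_zsup h.tt c fun e => h.not_mem (qs hp) (map_le_range _ _ e),
      h.fr.card_map (qs hp) (el_AA.map _).pgroup, card_cj, card_AA hp]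

/-- `⟨t⟩ ρ(AA)` -/
def Et (ρ : SU m φ →* G) (t : G) : Subgroup G := zpowers t ⊔ Ar ρ

theorem St.tA (h : St ρ t) : ∀ v ∈ Ar ρ, Commute t v := by rintro _ ⟨a, -, rfl⟩; exact h.tc a

theorem St.mem_Et (h : St ρ t) {y : G} : y ∈ Et ρ t ↔ ∃ a ∈ AA m φ, y = ρ a ∨ y = t * ρ a := by
  rw [Et, mem_zsup h.tt h.tA]
  constructor
  · rintro (⟨a, ha, e⟩ | ⟨a, ha, e⟩)
    · exact ⟨a, ha, .inl e.symm⟩
    · exact ⟨a, ha, .inr (by rw [e, ← mul_assoc, h.tt, one_mul])⟩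
  · rintro ⟨a, ha, rfl | rfl⟩
    · exact .inl ⟨a, ha, rfl⟩
    · exact .inr ⟨a, ha, by rw [← mul_assoc, h.tt, one_mul]⟩

theorem St.el_Et (h : St ρ t) : El (Et ρ t) := (el_zpowers h.tt).sup (el_AA.map ρ) (zp_comm h.tt h.tA)

theorem St.card_Ar (hp : Pa m φ) (h : St ρ t) : Nat.card (Ar ρ) = qa m F := by
  rw [h.fr.card_map (qs hp) el_AA.pgroup, card_AA hp]

theorem St.card_Et (hp : Pa m φ) (h : St ρ t) : Nat.card (Et ρ t) = 2 * qa m F := by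
  rw [Et, card_zsup h.tt h.tA fun e => h.not_mem (qs hp) (map_le_range _ _ e), h.card_Ar hp]

theorem St.injA (hp : Pa m φ) (h : St ρ t) {a b : SU m φ} (ha : a ∈ UU m φ) (hb : b ∈ UU m φ)
    (e : ρ a = ρ b) : a = b :=
  h.fr.inj (qs hp) (two_of_pgroup pgroup_UU ha) (two_of_pgroup pgroup_UU hb) e

theorem St.ne (hp : Pa m φ) (h : St ρ t) (a b : SU m φ) : ρ a ≠ t * ρ b := fun e =>
  h.not_mem (qs hp) ⟨a * b⁻¹, by rw [map_mul, map_inv, e, mul_inv_cancel_right]⟩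

theorem St.au_na (hp : Pa m φ) (h : St ρ t) {n : G} (hn : Commute n t)
    (hA : n ∈ normalizer (Ar ρ : Set G)) : ∃ α, Au ρ n α ∧ NA α := by
  obtain ⟨α, hα⟩ := h.au' hp hn
  exact ⟨α, hα, (hα.norm (qs hp) h.fr el_AA.pgroup).1 hA⟩

theorem St.norm_QW (hp : Pa m φ) (h : St ρ t) {n : G} (hn : Commute n t)
    (hA : n ∈ normalizer (Ar ρ : Set G)) :
    n ∈ normalizer (((QW m φ).map ρ : Subgroup G) : Set G) := by
  obtain ⟨α, h1, h2⟩ := h.au_na hp hn hA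
  exact (h1.norm (qs hp) h.fr (pgroup_UU.to_le QW_le_UU)).2 fun a ha => h2.qw hp ha

/-- `cent_AA2`, `inner2` -/
theorem St2.cent_two (hp : Pa m φ) (h : St2 ρ t) {n : G} (hn : Commute n t) (h2 : Two n)
    (hA : ∀ a ∈ AA m φ, Commute n (ρ a)) : ∃ g ∈ QW m φ, n = ρ g ∨ n = t * ρ g := by
  obtain ⟨α, hα⟩ := h.toSt.au' hp hn
  obtain ⟨g, hg, rfl⟩ := cent_AA2 hp (α := α)
    (fun a ha => (hα.fix (qs hp) h.fr (two_of_sq (el_AA a ha))).1 (hA a ha))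
    (h2.imp fun k e => hα.pow_eq_one (qs hp) h.fr e)
  exact ⟨g, hg, h.toSt.inner2 h.r2 h2 hn (two_of_pgroup pgroup_UU (QW_le_UU hg)) hα⟩

theorem Lm.mul {y y' : G} {a a' : SU m φ} (h : Lm ρ t y a) (h' : Lm ρ t y' a') :
    Lm ρ t (y * y') (a * a') :=
  ⟨mul_mem h.1 h'.1, fun b hb => (h.2.1 b hb).mul_left (h'.2.1 b hb), by
    calc _ = y * (y' * t * y'⁻¹) * y⁻¹ := by group
      _ = y * t * y⁻¹ * (y * ρ a' * y⁻¹) := by rw [h'.2.2]; group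
      _ = _ := by rw [h.2.2, (h.2.1 a' h'.1).eq, map_mul]; group⟩

theorem Lm.inv {y : G} {a : SU m φ} (h : Lm ρ t y a) : Lm ρ t y⁻¹ a :=
  ⟨h.1, fun b hb => (h.2.1 b hb).inv_left, by
    have e : ρ a * ρ a = 1 := by rw [← map_mul, el_AA a h.1, map_one]
    calc _ = y⁻¹ * (t * ρ a) * (ρ a * y) := by rw [mul_assoc, mul_assoc, mul_assoc, ← mul_assoc (ρ a), e]; group
      _ = y⁻¹ * (y * t * y⁻¹) * (y * ρ a) := by rw [h.2.2, (h.2.1 a h.1).eq]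
      _ = _ := by group⟩

theorem lm_one : Lm ρ t 1 1 := ⟨one_mem _, fun b _ => Commute.one_left _, by simp⟩

theorem Lm.pow {y : G} {a : SU m φ} (h : Lm ρ t y a) (n : ℕ) : Lm ρ t (y ^ n) (a ^ n) := by
  induction n with
  | zero => rw [pow_zero, pow_zero]; exact lm_one
  | succ n ih => rw [pow_succ, pow_succ]; exact ih.mul h

theorem Lm.unique (hp : Pa m φ) (h0 : St ρ t) {y : G} {a a' : SU m φ} (h : Lm ρ t y a)
    (h' : Lm ρ t y a') : a = a' :=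
  h0.injA hp (AA_le_UU h.1) (AA_le_UU h'.1) (mul_left_cancel (h.2.2.symm.trans h'.2.2))

theorem Lm.commute {y : G} (h : Lm ρ t y 1) : Commute y t :=
  mul_inv_eq_iff_eq_mul.1 (by rw [h.2.2, map_one, mul_one])

theorem Lm.eq_one (hp : Pa m φ) (h0 : St ρ t) {y : G} {a : SU m φ} (h : Lm ρ t y a)
    (hc : Commute y t) : a = 1 :=
  h.unique hp h0 ⟨one_mem _, h.2.1, by rw [hc.eq, map_one, mul_one, mul_inv_cancel_right]⟩

theorem St.lm_t (h : St ρ t) : Lm ρ t t 1 := ⟨one_mem _, fun b _ => h.tc b, by simp⟩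

theorem St.lm_QW (hp : Pa m φ) (h : St ρ t) {g : SU m φ} (hg : g ∈ QW m φ) : Lm ρ t (ρ g) 1 :=
  ⟨one_mem _, fun b hb => (QW_cent hp hg hb).map ρ, by
    rw [← (h.tc g).eq, map_one, mul_one, mul_inv_cancel_right]⟩

theorem Lm.aut {y n : G} {a : SU m φ} (h : Lm ρ t y a) (hn : Commute n t) {α : MulAut (SU m φ)}
    (h1 : Au ρ n α) (h2 : NA α) : Lm ρ t (n * y * n⁻¹) (α a) :=
  ⟨h2 a h.1, fun b hb => by
    have := commute_cj (g := n).2 (h.2.1 _ (h2.inv b hb))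
    rwa [h1, MulAut.apply_inv_self] at this, by
    calc _ = n * (y * (n⁻¹ * (t * n)) * y⁻¹) * n⁻¹ := by group
      _ = n * t * n⁻¹ * (n * ρ a * n⁻¹) := by rw [← hn.eq, inv_mul_cancel_left, h.2.2]; group
      _ = _ := by rw [h1, hn.eq, mul_inv_cancel_right]⟩

theorem Lm.conj (h0 : St ρ t) {y : G} {a l : SU m φ} (h : Lm ρ t y a)
    (hl : l ∈ normalizer (AA m φ : Set (SU m φ))) :
    Lm ρ t (ρ l * y * (ρ l)⁻¹) (l * a * l⁻¹) :=
  h.aut (h0.tc l).symm (au_self ρ l) fun b hb => (mem_normalizer_iff.1 hl b).1 hb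

theorem Lm.t_conj (h0 : St ρ t) {y : G} {a : SU m φ} (h : Lm ρ t y a) : t * y * t⁻¹ = y * ρ a := by
  have e := inv_eq_of_mul_eq_one_right h0.tt
  calc _ = t⁻¹ * (y * t * y⁻¹) * y := by rw [e]; group
    _ = _ := by rw [h.2.2, (h.2.1 a h.1).eq]; group

/-- an element of odd order centralising `t` and `ρ(AA)` centralises `W`: it maps `y` to `y ρ a` -/
theorem Ab.odd (hp : Pa m φ) {W : Subgroup G} (h : Ab ρ t W) {o : G} (ho : Odd (orderOf o))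
    (h1 : Commute o t) (h2 : ∀ a ∈ AA m φ, Commute o (ρ a)) : ∀ y ∈ W, Commute o y := fun y hy => by
  have n1 : o ∈ normalizer (Ar ρ : Set G) := centralizer_le_normalizer _ (by
    rintro _ ⟨a, ha, rfl⟩
    exact (h2 a ha).symm.eq)
  have hy' := (mem_normalizer_iff.1 (h.nW o h1 n1) y).1 hy
  obtain ⟨a, ha⟩ := h.lam y hy
  have lo : Lm ρ t o 1 := ⟨one_mem _, h2, by rw [h1.eq, map_one, mul_one, mul_inv_cancel_right]⟩
  have l := ha.inv.mul ((lo.mul ha).mul lo.inv)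
  rw [one_mul, mul_one, el_AA a ha.1] at l
  obtain ⟨b, hb, e⟩ := h.ker _ (mul_mem (inv_mem hy) hy') l.commute
  have e1 : o * y * o⁻¹ = y * ρ b := by rw [e, mul_inv_cancel_left]
  have e2 : Commute (o * o) y := mul_inv_eq_iff_eq_mul.1 (by
    calc _ = o * (o * y * o⁻¹) * o⁻¹ := by group
      _ = o * (y * ρ b) * o⁻¹ := by rw [e1]
      _ = o * y * o⁻¹ * (o * ρ b * o⁻¹) := by group
      _ = _ := by rw [e1, (h2 b hb).eq, mul_inv_cancel_right, mul_assoc, ← map_mul, el_AA b hb, map_one,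
        mul_one])
  obtain ⟨k, hk⟩ := ho
  have := e2.pow_left (k + 1)
  rwa [← pow_two, ← pow_mul, show 2 * (k + 1) = 2 * k + 1 + 1 by ring, ← hk, pow_succ, pow_orderOf_eq_one,
    one_mul] at this

theorem Ab.sq (hp : Pa m φ) {W : Subgroup G} (h : Ab ρ t W) {y : G} (hy : y ∈ W) : y * y ∈ Ar ρ :=
  by
  obtain ⟨a, ha⟩ := h.lam y hy
  exact h.ker _ (mul_mem hy hy) (Lm.commute (el_AA a ha.1 ▸ ha.mul ha))

theorem Ab.pg (hp : Pa m φ) {W : Subgroup G} (h : Ab ρ t W) : IsPGroup 2 W :=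
  pgroup_of_two fun y hy => (two_of_sq (el_AA.map ρ _ (h.sq hp hy))).of_sq

theorem Ab.norm (hp : Pa m φ) {W : Subgroup G} (h : Ab ρ t W) {l : SU m φ}
    (hl : l ∈ normalizer (AA m φ : Set (SU m φ))) : ρ l ∈ normalizer (W : Set G) :=
  h.nW _ (h.tc l).symm (norm_map hl)

theorem Ar_tu (g : G) (ρ : SU m φ →* G) : Ar (tu g ρ) = cj g (Ar ρ) := map_tu _ _ _

theorem Ar_ru (ρ : SU m φ →* G) (s : SU m φ) : Ar (ru ρ (MulAut.conj s)) = (cj s (AA m φ)).map ρ :=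
  map_ru _ _ _

theorem BaseA.lm_conj {y : G} {a : SU m φ} (h : Lm ρ t y a) (g : G) :
    Lm (tu g ρ) (g * t * g⁻¹) (g * y * g⁻¹) a :=
  ⟨h.1, fun b hb => commute_cj.2 (h.2.1 b hb), by
    calc _ = g * (y * t * y⁻¹) * g⁻¹ := by group
      _ = _ := by rw [h.2.2, tu_apply]; group⟩

theorem BaseA.lm_conj' {y g : G} {a : SU m φ} (h : Lm (tu g ρ) (g * t * g⁻¹) (g * y * g⁻¹) a) :
    Lm ρ t y a :=
  ⟨h.1, fun b hb => commute_cj.1 (h.2.1 b hb), by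
    have := h.2.2
    rw [tu_apply] at this
    calc _ = g⁻¹ * (g * y * g⁻¹ * (g * t * g⁻¹) * (g * y * g⁻¹)⁻¹) * g := by group
      _ = _ := by rw [this]; group⟩

theorem BaseA.exists_cj (g y : G) : ∃ y', y = g * y' * g⁻¹ := ⟨g⁻¹ * y * g, by group⟩

theorem BaseA.norm_cj {g n : G} {V : Subgroup G} :
    g * n * g⁻¹ ∈ normalizer (cj g V : Set G) ↔ n ∈ normalizer (V : Set G) := by
  rw [← cj_eq_iff, ← cj_eq_iff, ← cj_mul', inv_mul_cancel_right, cj_mul']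
  exact ⟨fun e => map_injective (MulAut.conj g).injective e, fun e => by rw [e]⟩

theorem BaseA.st2_conj (h : St2 ρ t) (g : G) : St2 (tu g ρ) (g * t * g⁻¹) := by
  refine ⟨h.toSt.conj g, fun k hk e => ?_, fun a ha => ?_⟩
  · obtain ⟨k, rfl⟩ := BaseA.exists_cj g k
    refine h.r2 k ⟨commute_cj.1 hk.1, fun a => commute_cj.1 (hk.2 a)⟩ ?_
    rw [conj_mul] at e
    exact mul_left_cancel (mul_right_cancel e)
  · obtain ⟨y, hy⟩ := h.trn a ha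
    exact ⟨_, BaseA.lm_conj hy g⟩

theorem BaseA.ab_conj {W : Subgroup G} (h : Ab ρ t W) (g : G) :
    Ab (tu g ρ) (g * t * g⁻¹) (cj g W) := by
  refine ⟨BaseA.st2_conj h.toSt2 g, by rw [Ar_tu]; exact map_mono h.le, ?_, ?_, ?_, fun a ha => ?_,
    fun n hn hA => ?_, ?_, fun y a h2 hy => ?_⟩
  · rintro _ ⟨y, hy, rfl⟩ _ ⟨y', hy', rfl⟩
    exact commute_cj.2 (h.comm y hy y' hy')
  · rintro _ ⟨y, hy, rfl⟩
    exact (h.lam y hy).imp fun a ha => BaseA.lm_conj ha g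
  · rintro _ ⟨y, hy, rfl⟩ hc
    rw [Ar_tu]
    exact cj_mem (h.ker y hy (commute_cj.1 hc))
  · obtain ⟨y, hy, e⟩ := h.sur a ha
    exact ⟨_, cj_mem hy, BaseA.lm_conj e g⟩
  · obtain ⟨n, rfl⟩ := BaseA.exists_cj g n
    rw [Ar_tu] at hA
    exact BaseA.norm_cj.2 (h.nW n (commute_cj.1 hn) (BaseA.norm_cj.1 hA))
  · rintro _ ⟨y, hy, rfl⟩ a ha
    exact commute_cj.2 (h.cq y hy a ha)
  · obtain ⟨y, rfl⟩ := BaseA.exists_cj g y
    have h3 := h2.conj g⁻¹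
    rw [show g⁻¹ * (g * y * g⁻¹) * g⁻¹⁻¹ = y by group] at h3
    obtain ⟨p, hp, a, ha, e⟩ := h.max y a h3 (BaseA.lm_conj' hy)
    refine ⟨_, cj_mem hp, a, ha, e.imp (fun e => ?_) fun e => ?_⟩ <;> rw [e, tu_apply] <;> group

theorem BaseA.Ar_na {α : MulAut (SU m φ)} (hα : NA α) : Ar (ru ρ α) = Ar ρ := by
  refine le_antisymm ?_ ?_ <;> rintro _ ⟨a, ha, rfl⟩
  · exact ⟨_, hα a ha, rfl⟩
  · exact ⟨_, hα.inv a ha, by rw [ru_apply, MulAut.apply_inv_self]⟩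

theorem BaseA.lm_na {α : MulAut (SU m φ)} (hα : NA α) {y : G} {a : SU m φ} :
    Lm (ru ρ α) t y a ↔ Lm ρ t y (α a) :=
  ⟨fun h => ⟨hα a h.1, fun b hb => by simpa [ru_apply] using h.2.1 _ (hα.inv b hb), h.2.2⟩,
    fun h => ⟨by simpa using hα.inv _ h.1, fun b hb => h.2.1 _ (hα b hb), h.2.2⟩⟩

theorem BaseA.lm_na' {α : MulAut (SU m φ)} (hα : NA α) {y : G} {a : SU m φ} (h : Lm ρ t y a) :
    Lm (ru ρ α) t y (α⁻¹ a) := (BaseA.lm_na hα).2 (by rwa [MulAut.apply_inv_self])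

theorem BaseA.st2_na (h : St2 ρ t) {α : MulAut (SU m φ)} (hα : NA α) : St2 (ru ρ α) t :=
  ⟨h.toSt.aut α, fun k hk => h.r2 k ⟨hk.1, fun a => by simpa [ru_apply] using hk.2 (α.symm a)⟩,
    fun a ha => (h.trn _ (hα a ha)).imp fun _ e => (BaseA.lm_na hα).2 e⟩

theorem BaseA.ab_na (hp : Pa m φ) {W : Subgroup G} (h : Ab ρ t W) {α : MulAut (SU m φ)} (hα : NA α) :
    Ab (ru ρ α) t W := by
  refine ⟨BaseA.st2_na h.toSt2 hα, (BaseA.Ar_na hα).trans_le h.le, h.comm,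
    fun y hy => (h.lam y hy).elim fun a ha => ⟨_, BaseA.lm_na' hα ha⟩,
    fun y hy hc => (BaseA.Ar_na hα).ge (h.ker y hy hc),
    fun a ha => (h.sur _ (hα a ha)).imp fun y e => ⟨e.1, (BaseA.lm_na hα).2 e.2⟩,
    fun n hn hA => h.nW n hn (BaseA.Ar_na (ρ := ρ) hα ▸ hA),
    fun y hy g hg => h.cq y hy _ (hα.qw hp hg), fun y a h2 hy => ?_⟩
  obtain ⟨p, hp', g, hg, e⟩ := h.max y _ h2 ((BaseA.lm_na hα).1 hy)
  exact ⟨p, hp', _, hα.inv.qw hp hg, by rwa [ru_apply, MulAut.apply_inv_self]⟩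

theorem BaseA.st3_na (hp : Pa m φ) (h : St3 ρ t) {α : MulAut (SU m φ)} (hα : NA α) : St3 (ru ρ α) t := by
  refine ⟨?_, ?_, ?_⟩
  · rw [BaseA.Ar_na hα]; exact BaseA.ab_na hp h.toAb hα
  · rw [BaseA.Ar_na hα]; exact h.dbl
  · rw [BaseA.Ar_na hα]; exact h.uq

theorem St3.conj (h : St3 ρ t) (g : G) : St3 (tu g ρ) (g * t * g⁻¹) := by
  have e : Hat (g * t * g⁻¹) (Ar (tu g ρ)) = cj g (Hat t (Ar ρ)) := by rw [cj_Hat, Ar_tu]
  refine ⟨e ▸ BaseA.ab_conj h.toAb g, by rw [e, Ar_tu]; exact h.dbl.cj g, fun B hB => ?_⟩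
  have := hB.cj g⁻¹
  rw [Ar_tu, ← cj_mul', inv_mul_cancel, cj_one, inv_inv, show g⁻¹ * (g * t * g⁻¹) * g = t by group] at this
  rw [e, ← h.uq _ this, ← cj_mul', mul_inv_cancel, cj_one]

/-- `ru ρ α = tu (ρ s) (ru ρ α')` with `NA α'` (`aut_AA`); each field is invariant -/
theorem St3.aut (hp : Pa m φ) (h : St3 ρ t) (α : MulAut (SU m φ)) : St3 (ru ρ α) t := by
  obtain ⟨s, hs⟩ := aut_AA hp α
  have e : ru ρ α = ru (tu (ρ s) ρ) (MulAut.conj s⁻¹ * α) := MonoidHom.ext fun a => by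
    simp [ru_apply, tu_apply, mul_assoc]
  have h1 := h.conj (ρ s)
  rw [← (h.tc s).eq, mul_inv_cancel_right] at h1
  rw [e]
  exact BaseA.st3_na hp h1 fun a ha => by
    have := mem_cj.1 (hs.le ⟨a, ha, rfl⟩)
    simpa using this

theorem Hs_eq (h : St ρ t) (s : SU m φ) : Hs ρ t s = cj (ρ s) (Hat t (Ar ρ)) := by
  rw [cj_Hat, ← (h.tc s).eq, mul_inv_cancel_right, Hs, map_cj]

theorem Hs_ru (ρ : SU m φ →* G) (t : G) (s : SU m φ) :
    Hs ρ t s = Hat t (Ar (ru ρ (MulAut.conj s))) := by rw [Hs, Ar_ru]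

/-- `|Hat| = qa ^ 2 > 2 qa`, `rank_conj` -/
theorem St3.not_conj (hp : Pa m φ) (h : St3 ρ t) {y : G} (hy : y ∈ Hat t (Ar ρ)) : ¬ IsConj t y :=
  fun hc => by
  have h1 := h.toSt.rank_conj hp hc h.dbl.sq fun e he => h.dbl.sq.comm he hy
  rw [card_dbl h.dbl h.toSt.tA, h.toSt.card_Ar hp] at h1
  have := hp.qa8
  nlinarith

/-- `g` acts as `α`; `aut_AA`, `cj_Hat` -/
theorem St.norm_GG (hp : Pa m φ) (h : St ρ t) {g : G} (hg : Commute g t) :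
    g ∈ normalizer (GG ρ t : Set G) := by
  obtain ⟨α, hα⟩ := h.au' hp hg
  obtain ⟨s', hs⟩ := aut_AA hp α
  rw [← cj_eq_iff]
  refine eq_of_le_of_card_ge ?_ (card_cj _ _).ge
  rw [GG, cj, Subgroup.map_iSup]
  refine iSup_le fun s => le_iSup_of_le (α s * s') (le_of_eq ?_)
  change cj g (Hat _ _) = _
  rw [cj_Hat, hg.eq, mul_inv_cancel_right, hα.cj, map_cj α.toMonoidHom, hs, ← cj_mul']
  rfl

/-- Let `u = g t g⁻¹`.  By `range_le`, `exists_ru`: `ρ' = ru (tu g ρ) α`; `aut_AA`, `cj_Hat`. -/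
theorem St.hat_le (hp : Pa m φ) (h : St ρ t) {g : G} {ρ' : SU m φ →* G} (h' : Fu ρ')
    (hc : ∀ a, Commute (ρ' a) (g * t * g⁻¹)) (s : SU m φ) {B : Subgroup G}
    (hB : Dbl (g * t * g⁻¹) ((cj s (AA m φ)).map ρ') B) : B ≤ cj g (GG ρ t) := by
  obtain ⟨α, rfl⟩ := (h.fr.tu g).exists_ru (qs hp) (lf hp) h' ((h.conj g).range_le hp hc)
  obtain ⟨s', hs⟩ := aut_AA hp α
  rw [map_ru, map_cj α.toMonoidHom, hs, ← cj_mul', map_tu] at hB
  refine (le_Hat hB).trans ?_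
  rw [← cj_Hat]
  exact map_mono (le_iSup (Hs ρ t) _)

theorem St3.eq_Hs (hp : Pa m φ) (h : St3 ρ t) (s : SU m φ) {B : Subgroup G}
    (hB : Dbl t ((cj s (AA m φ)).map ρ) B) : B = Hs ρ t s := by
  rw [Hs_ru]
  exact (h.aut hp _).uq B (by rwa [Ar_ru])

end CL.UM
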