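import Cfsg.Agent.INV.UM.Iso
import Cfsg.Agent.INV.UM.Hm
import Cfsg.Agent.INV.SC.K1
import Cfsg.Agent.FGS.CoprimeIndex

/-!
Types of automorphisms, involutions, the Sylow subgroup.
-/

set_option autoImplicit false
set_option linter.unusedSectionVars false
set_option linter.unusedVariables false

namespace CL.UM

open Matrix Subgroup CL.SC
open scoped commutatorElement

variable {m : ℕ} [NeZero m] {F : Type*} [Field F] [Finite F] [CharP F 2] {φ : F ≃+* F}

theorem KK.hf_map (σ : F ≃+* F) (u v : Fin m → F) :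
    hf φ (fun i => σ (u i)) (fun i => σ (v i)) = σ (hf φ u v) := by
  simp only [hf, map_sum, map_mul]
  exact Finset.sum_congr rfl fun i _ => congrArg _ (DFunLike.congr_fun (aut_comm φ σ) _)

theorem KK.gum_map (σ : F ≃+* F) {g : GL (Fin m) F} (h : GUm φ g) :
    GUm φ (Matrix.GeneralLinearGroup.map (σ : F →+* F) g) := fun u v => by
  have k : ∀ w : Fin m → F, (Matrix.GeneralLinearGroup.map (σ : F →+* F) g : Matrix (Fin m) (Fin m) F) *ᵥ w =
      fun i => σ (((g : Matrix (Fin m) (Fin m) F) *ᵥ fun j => σ.symm (w j)) i) := fun w => funext fun i => by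
    simp [mulVec, dotProduct]
  rw [k, k, KK.hf_map, h, ← KK.hf_map]
  simp

theorem KK.fld_inn (σ : F ≃+* F) (g : GL (Fin m) F) (a : SL m F) :
    fld σ (inn g a) = inn (Matrix.GeneralLinearGroup.map (σ : F →+* F) g) (fld σ a) := Subtype.ext (by
  rw [fld_val, inn_val, inn_val, map_mul, map_mul, ← map_inv, fld_val]; rfl)

theorem ty_conj (hp : Pa m φ) (s : SU m φ) : Ty (MulAut.conj s) 1 := ⟨_, gum_toGL hp s, fun a => by rw [inn_toGL, map_one]; rfl⟩

theorem ty_one : Ty (1 : MulAut (SU m φ)) 1 := ⟨1, gum_one, fun a => by rw [map_one, map_one]; rfl⟩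

theorem ty_fs (σ : F ≃+* F) : Ty (fs φ σ : MulAut (SU m φ)) σ := ⟨1, gum_one, fun a => by rw [map_one]; rfl⟩

/-- `fld σ * inn g = inn (σ g) * fld σ`, and `σ g` is an isometry (`aut_comm`) -/
theorem Ty.mul {α β : MulAut (SU m φ)} {σ τ : F ≃+* F} (h : Ty α σ) (h' : Ty β τ) :
    Ty (α * β) (σ * τ) := by
  obtain ⟨g, h1, h2⟩ := h
  obtain ⟨g', h3, h4⟩ := h'
  exact ⟨_, h1.mul (KK.gum_map σ h3), fun a => by
    rw [MulAut.mul_apply, h2, h4, KK.fld_inn, map_mul, map_mul]; rfl⟩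

theorem Ty.inv {α : MulAut (SU m φ)} {σ : F ≃+* F} (h : Ty α σ) : Ty α⁻¹ σ⁻¹ := by
  obtain ⟨g, h1, h2⟩ := h
  refine ⟨_, KK.gum_map σ⁻¹ h1.inv, fun a => ?_⟩
  have := h2 (α⁻¹ a)
  rw [MulAut.apply_inv_self] at this
  rw [← KK.fld_inn, this, map_inv, map_inv, MulAut.inv_apply_self, MulAut.inv_apply_self]

theorem Ty.pow {α : MulAut (SU m φ)} {σ : F ≃+* F} (h : Ty α σ) (n : ℕ) : Ty (α ^ n) (σ ^ n) := by
  induction n with
  | zero => rw [pow_zero, pow_zero]; exact ty_one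
  | succ n ih => rw [pow_succ, pow_succ]; exact ih.mul h

theorem KK.iso {g : GL (Fin m) F} (h : GUm φ g) (σ : F ≃+* F) {v : Fin m → F} (hv : hf φ v v = 0) :
    hf φ ((g : Matrix (Fin m) (Fin m) F) *ᵥ fun i => σ (v i))
      ((g : Matrix (Fin m) (Fin m) F) *ᵥ fun i => σ (v i)) = 0 := by
  rw [h, KK.hf_map, hv, map_zero]

theorem KK.tv (hp : Pa m φ) {α : MulAut (SU m φ)} {σ : F ≃+* F} {g : GL (Fin m) F} (h : GUm φ g)
    (h2 : ∀ a : SU m φ, (α a : SL m F) = inn g (fld σ (a : SL m F))) {v : Fin m → F} (hv : hf φ v v = 0) :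
    α (tv φ v) = tv φ ((g : Matrix (Fin m) (Fin m) F) *ᵥ fun i => σ (v i)) := Subtype.ext (by
  rw [h2, ← fs_val, fs_tv hp σ hv, tv_inn hp h (by rw [KK.hf_map, hv, map_zero])])

/-- If `inn g (fld σ a) = a` on `SU`: `g` maps `σ ∘ v` to a multiple of norm one of `v` for all
isotropic `v` (`tv_inn`, `fs_tv`, `tv_inj`).  For `v = e 0, e 1, e 0 + e 1, e 0 + c e 1` compare
coefficients: the multipliers agree, and `σ c = c`. -/
theorem Ty.eq_one (hp : Pa m φ) {σ : F ≃+* F} (h : Ty (1 : MulAut (SU m φ)) σ) : σ = 1 := by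
  obtain ⟨g, h1, h2⟩ := h
  obtain ⟨i, -, l0, li, -, hi, -⟩ := exists_lo3 hp
  have ne : i ≠ 0 := fun e => by simp [e] at hi
  have k : ∀ a b : F, ∃ c : F, σ a • (g : Matrix (Fin m) (Fin m) F) *ᵥ Pi.single 0 1 +
      σ b • (g : Matrix (Fin m) (Fin m) F) *ᵥ Pi.single i 1 = c • (Pi.single 0 a + Pi.single i b) := fun a b => by
    have w := add_mem (single_mem_Wv l0 a) (single_mem_Wv li b)
    have z := hf_W (φ := φ) w w
    obtain ⟨c, -, e⟩ := tv_inj hp z (KK.iso h1 σ z) (KK.tv hp h1 h2 z)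
    refine ⟨c, Eq.trans ?_ e⟩
    rw [← mulVec_smul, ← mulVec_smul, ← mulVec_add]
    congr 1
    funext j
    simp only [Pi.add_apply, Pi.smul_apply, Pi.single_apply, map_add]
    split_ifs <;> simp
  obtain ⟨c0, e0⟩ := k 1 0
  obtain ⟨c1, e1⟩ := k 0 1
  simp only [map_one, map_zero, one_smul, zero_smul, add_zero, zero_add, Pi.single_zero] at e0 e1
  have k' : ∀ b : F, σ b * c1 = c0 * b := fun b => by
    obtain ⟨c, e⟩ := k 1 b
    rw [e0, e1] at e
    have a0 := congrFun e 0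
    have a1 := congrFun e i
    simp [ne, ne.symm] at a0 a1
    rw [a1, a0]
  have n0 : c0 ≠ 0 := fun e => by
    have := congrArg (((g⁻¹ : GL (Fin m) F) : Matrix (Fin m) (Fin m) F) *ᵥ ·) e0
    simp only [mulVec_mulVec, Units.inv_mul, one_mulVec, e, zero_smul, mulVec_zero] at this
    simpa using congrFun this 0
  have := k' 1
  rw [map_one, one_mul, mul_one] at this
  exact RingEquiv.ext fun b => mul_right_cancel₀ n0 (by rw [← this, k', this, mul_comm]; rfl)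

theorem Ty.unique (hp : Pa m φ) {α : MulAut (SU m φ)} {σ τ : F ≃+* F} (h : Ty α σ) (h' : Ty α τ) :
    σ = τ := by
  have := h.mul h'.inv
  rw [mul_inv_cancel] at this
  exact mul_inv_eq_one.1 (this.eq_one hp)

theorem Ty.conj (hp : Pa m φ) {α : MulAut (SU m φ)} {σ : F ≃+* F} (h : Ty α σ)
    (β : MulAut (SU m φ)) : Ty (β * α * β⁻¹) σ := by
  obtain ⟨τ, h'⟩ := exists_ty hp β
  have := (h'.mul h).mul h'.inv
  rwa [aut_comm τ σ, mul_inv_cancel_right] at this

theorem exists_tyHom (hp : Pa m φ) :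
    ∃ τ : MulAut (SU m φ) →* (F ≃+* F), ∀ α σ, Ty α σ ↔ τ α = σ := by
  choose σ h using exists_ty hp
  exact ⟨MonoidHom.mk' σ fun α β => (h _).unique hp ((h α).mul (h β)), fun α τ =>
    ⟨(h α).unique hp, fun e => e ▸ h α⟩⟩

theorem ty_of_sq (hp : Pa m φ) {α : MulAut (SU m φ)} (h : α * α = 1) : Ty α 1 ∨ Ty α φ := by
  obtain ⟨σ, h1⟩ := exists_ty hp α
  by_cases e : σ = 1
  · exact .inl (e ▸ h1)
  · exact .inr (aut_inv_unique e ((h1.mul h1).unique hp (h ▸ ty_one)) hp.ne hp.sq ▸ h1)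

theorem ty_comm (hp : Pa m φ) {α : MulAut (SU m φ)} (h : α ∈ commutator (MulAut (SU m φ))) :
    Ty α 1 := by
  obtain ⟨τ, hτ⟩ := exists_tyHom hp
  have : commutator (MulAut (SU m φ)) ≤ τ.ker := Subgroup.commutator_le.2 fun a _ b _ => by
    rw [MonoidHom.mem_ker, map_commutatorElement, commutatorElement_eq_one_iff_mul_comm]
    exact aut_comm _ _
  exact (hτ α 1).2 (this h)

/-- `det g` has norm one, so odd order `r`, and `g ^ r ∈ SU` -/
theorem Ty.odd_pow (hp : Pa m φ) {α : MulAut (SU m φ)} (h : Ty α 1) :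
    ∃ (r : ℕ) (a : SU m φ), Odd r ∧ α ^ r = MulAut.conj a := by
  obtain ⟨g, h1, h2⟩ := h
  have k : ∀ n, GUm φ (g ^ n) ∧ ∀ a, ((α ^ n) a : SL m F) = inn (g ^ n) a := fun n => by
    induction n with
    | zero => exact ⟨by rw [pow_zero]; exact gum_one, fun a => by rw [pow_zero, pow_zero, map_one]; rfl⟩
    | succ n ih => exact ⟨by rw [pow_succ]; exact ih.1.mul h1, fun a => by
        rw [pow_succ, pow_succ, MulAut.mul_apply, ih.2, h2, map_mul, map_one]; rfl⟩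
  have d : ((g ^ (Nat.card F - 1) : GL (Fin m) F) : Matrix (Fin m) (Fin m) F).det = 1 := by
    have := congrArg Units.val (pow_card_eq_one' (x := Matrix.GeneralLinearGroup.det g))
    rwa [Nat.card_units, ← map_pow] at this
  obtain ⟨b, e⟩ : ∃ b : SL m F, Matrix.SpecialLinearGroup.toGL b = g ^ (Nat.card F - 1) := ⟨⟨_, d⟩, Units.ext rfl⟩
  have k' := k (Nat.card F - 1)
  rw [← e, inn_toGL] at k'
  exact ⟨_, ⟨b, (mem_SU hp).2 k'.1⟩, odd_card_sub (F := F), MulEquiv.ext fun a => Subtype.ext (k'.2 a)⟩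

theorem Ty.two (hp : Pa m φ) {α : MulAut (SU m φ)} (h : Ty α 1) (h2 : Two α) :
    ∃ a : SU m φ, Two a ∧ α = MulAut.conj a := by
  obtain ⟨r, a, hr, e⟩ := h.odd_pow hp
  obtain ⟨n, hn⟩ := h2
  obtain ⟨k, hk⟩ := exists_pow_eq_self_of_coprime (x := α) (n := r)
    ((Nat.Coprime.pow_right n (Nat.coprime_two_right.2 hr)).coprime_dvd_right (orderOf_dvd_of_pow_eq_one hn))
  rw [e, ← map_pow] at hk
  obtain ⟨b, hb, o, ho, h3, h4, h5⟩ := exists_parts (a ^ k)
  have c : Commute (MulAut.conj b)⁻¹ α := by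
    rw [← hk]; exact (((Commute.refl _).zpow_left _).map MulAut.conj).inv_left.symm.symm |> (hb.choose_spec ▸ ·)
  have : MulAut.conj o = 1 := Two.eq_one (by
    rw [show MulAut.conj o = (MulAut.conj b)⁻¹ * α by rw [← hk, h5, map_mul, inv_mul_cancel_left]]
    exact (h3.map MulAut.conj).inv.mul ⟨n, hn⟩ c) (h4.of_dvd_nat (orderOf_map_dvd _ _))
  exact ⟨b, h3, by rw [← hk, h5, map_mul, this, mul_one]⟩

theorem Ty.invol (hp : Pa m φ) {α : MulAut (SU m φ)} (h : Ty α 1) (h2 : α * α = 1) :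
    ∃ a : SU m φ, a * a = 1 ∧ α = MulAut.conj a := by
  obtain ⟨a, ha, rfl⟩ := h.two hp (two_of_sq h2)
  exact ⟨a, (qs hp).conj_inj (ha.mul ha rfl) (two_of_sq (mul_one 1)) (by rw [map_mul, h2, map_one]), rfl⟩

theorem mul_conj' (β : MulAut (SU m φ)) (s : SU m φ) :
    β * MulAut.conj s = MulAut.conj (β s) * β := MulEquiv.ext fun a => by simp

theorem Ty.tv (hp : Pa m φ) {α : MulAut (SU m φ)} {σ : F ≃+* F} (h : Ty α σ) :
    ∃ g : GL (Fin m) F, GUm φ g ∧ (∀ a : SU m φ, (α a : SL m F) = inn g (fld σ (a : SL m F))) ∧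
      ∀ v, hf φ v v = 0 → α (tv φ v) = tv φ ((g : Matrix (Fin m) (Fin m) F) *ᵥ fun i => σ (v i)) :=
  h.imp fun _ k => ⟨k.1, k.2, fun _ hv => KK.tv hp k.1 k.2 hv⟩

theorem KK.zl1 : (zl φ (0 : Fin m) 1 : SL m F) = zz 1 := su_val (mem_Fx.2 (by rw [← zz, std_zz, map_one]))

/-- `isRoot_iff`, `isConj_of_SL` -/
theorem isTv_iff_root (hp : Pa m φ) {a : SU m φ} : IsTv a ↔ IsRoot (a : SL m F) :=
  ⟨fun h => by rw [IsRoot, ← KK.zl1 (φ := φ)]; exact (SU m φ).subtype.map_isConj h, fun h =>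
    isConj_of_SL hp (zl_sq _ _) (Subtype.ext h.sq) (by rw [KK.zl1]; exact h)⟩

theorem isTv_iff (hp : Pa m φ) {a : SU m φ} : IsTv a ↔ ∃ v, v ≠ 0 ∧ hf φ v v = 0 ∧ a = tv φ v := by
  refine ⟨fun h => ?_, fun ⟨v, h0, hv, e⟩ => (isTv_iff_root hp).2 ((isRoot_iff hp.three).2
    ⟨v, ad φ v, h0, fun k => h0 (funext fun i => ?_), (hf_eq v v).symm.trans hv, e ▸ tv_val hp hv⟩)⟩
  · obtain ⟨i, -, l0, -⟩ := exists_lo3 hp
    obtain ⟨s, e⟩ := isConj_iff.1 h
    have z := hf_W (φ := φ) (single_mem_Wv l0 1) (single_mem_Wv l0 1)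
    have z' := ((mem_SU hp).1 s.2 _ _).trans z
    have e' := tv_conj hp s z
    rw [tv_single hp (l0.ne_rev l0), map_one, mul_one, e] at e'
    refine ⟨_, fun k => zl_ne_one hp ?_, z', e'⟩
    rw [k, tv_zero] at e'
    simpa [e'] using e
  · simpa [ad] using congrFun k i.rev

theorem IsTv.aut (hp : Pa m φ) {a : SU m φ} (h : IsTv a) (α : MulAut (SU m φ)) : IsTv (α a) := by
  obtain ⟨v, h0, hv, rfl⟩ := (isTv_iff hp).1 h
  obtain ⟨σ, g, h1, h2⟩ := exists_ty hp α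
  refine (isTv_iff hp).2 ⟨_, fun k => h0 ((tv_eq_one hp hv).1 (α.injective ?_)), KK.iso h1 σ hv, KK.tv hp h1 h2 hv⟩
  rw [KK.tv hp h1 h2 hv, k, tv_zero, map_one]

theorem IsTv.sq {a : SU m φ} (h : IsTv a) : a * a = 1 := by
  obtain ⟨s, rfl⟩ := isConj_iff.1 h
  rw [conj_mul, zl_sq, mul_one, mul_inv_cancel]

theorem IsTv.ne_one (hp : Pa m φ) {a : SU m φ} (h : IsTv a) : a ≠ 1 := fun e => zl_ne_one hp (isConj_one_left.1 (e ▸ h))

theorem isTv_zl (hp : Pa m φ) {a : Fin m} (ha : a ≠ a.rev) {c : F} (hc : φ c = c) (h0 : c ≠ 0) :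
    IsTv (zl φ a c) := (isTv_iff_root hp).2 (zl_val ha hc ▸ isRoot_x hp.three ha h0)

theorem closure_isTv (hp : Pa m φ) : closure {a : SU m φ | IsTv a} = ⊤ := top_le_iff.1 ((closure_tv hp).ge.trans ((closure_le _).2 (by
  rintro _ ⟨v, hv, rfl⟩
  by_cases e : v = 0
  · rw [e, tv_zero]; exact one_mem _
  · exact subset_closure ((isTv_iff hp).2 ⟨v, e, hv, rfl⟩))))

theorem KK.mem_W (hp : Pa m φ) {v : Fin m → F} (hv : hf φ v v = 0) (h : UM.tv φ v ∈ AA m φ) :
    v ∈ Wv m F := mem_Wv.2 fun i hi => by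
  have := mem_AA.1 h i i fun k => hi k.1
  rw [en, tv_val hp hv] at this
  simpa [vecMulVec_apply, ad] using this

theorem rk_iff (hp : Pa m φ) {a : SU m φ} : Rk a ↔ a ∈ AA m φ ∧ IsTv a :=
  ⟨fun ⟨v, hv, h0, e⟩ => ⟨e ▸ tv_mem hp hv, (isTv_iff hp).2 ⟨v, h0, hf_W hv hv, e⟩⟩, fun ⟨h1, h2⟩ =>
    let ⟨v, h0, hv, e⟩ := (isTv_iff hp).1 h2
    ⟨v, KK.mem_W hp hv (e ▸ h1), h0, e⟩⟩

theorem Rk.aut (hp : Pa m φ) {a : SU m φ} (h : Rk a) {α : MulAut (SU m φ)} (hα : NA α) : Rk (α a) :=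
  (rk_iff hp).2 ⟨hα a ((rk_iff hp).1 h).1, ((rk_iff hp).1 h).2.aut hp α⟩

/-- `α (tv v) ∈ AA` for `v ∈ Wv` -/
theorem NA.sw (hp : Pa m φ) {α : MulAut (SU m φ)} (hα : NA α) {σ : F ≃+* F} {g : GL (Fin m) F}
    (hg : GUm φ g) (h : ∀ a : SU m φ, (α a : SL m F) = inn g (fld σ (a : SL m F))) : Sw g := fun v hv => by
  have w : (fun i => σ.symm (v i)) ∈ Wv m F := fun i hi => by simp only [hv i hi, map_zero]
  have z := hf_W (φ := φ) w w
  have := KK.mem_W hp (KK.iso hg σ z) (KK.tv hp hg h z ▸ hα _ (tv_mem hp w))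
  simpa using this

theorem NA.inv {α : MulAut (SU m φ)} (hα : NA α) : NA α⁻¹ := fun a ha => by
  have e : (AA m φ).map α.toMonoidHom = AA m φ := eq_of_le_of_card_ge (map_le_iff_le_comap.2 hα)
    (card_map_of_injective α.injective).ge
  obtain ⟨b, hb, rfl⟩ := e.ge ha
  simpa using hb

theorem NA.mul {α β : MulAut (SU m φ)} (hα : NA α) (hβ : NA β) : NA (α * β) := fun a ha => hα _ (hβ a ha)

theorem NA.qw (hp : Pa m φ) {α : MulAut (SU m φ)} (hα : NA α) {g : SU m φ} (h : g ∈ QW m φ) :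
    α g ∈ QW m φ := by
  obtain ⟨σ, k, h1, h2⟩ := exists_ty hp α
  exact (inn_mem_QW hp h1 (hα.sw hp h1 h2) (fs_mem_QW σ h) (h2 g)).1

theorem na_std (hp : Pa m φ) {a : SU m φ} (ha : a ∈ UU m φ) (σ : F ≃+* F) :
    NA (MulAut.conj a * fs φ σ) := fun b hb => (mem_normalizer_iff.1 (UU_norm hp ha) _).1 (fs_mem_AA σ hb)

theorem wr_mem {s : ℕ} (hs : s ≤ m / 2) : wr m F s ∈ SU m φ := mem_Fx.2 (std_wr hs φ true)

/-- `exists_wr`, `isConj_of_SL` -/
theorem exists_wr' (hp : Pa m φ) {a : SU m φ} (ha : a * a = 1) :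
    ∃ s ≤ m / 2, IsConj (su φ (wr m F s)) a := by
  obtain ⟨s, hs, h⟩ := exists_wr (a := (a : SL m F)) (congrArg Subtype.val ha)
  have e := su_val (wr_mem (φ := φ) hs)
  exact ⟨s, hs, isConj_of_SL hp (Subtype.ext (by rw [coe_mul, e]; exact wr_sq hs)) ha (e.symm ▸ h)⟩

theorem exists_conj_AA (hp : Pa m φ) {a : SU m φ} (ha : a * a = 1) :
    ∃ s : SU m φ, s * a * s⁻¹ ∈ AA m φ := by
  obtain ⟨s, hs, h⟩ := exists_wr' hp ha
  obtain ⟨g, e⟩ := isConj_iff.1 h.symm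
  exact ⟨g, e ▸ mem_subgroupOf.2 ((su_val (wr_mem (φ := φ) hs)).symm ▸ wr_mem_A0 hs)⟩

/-- The map `u ↦ u * (std φ true u)⁻¹` from `U` to `{a ∈ U | a * std φ true a = 1}` has the cosets
of `UU` as fibres.  For such `a` the matrix `(i, j) ↦ a i j'` is hermitian, so `a` is determined by
the entries `a i j'` with `i ≤ j`, `i < j'`, which lie in the fixed field for `i = j`: choosing `θ`
with `F = F0 + θ F0` one gets an injection into the functions from `{(i, j) | i < j'}` to `F0`.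
Hence `q ^ (m (m - 1)) ≤ |UU| q ^ (m (m - 1) / 2)` (`card_U`); `card_SU`. -/
theorem card_UU (hp : Pa m φ) : Nat.card (UU m φ) = qq F ^ (m * (m - 1) / 2) := by
  obtain ⟨r, hr, e⟩ := card_SU hp
  obtain ⟨n, -, hn⟩ := hp.qpow
  obtain ⟨k, hk⟩ := (pgroup_UU (m := m) (φ := φ)).exists_card_eq
  refine le_antisymm (Nat.le_of_dvd (pow_pos (zero_lt_two.trans_le hp.q2) _)
    (Nat.Coprime.dvd_of_dvd_mul_right (hk ▸ (Nat.coprime_two_left.2 hr).pow_left k)
      (e ▸ card_subgroup_dvd_card _))) ?_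
  obtain ⟨θ, hθ⟩ := hp.th
  let f : SL m F → {p : Fin m × Fin m // p.1 < p.2} → {c : F // φ c = c} := fun u p =>
    ⟨θ * (std φ true u * u⁻¹ : SL m F) p.1.1 p.1.2 + φ (θ * (std φ true u * u⁻¹ : SL m F) p.1.1 p.1.2),
      by rw [map_add, hp.ff, add_comm]⟩
  have t : ∀ u : SL m F, std φ true (std φ true u) = u := fun u => by
    rw [← MulAut.mul_apply, std_mul, hp.sq, Bool.xor_self, std_one, MulAut.one_apply]
  have z : ∀ (u : SL m F) i j, φ ((std φ true u * u⁻¹ : SL m F) j.rev i.rev) = (std φ true u * u⁻¹ : SL m F) i j :=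
    fun u i j => by
      have : std φ true (std φ true u * u⁻¹)⁻¹ = std φ true u * u⁻¹ := by
        rw [map_inv, map_mul, t, map_inv, _root_.mul_inv_rev, inv_inv]
      rw [← congrArg (fun g : SL m F => g i j) this]
      change _ = φ (((std φ true u * u⁻¹)⁻¹⁻¹ : SL m F) j.rev i.rev)
      rw [inv_inv]
  have h := K1.card_le_mul (U m F) (U m F ⊓ SU m φ) f fun u hu v hv e => mem_inf.2 ⟨mul_mem (inv_mem hu) hv, by
    have : std φ true u * u⁻¹ = std φ true v * v⁻¹ := by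
      ext i j
      by_cases l : i < j
      · have a := congrArg Subtype.val (congrFun e ⟨(i, j), l⟩)
        have b := congrArg Subtype.val (congrFun e ⟨(j.rev, i.rev), Fin.rev_lt_rev.2 l⟩)
        simp only [f, map_mul, z] at a b
        rw [← z u j.rev i.rev, ← z v j.rev i.rev, Fin.rev_rev, Fin.rev_rev] at b
        generalize (std φ true u * u⁻¹ : SL m F) i j = y at a b
        generalize (std φ true v * v⁻¹ : SL m F) i j = y' at a b
        have two : (2 : F) = 0 := CharTwo.two_eq_zero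
        linear_combination θ * a + φ θ * b - (θ + φ θ + 1) * (y - y') * hθ + θ * φ θ * (y - y' - φ y + φ y') * two
      · rw [mem_U.1 (mul_mem (std_mem_U φ true hu) (inv_mem hu)) i j (not_lt.1 l),
          mem_U.1 (mul_mem (std_mem_U φ true hv) (inv_mem hv)) i j (not_lt.1 l)]
    refine mem_Fx.2 ?_
    rw [map_mul, map_inv, inv_mul_eq_iff_eq_mul, ← mul_assoc, this, inv_mul_cancel_right]⟩
  have := Fintype.ofFinite F
  rw [card_U, hp.card, Nat.card_fun, hp.card_fix, Nat.card_eq_fintype_card (α := {p : Fin m × Fin m // p.1 < p.2}),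
    Fintype.card_subtype, Fintype.card_product_filter_lt, Fintype.card_fin, Nat.choose_two_right, ← pow_mul, two_mul,
    pow_add, ← subgroupOf_map_subtype, card_map_of_injective (subtype_injective _)] at h
  exact Nat.le_of_mul_le_mul_left h (pow_pos (zero_lt_two.trans_le hp.q2) _)

theorem odd_index_UU (hp : Pa m φ) : Odd (UU m φ).index := by
  obtain ⟨r, hr, e⟩ := card_SU hp
  rw [← (UU m φ).card_mul_index, card_UU hp] at e
  rwa [Nat.eq_of_mul_eq_mul_left (pow_pos (zero_lt_two.trans_le hp.q2) _) e]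

theorem conj_le_UU (hp : Pa m φ) {P : Subgroup (SU m φ)} (h : IsPGroup 2 P) :
    ∃ s : SU m φ, cj s P ≤ UU m φ := by
  obtain ⟨g, hg⟩ := NF.conj_le h (odd_index_UU hp)
  exact ⟨g⁻¹, by rintro _ ⟨y, hy, rfl⟩; simpa using hg y hy⟩

variable (m φ) in
/-- the standard subgroup containing a Sylow subgroup of the automorphism group -/
def KK.H : Subgroup (MulAut (SU m φ)) where
  carrier := {α | ∃ a ∈ UU m φ, ∃ σ, α = MulAut.conj a * fs φ σ}
  one_mem' := ⟨1, Subgroup.one_mem _, 1, by rw [map_one, map_one, mul_one]⟩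
  mul_mem' := by
    rintro _ _ ⟨a, ha, σ, rfl⟩ ⟨b, hb, τ, rfl⟩
    exact ⟨a * fs φ σ b, Subgroup.mul_mem _ ha (fs_mem_UU σ hb), σ * τ, by
      rw [map_mul, map_mul, mul_assoc, ← mul_assoc (fs φ σ), mul_conj', mul_assoc, mul_assoc]⟩
  inv_mem' := by
    rintro _ ⟨a, ha, σ, rfl⟩
    exact ⟨fs φ σ⁻¹ a⁻¹, fs_mem_UU _ (Subgroup.inv_mem _ ha), σ⁻¹, by
      rw [_root_.mul_inv_rev, ← map_inv, ← map_inv, mul_conj']⟩

/-- As INV/SC/NF: the `conj a * fs σ`, `a ∈ UU`, form a subgroup `K`; let `P'` be a Sylow subgroup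
of `K`, or count: `K` maps onto the types, and among the elements of type `1` the inner ones have odd
index (`Ty.odd_pow`: the quotient has only elements of odd order) and the `conj a`, `a ∈ UU`, have
odd index in the inner ones.  So `K` has odd index; conjugate `P` into a Sylow subgroup of `K`. -/
theorem nf (hp : Pa m φ) {P : Subgroup (MulAut (SU m φ))} (hP : IsPGroup 2 P) :
    ∃ β : MulAut (SU m φ), ∀ α ∈ P, ∃ a ∈ UU m φ, ∃ σ, β⁻¹ * α * β = MulAut.conj a * fs φ σ := by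
  obtain ⟨τ, hτ⟩ := exists_tyHom hp
  have : Finite (MulAut (SU m φ)) := Finite.of_injective _ MulEquiv.toEquiv_injective
  refine NF.conj_le (K := KK.H m φ) hP ?_
  rw [← relIndex_eq_index_of_forall_exists_mul τ.ker (KK.H m φ) fun α => ⟨α * (fs φ (τ α))⁻¹, by
    rw [MonoidHom.mem_ker, map_mul, map_inv, (hτ _ _).1 (ty_fs _), mul_inv_cancel], _,
    ⟨1, one_mem _, τ α, by rw [map_one, one_mul]⟩, (inv_mul_cancel_right _ _).symm⟩]
  have h1 : (UU m φ).map MulAut.conj ≤ KK.H m φ := by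
    rintro _ ⟨a, ha, rfl⟩
    exact ⟨a, ha, 1, by rw [map_one, mul_one]⟩
  have h2 : (MulAut.conj : SU m φ →* _).range ≤ τ.ker := by
    rintro _ ⟨a, rfl⟩
    exact (hτ _ _).1 (ty_conj hp a)
  refine Odd.of_dvd_nat ?_ (relIndex_dvd_of_le_left _ h1)
  rw [← relIndex_mul_relIndex _ _ _ (map_le_range _ _) h2]
  refine (Fu.odd_relIndex (qs hp) (fun a ha => mem_center_iff.2 fun b => ?_) (odd_index_UU hp)).mul ?_
  · exact (mul_inv_eq_iff_eq_mul.1 (DFunLike.congr_fun (MonoidHom.mem_ker.1 ha) b)).symm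
  · obtain ⟨S, s1, -, s2, s3⟩ := exists_syl (H := τ.ker) (IsPGroup.of_bot (p := 2)) bot_le
    refine s3.of_dvd_nat (relIndex_dvd_of_le_left _ fun α hα => ?_)
    obtain ⟨a, -, e⟩ := ((hτ _ _).2 (s2 hα)).two hp (two_of_pgroup s1 hα)
    exact ⟨a, e.symm⟩

/-- `a ∈ UU` as `UU` is Sylow; `a` commutes with the `xs i j u`, `i < j`, and `zl i c`, `Lo i`,
and `us`; compare entries (or use `cent_AA2` of UM/CA in a later file) -/
theorem cent_UU (hp : Pa m φ) {a : SU m φ} (h2 : Two a) (h : ∀ u ∈ UU m φ, Commute a u) :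
    ∃ c, φ c = c ∧ a = zl φ 0 c := by
  have hU : a ∈ UU m φ := by
    have := (pgroup_UU.toSylow (odd_index_UU hp).not_two_dvd_nat).is_maximal'
      (pgroup_sup_norm pgroup_UU (R := zpowers a) (pgroup_of_two ?_) (zpowers_le.2 (mem_norm_of_le
        fun y hy => by rwa [(h y hy).eq, mul_inv_cancel_right]))) le_sup_left
    · exact this.le (mem_sup_right (mem_zpowers a))
    · rintro _ ⟨k, rfl⟩
      exact h2.imp fun n e => by
        rw [← zpow_natCast, ← _root_.zpow_mul, mul_comm, _root_.zpow_mul, zpow_natCast, e, _root_.one_zpow]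
  have f : ∀ i, Lo i → ((a : SL m F) : Matrix (Fin m) (Fin m) F) *ᵥ Pi.single i 1 = Pi.single i 1 := fun i hi => by
    have w := single_mem_Wv hi (1 : F)
    have e := tv_conj hp a (hf_W w w)
    rw [(h _ (AA_le_UU (tv_mem hp w))).eq, mul_inv_cancel_right] at e
    obtain ⟨c, -, k⟩ := tv_inj hp (hf_W w w) (((mem_SU hp).1 a.2 _ _).trans (hf_W w w)) e
    have := congrFun k i
    simp only [mulVec_single_one, col_apply, Pi.smul_apply, Pi.single_eq_same, smul_eq_mul, mul_one] at this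
    rw [k, this.symm.trans ((mem_U.1 hU i i le_rfl).trans (one_apply_eq i)), one_smul]
  have hQ : a ∈ QW m φ := (mem_QW hp).2 fun i j k => by
    by_cases hj : Lo j
    · simpa [Pi.single_apply, one_apply] using congrFun (f j hj) i
    by_cases hi : Lo i.rev
    · have := (mem_SU hp).1 a.2 (Pi.single j 1) (Pi.single i.rev 1)
      rw [f _ hi, hf_single_right, hf_single_right, Fin.rev_rev] at this
      simpa [Pi.single_apply, one_apply] using this
    · have e : i = j := mid_unique (((lo_or i).resolve_left fun l => k (.inl ⟨l, hj⟩)).resolve_left hi)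
        (((lo_or j).resolve_left hj).resolve_left fun l => k (.inr ⟨hi, l⟩))
      exact mem_U.1 hU i j e.ge
  obtain ⟨-, -, l0, -⟩ := exists_lo3 hp
  exact fix_row0 hp (QW_center hp hQ fun g hg => h g (QW_le_UU hg)) fun r u hr r0 =>
    (h _ (xs_mem_UU hp (Ind.of_lo l0 hr r0.symm).1 (Fin.pos_iff_ne_zero.2 r0) u)).symm

theorem zl_comm_UU {u : SU m φ} (h : u ∈ UU m φ) (c : F) : Commute (zl φ 0 c) u := by
  by_cases e : zz c ∈ SU m φ
  · exact Subtype.ext (by rw [coe_mul, coe_mul, zl, ← zz, su_val e]; exact zz_comm h c)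
  · rw [zl, ← zz, su, dif_neg e]; exact Commute.one_left u

theorem std_zl {a : SU m φ} (ha : a ∈ UU m φ) (σ : F ≃+* F) :
    (MulAut.conj a * fs φ σ : MulAut (SU m φ)) (zl φ 0 1) = zl φ 0 1 := by
  rw [MulAut.mul_apply, show fs φ σ (zl φ 0 1) = zl φ 0 1 from Subtype.ext (by
    rw [fs_val, KK.zl1, zz, fld_x, map_one]), MulAut.conj_apply, ← (zl_comm_UU ha 1).eq, mul_inv_cancel_right]

/-- `xs_long` for `0, 1` -/
theorem zl_mem_comm (hp : Pa m φ) (c : F) : zl φ 0 c ∈ ⁅AA m φ, UU m φ⁆ := by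
  obtain ⟨i, -, l0, li, -, hi, -⟩ := exists_lo3 hp
  have ne : 0 ≠ i := fun e => by simp [← e] at hi
  by_cases hc : φ c = c
  · obtain ⟨u, rfl⟩ := exists_trace hp.ne hp.sq hc
    have := xs_long hp (Ind.of_lo l0 li ne).2 u 1
    rw [map_one, mul_one, mul_one, Fin.rev_rev] at this
    exact this ▸ commutator_mem_commutator (xs_mem_AA hp l0 li ne u)
      (xs_mem_UU hp (Ind.of_lo l0 li ne).1 (Fin.pos_iff_ne_zero.2 ne.symm) 1)
  · rw [zl_junk (l0.ne_rev l0) hc]; exact one_mem _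

/-- conjugate `P` onto `UU` -/
theorem isTv_of_central (hp : Pa m φ) {a : SU m φ} (ha : a * a = 1) (h1 : a ≠ 1)
    {P : Subgroup (SU m φ)} (hP : IsPGroup 2 P) (hc : Nat.card (UU m φ) ≤ Nat.card P)
    (h : ∀ p ∈ P, Commute a p) : IsTv a := by
  obtain ⟨s, hs⟩ := conj_le_UU hp hP
  obtain ⟨-, -, l0, -⟩ := exists_lo3 hp
  have e := Subgroup.eq_of_le_of_card_ge hs (hc.trans (card_cj s P).ge)
  obtain ⟨c, k, hc⟩ := cent_UU hp ((two_of_sq ha).conj s) fun u hu => by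
    obtain ⟨p, hp, rfl⟩ := e.ge hu
    exact (h p hp).conj s
  exact (isTv_zl hp (l0.ne_rev l0) k fun z => h1 (by simpa [z, zl_zero] using hc)).trans
    (hc ▸ (isConj_iff.2 ⟨s, rfl⟩).symm)

/-- If `tv v`, `tv w`, `tv v * tv w` lie in `E` and `w ∉ F v`, then the product minus one has rank
at least 2 (apply it to vectors of `v^⊥ ∖ w^⊥` and of `w^⊥ ∖ v^⊥`).  So `E` consists of
elements `1 + c v (ad v)`, `φ c = c`. -/
theorem card_le_of_isTv (hp : Pa m φ) {E : Subgroup (SU m φ)} (h : ∀ a ∈ E, a = 1 ∨ IsTv a) :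
    Nat.card E ≤ qq F := by
  have k : ∀ a : E, ∃ v, hf φ v v = 0 ∧ (a : SU m φ) = tv φ v := fun a => (h a a.2).elim
    (fun e => ⟨0, hf_W (zero_mem _) (zero_mem _), e.trans tv_zero.symm⟩)
    fun e => ((isTv_iff hp).1 e).imp fun _ k => k.2
  choose f h1 h2 using k
  have key : ∀ a b : E, ∀ i j, f a i * f b j = f a j * f b i := fun a b i j => by
    have e := congrArg (fun g : SU m φ => ((g : SL m F) : Matrix (Fin m) (Fin m) F)) (h2 (a * b))
    simp only [coe_mul, Matrix.SpecialLinearGroup.coe_mul, h2 a, h2 b, tv_val hp (h1 _), mul_add, add_mul,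
      one_mul, mul_one, vecMulVec_mul_vecMulVec, add_assoc, add_right_inj] at e
    have e' : ∀ r s : Fin m, f a r * φ (f a s) + (f b r * φ (f b s) + ad φ (f a) ⬝ᵥ f b * (f a r * φ (f b s))) =
        f (a * b) r * φ (f (a * b) s) := fun r s => by
      simpa [vecMulVec_apply, ad] using congrFun (congrFun e r) s.rev
    have : (f a i * f b j - f a j * f b i) * φ (f a i * f b j - f a j * f b i) = 0 := by
      rw [map_sub, map_mul, map_mul]
      linear_combination (f (a * b) j * φ (f (a * b) j)) * e' i i - (f (a * b) j * φ (f (a * b) i)) * e' i j +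
        (f a i * φ (f a i) + (f b i * φ (f b i) + ad φ (f a) ⬝ᵥ f b * (f a i * φ (f b i)))) * e' j j -
        (f a i * φ (f a j) + (f b i * φ (f b j) + ad φ (f a) ⬝ᵥ f b * (f a i * φ (f b j)))) * e' j i
    rwa [mul_eq_zero, map_eq_zero, or_self, sub_eq_zero] at this
  obtain ⟨i, hi⟩ : ∃ i, ∀ a b : E, f a i * φ (f a i) = f b i * φ (f b i) → a = b := by
    by_cases e : ∃ c i, f c i ≠ 0
    · obtain ⟨c, i, e⟩ := e
      refine ⟨i, fun a b k => Subtype.ext (Subtype.ext (Subtype.ext ?_))⟩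
      rw [h2 a, h2 b, tv_val hp (h1 _), tv_val hp (h1 _), add_right_inj]
      ext r s
      refine mul_left_cancel₀ (mul_ne_zero e ((map_ne_zero φ).2 e)) ?_
      have a1 := congrArg φ (key c a i s.rev)
      have b1 := congrArg φ (key c b i s.rev)
      simp only [map_mul] at a1 b1
      simp only [vecMulVec_apply, ad]
      linear_combination φ (f c i) * φ (f a s.rev) * key c a i r + f c r * f a i * a1 -
        φ (f c i) * φ (f b s.rev) * key c b i r - f c r * f b i * b1 + f c r * φ (f c s.rev) * k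
    · push Not at e
      exact ⟨0, fun a b _ => Subtype.ext (by rw [h2 a, h2 b, funext (e a), funext (e b)])⟩
  rw [← hp.card_fix]
  exact Nat.card_le_card_of_injective (fun a : E => (⟨f a i * φ (f a i), by rw [map_mul, hp.ff, mul_comm]⟩ :
    {c : F // φ c = c})) fun a b e => hi a b (congrArg Subtype.val e)

variable {G : Type*} [Group G] [Finite G] {π : SU m φ →* G}

theorem Fu.nf (hp : Pa m φ) (h : Fu π) {S : Subgroup G} (hS : IsPGroup 2 S)
    (hn : S ≤ normalizer (π.range : Set G)) : ∃ β, ∀ s ∈ S, Sa (CL.UM.ru π β) s := by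
  obtain ⟨θ, hθ⟩ := h.exists_hom (qs hp) (lf hp)
  obtain ⟨g, hg⟩ := CL.UM.nf hp ((hS.comap_of_injective _ (normalizer (π.range : Set G)).subtype_injective).map θ)
  refine ⟨g, fun s hs => ?_⟩
  obtain ⟨a, ha, σ, e⟩ := hg _ ⟨⟨s, hn hs⟩, hs, rfl⟩
  exact ⟨a, ha, σ, e ▸ (hθ ⟨s, hn hs⟩).ru g⟩

theorem Fu.mem_UU (hp : Pa m φ) (h : Fu π) {s : G} (hs : s ∈ π.range) (h2 : Two s) (h1 : Sa π s) :
    s ∈ (UU m φ).map π := by
  obtain ⟨b, hb, rfl⟩ := h.lift (qs hp) hs h2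
  obtain ⟨a, ha, σ, hac⟩ := h1
  have e := (au_self π b).unique (qs hp) h hac
  have := (ty_conj hp b).unique hp (e ▸ (ty_conj hp a).mul (ty_fs σ))
  rw [one_mul] at this
  rw [← this, map_one, mul_one] at e
  exact ⟨a, ha, by rw [(qs hp).conj_inj hb (two_of_pgroup pgroup_UU ha) e]⟩

theorem Fu.UU_le (hp : Pa m φ) (h : Fu π) {K S : Subgroup G} (hS : IsPGroup 2 S) (hSK : S ≤ K)
    (hodd : Odd (S.relIndex K)) (h1 : π.range ≤ K) (h2 : K ≤ normalizer (π.range : Set G))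
    (hsd : ∀ s ∈ S, Sa π s) : ∀ a ∈ UU m φ, π a ∈ S := by
  obtain ⟨g, gH, hg⟩ := NF.conj_le' (pgroup_UU.map π) ((map_le_range π _).trans h1) hodd
  have k : cj g⁻¹ ((UU m φ).map π) ≤ (UU m φ).map π := by
    rintro _ ⟨y, hy, rfl⟩
    have e : (MulAut.conj g⁻¹).toMonoidHom y = g⁻¹ * y * g := by simp
    have s := hg y hy
    rw [e]
    exact h.mem_UU hp (by
      simpa using (mem_normalizer_iff.1 (Subgroup.inv_mem _ (h2 gH)) y).1 (map_le_range π _ hy))
      (two_of_pgroup hS s) (hsd _ s)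
  have e := Subgroup.eq_of_le_of_card_ge k (card_cj _ _).ge
  intro a ha
  obtain ⟨y, hy, e'⟩ := e.ge ⟨a, ha, rfl⟩
  rw [← e']
  simpa using hg y hy

theorem Sa.norm (hp : Pa m φ) {s : G} (h : Sa π s) :
    s ∈ normalizer (((UU m φ).map π : Subgroup G) : Set G) ∧ s ∈ normalizer (Ar π : Set G) ∧
      Commute s (π (zl φ 0 1)) := by
  obtain ⟨a, ha, σ, hac⟩ := h
  refine ⟨mem_norm_of_le ?_, mem_norm_of_le ?_, hac.commute (std_zl ha σ)⟩
  · rintro _ ⟨u, hu, rfl⟩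
    exact ⟨_, mul_mem (mul_mem ha (fs_mem_UU σ hu)) (inv_mem ha), (hac u).symm⟩
  · rintro _ ⟨u, hu, rfl⟩
    exact ⟨_, na_std hp ha σ u hu, (hac u).symm⟩

theorem Fu.ty_comm (hp : Pa m φ) (h : Fu π) {K : Subgroup G} (hK : K ≤ normalizer (π.range : Set G))
    {n : G} (hn : n ∈ ⁅K, K⁆) {α : MulAut (SU m φ)} (h1 : Au π n α) : Ty α 1 := by
  obtain ⟨θ, hθ⟩ := h.exists_hom (qs hp) (lf hp)
  have := Subgroup.commutator_mono hK hK hn
  rw [← Subgroup.map_subtype_commutator] at this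
  obtain ⟨n, hn', rfl⟩ := this
  rw [h1.unique (qs hp) h (hθ n)]
  refine CL.UM.ty_comm hp (Subgroup.commutator_mono (H₁ := θ.range) (H₂ := θ.range) le_top le_top ?_)
  rw [← map_commutator_eq]
  exact ⟨n, hn', rfl⟩

end CL.UM
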