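import Cfsg.Agent.INV.SC.CA
import Cfsg.Agent.INV.UM.K
import Cfsg.Agent.INV.UM.Hm

/-!
Centralisers in the automorphism group.
-/

set_option autoImplicit false
set_option linter.unusedSectionVars false
set_option linter.unusedVariables false

namespace CL.UM

open Matrix Subgroup CL.SC
open scoped commutatorElement

variable {m : ℕ} [NeZero m] {F : Type*} [Field F] [Finite F] [CharP F 2] {φ : F ≃+* F}

theorem CA.pr_img (hp : Pa m φ) {g : GL (Fin m) F} (hg : GUm φ g) (σ : F ≃+* F) {v w : Fin m → F} (hv : v ∈ Wv m F)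
    (hw : w ∈ Wv m F) : ((inn g (fld σ (pr φ v w : SL m F)) : SL m F) : Matrix (Fin m) (Fin m) F) =
      1 + vecMulVec (g.1 *ᵥ fun i => σ (v i)) (ad φ (g.1 *ᵥ fun i => σ (w i))) +
        vecMulVec (g.1 *ᵥ fun i => σ (w i)) (ad φ (g.1 *ᵥ fun i => σ (v i))) := by
  have e : ∀ v w : Fin m → F, (σ : F →+* F).mapMatrix (vecMulVec v (ad φ w)) =
      vecMulVec (fun i => σ (v i)) (ad φ fun i => σ (w i)) := fun v w => by
    ext i j; simp [vecMulVec_apply, ad, show ∀ a, φ (σ a) = σ (φ a) from DFunLike.congr_fun (aut_comm φ σ)]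
  rw [inn_val, fld_val, pr_val hp hv hw, map_add, map_add, map_one, e, e, hg.ad, hg.ad, mul_add, mul_add, add_mul,
    add_mul, mul_one, Units.mul_inv, mul_vecMulVec, mul_vecMulVec, vecMulVec_mul, vecMulVec_mul]

theorem CA.nv_at {o i : Fin m} (ho : o.rev = o) (hi : Lo i) (g : SU m φ) : nv g i = (g : SL m F) i o := by
  rw [nv, if_pos (show (i : ℕ) < _ from hi), Finset.sum_eq_single o (fun _ _ n => if_neg fun e => n (mid_unique e ho)) (by simp), if_pos ho]

/-- Let `α = inn g ∘ fld σ` (`Ty.tv`).  From `α (xs i j' u) = xs i j' u`, i.e.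
`σ u • g E i j' g⁻¹ + φ (σ u) • g E j i' g⁻¹ = u • E i j' + φ u • E j i'`, where
`g E i j' g⁻¹ = vecMulVec (g e i) (ad (g e j))` (`GUm.ad`), and from
`α (zl i c) = zl i c`, which gives `g e i = d i • e i`, `d i * φ (d i) = 1` (`tv_inj`).
Hypothesis: `α` fixes the `zl i c` for `i ≠ b` and the `xs i j' u` for `{i, j} ≠ {a, b}`.  Take
`c ≠ a, b`.  For `j ≠ b, c`: entry `(j, c')` gives `σ u * d j * φ (d c) = u`, so `d j = d c`,
`σ = 1`.  For `j = b`, `w = g e b`: `u • vecMulVec w (ad (d c • e c)) + φ u • vecMulVec (d c • e c) (ad w)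
= u • E b c' + φ u • E c b'` for all `u`, so (`u = 1, θ`) the first summands agree: `w = d c • e b`. -/
theorem cent_S (hp : Pa m φ) {α : MulAut (SU m φ)} {a b : Fin m} (ha : Lo a) (hb : Lo b) (hab : a ≠ b)
    (h1 : ∀ i c, Lo i → i ≠ b → α (zl φ i c) = zl φ i c)
    (h2 : ∀ i j u, Lo i → Lo j → i ≠ j → ¬ (i = a ∧ j = b) → ¬ (i = b ∧ j = a) →
      α (xs φ i j.rev u) = xs φ i j.rev u) :
    ∃ (g : GL (Fin m) F), GUm φ g ∧ (∀ x : SU m φ, (α x : SL m F) = inn g (x : SL m F)) ∧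
      ∀ v ∈ Wv m F, (g : Matrix (Fin m) (Fin m) F) *ᵥ v = v := by
  obtain ⟨σ, hσ⟩ := exists_ty hp α
  obtain ⟨g, hg, hα, ht⟩ := hσ.tv hp
  obtain ⟨c, hc, c1, -, c2, -⟩ := exists_ind hp a b
  have s1 : ∀ (i : Fin m) u, (fun j => σ ((Pi.single i u : Fin m → F) j)) = Pi.single i (σ u) := fun i u =>
    funext fun j => by simp [Pi.single_apply, apply_ite σ]
  have w1 := fun {i : Fin m} (hi : Lo i) (u : F) => single_mem_Wv hi u
  obtain ⟨d, d1, d2⟩ := tv_inj hp (hf_W (w1 hc 1) (w1 hc 1)) (by rw [s1, map_one, hg]; exact hf_W (w1 hc 1) (w1 hc 1))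
    (((tv_single hp (hc.ne_rev hc) 1).symm ▸ h1 c _ hc c2).symm.trans (ht _ (hf_W (w1 hc 1) (w1 hc 1))))
  rw [s1, map_one] at d2
  have key : ∀ j u r, Lo j → j ≠ c → σ u * g.1 r j * φ d + (if r = c then d * φ (σ u * g.1 c j) else 0) =
      if r = j then u else 0 := fun j u r hj n => by
    have e := h2 j c u hj hc n (fun e => c2.symm.symm (e.2 ▸ rfl)) fun e => c1 e.2
    rw [Hm.xs_pr hp hj hc n] at e
    have e1 := (CA.pr_img hp hg σ (w1 hj u) (w1 hc 1)).symm.trans ((congrArg Subtype.val (hα _).symm).trans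
      (e.symm ▸ pr_val hp (w1 hj u) (w1 hc 1)))
    rw [s1, s1, map_one, d2, add_assoc, add_assoc, add_right_inj] at e1
    simpa [vecMulVec_apply, ad, Pi.single_apply, n.symm, mul_comm, mul_left_comm] using congrFun (congrFun e1 r) c.rev
  obtain ⟨θ, hθ⟩ := hp.th
  have k1 : ∀ j, Lo j → j ≠ c → g.1 j j * φ d = 1 := fun j hj n => by simpa [n] using key j 1 j hj n
  obtain rfl : σ = 1 := RingEquiv.ext fun u => by
    simpa [c1.symm, mul_assoc, k1 a ha c1.symm] using key a u a ha c1.symm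
  have d0 : φ d ≠ 0 := right_ne_zero_of_mul_eq_one d1
  have k2 : ∀ r j, Lo j → φ d * g.1 r j = if r = j then 1 else 0 := fun r j hj => by
    by_cases n : j = c
    · have := congrFun d2 r
      rw [mulVec_single_one, col_apply] at this
      simp [n, this, Pi.single_apply, mul_comm _ d, d1]
    by_cases n' : r = c
    · rw [if_neg fun e => n (e.symm.trans n'), n']
      by_contra h0
      have := key j (θ / (φ d * g.1 c j)) c hj n
      rw [if_pos rfl, if_neg (Ne.symm n), ← hp.ff d, ← map_mul, hp.ff, show ∀ x, (1 : F ≃+* F) x = x from fun _ => rfl,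
        show θ / (φ d * g.1 c j) * g.1 c j * φ d = θ by field_simp [left_ne_zero_of_mul h0, right_ne_zero_of_mul h0],
        show φ d * (θ / (φ d * g.1 c j) * g.1 c j) = θ by field_simp [left_ne_zero_of_mul h0, right_ne_zero_of_mul h0],
        hθ] at this
      exact one_ne_zero this
    · simpa [n', mul_comm] using key j 1 r hj n
  obtain ⟨s, hs⟩ : ∃ s : GL (Fin m) F, s.1 = φ d • 1 :=
    ⟨⟨φ d • 1, d • 1, by simp [smul_smul, d1], by simp [smul_smul, d1, mul_comm _ d]⟩, rfl⟩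
  refine ⟨s * g, GUm.mul (fun u v => ?_) hg, fun x => ?_, fun v hv => funext fun r => ?_⟩
  · simp [hs, smul_mulVec, hf_smul_left, hf_smul_right, hp.ff, ← mul_assoc, d1]
  · rw [map_mul, (inn_eq_one (by have := hp.six; omega)).2 ⟨_, hs⟩, one_mul, hα, map_one]; rfl
  · simp only [Units.val_mul, hs, smul_mul_assoc, one_mul, mulVec, dotProduct, Matrix.smul_apply, smul_eq_mul]
    rw [Finset.sum_eq_single r (fun j _ n => ?_) (by simp)]
    · by_cases h : Lo r
      · rw [k2 r r h, if_pos rfl, one_mul]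
      · rw [mem_Wv.1 hv r h, mul_zero]
    · by_cases h : Lo j
      · rw [k2 r j h, if_neg n.symm, zero_mul]
      · rw [mem_Wv.1 hv j h, mul_zero]

theorem cent_of_fix (hp : Pa m φ) {α : MulAut (SU m φ)} {g : GL (Fin m) F} (hg : GUm φ g)
    (h : ∀ x : SU m φ, (α x : SL m F) = inn g (x : SL m F))
    (hv : ∀ v ∈ Wv m F, (g : Matrix (Fin m) (Fin m) F) *ᵥ v = v) : ∀ x ∈ AA m φ, α x = x :=
  tv_gen hp (K := α.toMonoidHom.eqLocus (MonoidHom.id _)) fun v h0 =>
    Subtype.ext ((h _).trans ((tv_inn hp hg (hf_W h0 h0)).trans (by rw [hv v h0]; rfl)))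

theorem cent_S' (hp : Pa m φ) {α : MulAut (SU m φ)} {a b : Fin m} (ha : Lo a) (hb : Lo b) (hab : a ≠ b)
    (h1 : ∀ i c, Lo i → i ≠ b → α (zl φ i c) = zl φ i c)
    (h2 : ∀ i j u, Lo i → Lo j → i ≠ j → ¬ (i = a ∧ j = b) → ¬ (i = b ∧ j = a) →
      α (xs φ i j.rev u) = xs φ i j.rev u) : ∀ x ∈ AA m φ, α x = x :=
  (cent_S hp ha hb hab h1 h2).elim fun _ h => cent_of_fix hp h.1 h.2.1 h.2.2

/-- `g` fixes `Wv` pointwise, so is trivial on `V / Wv^⊥`; let `δ` be the diagonal isometry with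
the entry `g o o` at the middle index and `1` elsewhere (`δ = 1` for even `m`).  `g δ⁻¹` has
determinant one and lies in `QW` (`mem_QW`); `δ` has odd order and commutes with `Lv`. -/
theorem cent_AA (hp : Pa m φ) {α : MulAut (SU m φ)} (h : ∀ x ∈ AA m φ, α x = x) :
    ∃ g ∈ QW m φ, ∃ β : MulAut (SU m φ), α = MulAut.conj g * β ∧ Odd (orderOf β) ∧
      (∀ l ∈ Lv m φ, β l = l) ∧ (∀ x ∈ QW m φ, β x ∈ QW m φ) ∧ Ty β 1 ∧
      ((∀ x ∈ QW m φ, β x * x⁻¹ ∈ AA m φ) → β = 1) := by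
  obtain ⟨i, -, h0, hi, -, e1, -⟩ := exists_lo3 hp
  obtain ⟨g, hg, hα, hv⟩ := cent_S hp (α := α) h0 hi (fun e => by simp [← e] at e1)
    (fun i c hi _ => h _ (zl_mem_AA hi c)) fun i j u hi hj n _ _ => h _ (xs_mem_AA hp hi hj n u)
  have c1 : ∀ i j, Lo j → g.1 i j = (1 : Matrix (Fin m) (Fin m) F) i j := fun i j hj => by
    simpa [one_apply, Pi.single_apply] using congrFun (hv _ (single_mem_Wv hj 1)) i
  have c2 : ∀ i j, Lo i.rev → g.1 i j = (1 : Matrix (Fin m) (Fin m) F) i j := fun i j hi => by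
    have := hg (Pi.single j 1) (Pi.single i.rev 1)
    rw [hv _ (single_mem_Wv hi 1), hf_single_right, hf_single_right] at this
    simpa [one_apply, Pi.single_apply] using this
  obtain ⟨D, hD⟩ : ∃ D : Fin m → F, ∀ i, D i = if i.rev = i then g.1 i i else 1 := ⟨_, fun _ => rfl⟩
  have d1 : ∀ i, Lo i ∨ Lo i.rev → D i = 1 := fun i h => by
    rw [hD, if_neg fun e : i.rev = i => h.elim (fun h => h.rev (e.symm ▸ h)) fun h => h.rev (by rwa [Fin.rev_rev, ← e])]
  have d2 : ∀ i, D i * φ (D i.rev) = 1 := fun i => by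
    rcases lo_or i with h | h | h
    · rw [d1 i (.inl h), d1 _ (.inr (by rwa [Fin.rev_rev])), map_one, mul_one]
    · rw [d1 i (.inr h), d1 _ (.inl h), map_one, mul_one]
    have := hg (Pi.single i 1) (Pi.single i 1)
    rw [hf_single_left, h, hf, Finset.sum_eq_single i (fun j _ n => ?_) (by simp)] at this
    · simpa [h, hD] using this
    rcases lo_or j with e | e | e
    · simp [c2 j.rev i (by rwa [Fin.rev_rev]), one_apply_ne fun a : j.rev = i => e.rev (a ▸ h ▸ a ▸ e.rev.elim (by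
        rw [a, ← h, ← a, Fin.rev_rev]; exact e))]
    · simp [c2 j i e, one_apply_ne n]
    · exact absurd (mid_unique e h) n
  have d0 : ∀ i, D i ≠ 0 := fun i => left_ne_zero_of_mul_eq_one (d2 i)
  let δ : GL (Fin m) F := ⟨diagonal D, diagonal fun i => (D i)⁻¹, by simp [d0], by simp [d0]⟩
  have hδ : GUm φ δ := fun u v => Finset.sum_congr rfl fun i _ => by
    simp only [δ, mulVec_diagonal, map_mul]; linear_combination u i * φ (v i.rev) * d2 i
  have ent : ∀ i j, (g * δ⁻¹).1 i j = g.1 i j * (D j)⁻¹ := fun i j => mul_diagonal _ _ _ _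
  have c3 : ∀ i j : Fin m, ¬ ((Lo i ∧ ¬ Lo j) ∨ (¬ Lo i.rev ∧ Lo j.rev)) →
      (g * δ⁻¹).1 i j = (1 : Matrix (Fin m) (Fin m) F) i j := fun i j n => by
    rw [ent]
    by_cases e : i = j
    · rw [← e, one_apply_eq, mul_inv_eq_one₀ (d0 i)]
      rcases lo_or i with h | h | h
      exacts [by rw [c1 i i h, d1 i (.inl h), one_apply_eq], by rw [c2 i i h, d1 i (.inr h), one_apply_eq],
        by rw [hD, if_pos h]]
    rw [one_apply_ne e, mul_eq_zero, ← one_apply_ne e]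
    by_cases h1 : Lo j
    · exact .inl (c1 i j h1)
    by_cases h2 : Lo i.rev
    · exact .inl (c2 i j h2)
    exact absurd (mid_unique (((lo_or i).resolve_left fun a => n (.inl ⟨a, h1⟩)).resolve_left h2)
      (((lo_or j).resolve_left h1).resolve_left fun a => n (.inr ⟨h2, a⟩))) e
  have hdet : (g * δ⁻¹).1.det = 1 := by
    rw [det_of_isUpperTriangular fun i j (l : j < i) => (c3 i j (by
      have := i.2; simp only [Lo, Fin.val_rev, Fin.lt_def] at *; omega)).trans (one_apply_ne l.ne')]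
    exact Finset.prod_eq_one fun i _ => (c3 i i (by simp)).trans (one_apply_eq i)
  let a : SU m φ := ⟨⟨_, hdet⟩, (mem_SU hp).2 (hg.mul hδ.inv)⟩
  have hβ : ∀ x : SU m φ, (((MulAut.conj a)⁻¹ * α) x : SL m F) = inn δ (x : SL m F) := fun x => by
    have : g = Matrix.SpecialLinearGroup.toGL (a : SL m F) * δ := eq_mul_of_mul_inv_eq (Units.ext rfl)
    rw [MulAut.mul_apply, ← map_inv, MulAut.conj_apply, Subgroup.coe_mul, Subgroup.coe_mul, hα, this, map_mul, inn_toGL]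
    simp [mul_assoc]
  generalize hb : (MulAut.conj a)⁻¹ * α = β at hβ
  have one : ∀ n, δ ^ n = 1 → β ^ n = 1 := fun n e => MulEquiv.ext fun x => Subtype.ext (by
    have : ∀ n : ℕ, ((β ^ n) x : SL m F) = inn (δ ^ n) (x : SL m F) := fun n => by
      induction n with
      | zero => simp
      | succ n ih => rw [pow_succ', pow_succ', map_mul, MulAut.mul_apply, MulAut.mul_apply, hβ, ih]
    rw [this, e, map_one]; rfl)
  refine ⟨a, (mem_QW hp).2 c3, β, by rw [← hb, mul_inv_cancel_left], ?_, fun l hl => ?_, fun x hx => ?_,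
    ⟨δ, hδ, fun x => by rw [hβ, map_one]; rfl⟩, fun hq => pow_one β ▸ one 1 ?_⟩
  · refine (odd_card_sub (F := F)).of_dvd_nat (orderOf_dvd_of_pow_eq_one (one _ (Units.ext ?_)))
    have := Fintype.ofFinite F
    rw [Units.val_pow_eq_pow_val, diagonal_pow, Units.val_one, ← diagonal_one, Nat.card_eq_fintype_card]
    exact congrArg _ (funext fun i => FiniteField.pow_card_sub_one_eq_one _ (d0 i))
  · refine (closure_le (β.toMonoidHom.eqLocus (MonoidHom.id _))).2 ?_ hl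
    rintro _ ⟨i, j, u, hi, hj, n, rfl⟩
    refine Subtype.ext ((hβ _).trans ?_)
    rw [MonoidHom.id_apply, xs_val hp (Ind.of_lo hi hj n).1, map_mul, inn_diag_x rfl, inn_diag_x rfl, d1 i (.inl hi),
      d1 j (.inl hj), d1 _ (.inr (by rwa [Fin.rev_rev])), d1 _ (.inr (by rwa [Fin.rev_rev]))]
    simp
  · exact (inn_mem_QW hp hδ (fun v hv => mem_Wv.2 fun i hi => by
      simp only [δ, mulVec_diagonal, mem_Wv.1 hv i hi, mul_zero]) hx (hβ x)).1
  · refine (pow_one δ).trans (Units.ext ((congrArg diagonal (funext fun o => ?_)).trans diagonal_one))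
    rcases lo_or o with h | h | ho
    exacts [d1 o (.inl h), d1 o (.inr h), by
      obtain ⟨x, hx, e⟩ := nv_sur hp ho (single_mem_Wv (F := F) h0 1)
      have e1 := nv_mul hp (AA_le_QW (hq x hx)) hx
      rw [inv_mul_cancel_right, (nv_eq_zero hp (AA_le_QW (hq x hx))).2 (hq x hx), zero_add] at e1
      have e2 := congrFun e1 0
      have e3 := congrFun e 0
      rw [CA.nv_at ho h0] at e3
      rw [CA.nv_at ho h0, CA.nv_at ho h0, hβ, show (inn δ (x : SL m F) : SL m F) 0 o = D 0 * (x : SL m F) 0 o * (D o)⁻¹ by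
        change (diagonal _ * _ * diagonal _ : Matrix _ _ F) 0 o = _; rw [mul_diagonal, diagonal_mul], e3, d1 0 (.inl h0)] at e2
      simpa using e2]

theorem cent_AA_ty (hp : Pa m φ) {α : MulAut (SU m φ)} (h : ∀ x ∈ AA m φ, α x = x) : Ty α 1 := by
  obtain ⟨g, -, β, rfl, -, -, -, h, -⟩ := cent_AA hp h
  exact mul_one (1 : F ≃+* F) ▸ (ty_conj hp g).mul h

/-- modulo the normal subgroup `conj QW` of `⟨conj QW, β⟩` -/
theorem cent_AA2 (hp : Pa m φ) {α : MulAut (SU m φ)} (h : ∀ x ∈ AA m φ, α x = x) (h2 : Two α) :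
    ∃ g ∈ QW m φ, α = MulAut.conj g := by
  obtain ⟨g, hg, β, e, ho, -, hq, -⟩ := cent_AA hp h
  have key : ∀ n : ℕ, ∃ a ∈ QW m φ, α ^ n = MulAut.conj a * β ^ n := fun n => by
    induction n with
    | zero => exact ⟨1, one_mem _, by simp⟩
    | succ n ih =>
      obtain ⟨a, ha, ih⟩ := ih
      exact ⟨_, mul_mem hg (hq a ha), by
        rw [pow_succ', ih, e, mul_assoc, ← mul_assoc β, mul_conj', map_mul, pow_succ']; simp only [mul_assoc]⟩
  obtain ⟨a, ha, e1⟩ := key (orderOf β)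
  obtain ⟨n, h2⟩ := h2
  obtain ⟨s, hs⟩ := exists_pow_eq_self_of_coprime (x := α) (n := orderOf β)
    (((Nat.coprime_two_right.2 ho).pow_right n).coprime_dvd_right (orderOf_dvd_of_pow_eq_one h2))
  exact ⟨_, pow_mem ha s, by rw [← hs, e1, pow_orderOf_eq_one, mul_one, map_pow]⟩

theorem cent_AA_inv (hp : Pa m φ) {α : MulAut (SU m φ)} (h : ∀ x ∈ AA m φ, α x = x)
    (h2 : α * α = 1) : ∃ g ∈ AA m φ, α = MulAut.conj g := by
  obtain ⟨g, hg, rfl⟩ := cent_AA2 hp h (two_of_sq h2)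
  exact ⟨g, QW_inv hp hg ((qs hp).conj_inj (two_of_pgroup pgroup_UU (QW_le_UU (mul_mem hg hg))) (two_of_sq (mul_one 1))
    (by rw [map_mul, h2, map_one])), rfl⟩

theorem cent_AA_Lv (hp : Pa m φ) {α : MulAut (SU m φ)} (h : ∀ x ∈ AA m φ, α x = x) {l : SU m φ}
    (hl : l ∈ Lv m φ) : α l * l⁻¹ ∈ QW m φ := by
  obtain ⟨g, hg, β, rfl, -, h1, -⟩ := cent_AA hp h
  simpa [h1 l hl, mul_assoc] using mul_mem hg ((mem_normalizer_iff.1 (Lv_norm_QW hp hl) _).1 (inv_mem hg))

theorem cent_UU2 (hp : Pa m φ) {α : MulAut (SU m φ)} (h : ∀ x ∈ UU m φ, α x = x) (h2 : Two α) :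
    ∃ c, φ c = c ∧ α = MulAut.conj (zl φ 0 c) := by
  obtain ⟨g, hg, rfl⟩ := cent_AA2 hp (fun x hx => h x (AA_le_UU hx)) h2
  obtain ⟨c, hc, rfl⟩ := cent_UU hp (two_of_pgroup pgroup_UU (QW_le_UU hg)) fun u hu =>
    mul_inv_eq_iff_eq_mul.1 (h u hu)
  exact ⟨c, hc, rfl⟩

/-- `O₂` of the centraliser of the highest root element -/
def QZ (m : ℕ) [NeZero m] (φ : F ≃+* F) : Subgroup (SU m φ) := (Q m F).subgroupOf (SU m φ)

theorem QZ_le : QZ m φ ≤ UU m φ := fun _ h => Q_le_U h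

theorem xs_mem_QZ (hp : Pa m φ) {j : Fin m} (h : Ind 0 j) (u : F) : xs φ 0 j u ∈ QZ m φ := by
  rw [QZ, mem_subgroupOf, xs_val hp h]
  exact mul_mem_sup (x_mem ⟨rfl, h.1.symm⟩ _) (x_mem ⟨rfl, h.ne'⟩ _)

/-- `nz_Q` for the automorphism `inn g * fld σ` of `SL` -/
theorem norm_QZ (hp : Pa m φ) {α : MulAut (SU m φ)} (h : α (zl φ 0 1) = zl φ 0 1) :
    ∀ x ∈ QZ m φ, α x ∈ QZ m φ := fun x hx => by
  obtain ⟨σ, g, -, hα⟩ := exists_ty hp α
  have e : ((zl φ (0 : Fin m) 1 : SU m φ) : SL m F) = zz 1 := by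
    rw [zl_val (zero_ne_la (m := m) (by have := hp.six; omega)) (map_one φ)]; rfl
  rw [QZ, mem_subgroupOf, hα, ← nz_Q hp.three (α := inn g * fld σ) one_ne_zero (by rw [← e, MulAut.mul_apply, ← hα, h])]
  exact mem_map_of_mem _ hx

end CL.UM
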