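import Cfsg.Agent.INV.UM.HR

/-!
The doubled root groups do not depend on the transversal.
-/

set_option autoImplicit false
set_option linter.unusedSectionVars false
set_option linter.unusedVariables false
set_option maxHeartbeats 200000

namespace CL.UM

open Matrix Subgroup CL.SC
open scoped commutatorElement

variable {m : ℕ} [NeZero m] {F : Type*} [Field F] [Finite F] [CharP F 2] {φ : F ≃+* F}
variable {G : Type*} [Group G] [Finite G] {ρ : SU m φ →* G} {t : G}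

theorem CS.mr (ρ : SU m φ →* G) (s : SU m φ) (P : Subgroup (SU m φ)) :
    P.map (ru ρ (MulAut.conj s)) = (cj s P).map ρ := map_ru _ _ _

theorem CS.ap (ρ : SU m φ →* G) (s a : SU m φ) : ru ρ (MulAut.conj s) a = ρ (s * a * s⁻¹) := rfl

theorem CS.cent (g : G) (B : Subgroup G) : cj g (centralizer (B : Set G)) = centralizer (cj g B : Set G) := by
  ext y
  simp only [mem_cj, mem_centralizer_iff, SetLike.mem_coe]
  refine ⟨fun h b hb => ?_, fun h b hb => ?_⟩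
  · simpa [mul_assoc] using (commute_cj (g := g).2 (h _ hb)).eq
  · simpa [mul_assoc] using (commute_cj (g := g⁻¹).2 (h (g * b * g⁻¹) (by simpa [mul_assoc] using hb))).eq

theorem Xh_ru (hp : Pa m φ) (ρ : SU m φ →* G) (W : Subgroup G) {w : Equiv.Perm (Fin m)} (hw : Wy w)
    (a b : Fin m) : Xh (ru ρ (MulAut.conj (pw φ w))) W a b = Xh ρ W (w a) (w b) := by rw [Xh, CS.mr, CS.mr, cj_pw_H1 hp hw, cj_pw_H2 hp hw, Xh]

theorem cj_Xh (hp : Pa m φ) (ρ : SU m φ →* G) (W : Subgroup G) {w : Equiv.Perm (Fin m)} (hw : Wy w)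
    (a b : Fin m) : cj (ρ (pw φ w)) (Xh ρ W a b) = Xh ρ (cj (ρ (pw φ w)) W) (w a) (w b) := by
  rw [Xh, Xh, ← cj_pw_H2 hp hw, map_cj, ← CS.cent, ← map_inf _ _ _ (MulAut.conj _).injective, cj, map_commutator]
  conv_rhs => rw [← cj_pw_H1 hp hw, map_cj]

theorem Hs_ru' (ρ : SU m φ →* G) (t : G) (s s' : SU m φ) :
    Hs (ru ρ (MulAut.conj s)) t s' = Hs ρ t (s * s') := by rw [Hs, CS.mr, Hs, cj_mul']

theorem Hs_one (ρ : SU m φ →* G) (t : G) : Hs ρ t 1 = Hat t (Ar ρ) := by rw [Hs, cj_one]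

/-- an element `n = y y'`, `y, y'` involutions, `y ∈ Hat`, centralising `t` and `ρ(AA)`: its odd part
is inverted by `y` and centralises `y` (`Ab.odd`); `cent_two` -/
theorem St3.dih (hp : Pa m φ) (h : St3 ρ t) {y y' n : G} (hy : y ∈ Hat t (Ar ρ)) (hy' : y' * y' = 1)
    (hn : n * n ∈ zpowers (y * y')) (h1 : Commute n t) (h2 : ∀ a ∈ AA m φ, Commute n (ρ a)) :
    ∃ g ∈ QW m φ, n = ρ g ∨ n = t * ρ g := by
  obtain ⟨a, -, o, ⟨k, hk⟩, ha, ho, e⟩ := exists_parts n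
  have c := h.toAb.odd hp ho (hk ▸ h1.zpow_left k) (fun x hx => hk ▸ (h2 x hx).zpow_left k) y hy
  obtain ⟨l, hl⟩ : o * o ∈ zpowers (y * y') := by
    rw [← hk, ← (Commute.refl n).mul_zpow]; exact zpow_mem hn k
  have := dih_y (h.dbl.sq y hy) hy' l
  simp only [hl] at this
  rw [← (c.mul_left c).eq, mul_inv_cancel_right] at this
  obtain rfl : o = 1 := (two_of_sq (mul_eq_one_iff_eq_inv.2 this)).of_sq.eq_one ho
  exact h.toSt2.cent_two hp h1 (by rwa [e, mul_one]) h2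

theorem CS.le (hp : Pa m φ) (h : St3 ρ t) {i j r : Fin m} (hi : Lo i) (hj : Lo j) (hr : Lo r)
    (hij : i ≠ j) (h1 : r ≠ i) (h2 : r ≠ j) : Xh (ru ρ (MulAut.conj (pw φ (flip r))))
      (Hat t (Ar (ru ρ (MulAut.conj (pw φ (flip r)))))) i j.rev ≤ Hat t (Ar ρ) := fun b' hb' => by
  have w := wy_flip r
  have h' := (h.aut hp (MulAut.conj (pw φ (flip r)))).toAb
  have f0 : ∀ {s}, Lo s → s ≠ r → flip r s = s := fun l n => Equiv.swap_apply_of_ne_of_ne n (l.ne_rev hr)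
  have fx : ∀ {s e}, Lo s → Lo e → s ≠ e → s ≠ r → e ≠ r → ∀ v,
      ru ρ (MulAut.conj (pw φ (flip r))) (xs φ s e.rev v) = ρ (xs φ s e.rev v) := fun ls le se n n' v => by
    rw [CS.ap, pw_xs hp w (Ind.of_lo ls le se).2, w, f0 ls n, f0 le n']
  obtain ⟨u, l'⟩ := h'.Xh_lam hp hi hj hij hb'
  obtain ⟨b, hb, l⟩ := h.toAb.Xh_sur hp hi hj hij u
  have e' := l'.2.2
  rw [fx hi hj hij h1.symm h2.symm] at e'
  have wb := h.toAb.Xh_le hp _ _ hb
  have bb := h.dbl.sq b wb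
  have bb' := h'.el hp b' (h'.Xh_le hp _ _ hb')
  have xx := el_AA _ l.1
  have ct : Commute (b * b') t := mul_inv_eq_iff_eq_mul.1 (by
    calc _ = b * (b' * t * b'⁻¹) * b⁻¹ := by group
      _ = b * t * b⁻¹ * (b * ρ (xs φ i j.rev u) * b⁻¹) := by rw [e']; group
      _ = t := by rw [l.2.2, (l.2.1 _ l.1).eq, mul_inv_cancel_right, mul_assoc, ← map_mul, xx, map_one, mul_one])
  obtain ⟨α, hα⟩ := h.toSt.au' hp ct
  have key : ∀ x ∈ AA m φ, Commute b' (ρ x) → α x = x := fun x hx k =>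
    (hα.fix (qs hp) h.fr (two_of_sq (el_AA x hx))).1 ((l.2.1 x hx).mul_left k)
  have kr : ∀ s v, Lo s → s ≠ r → α (xs φ s r.rev v) = xs φ s r.rev v := fun s v ls n =>
    key _ (xs_mem_AA hp ls hr n v) (by
      have := h'.hr0 hp hi hj ls hr hij n h1 h2 v hb'
      rw [CS.ap, pw_xs hp w (Ind.of_lo ls hr n).1, f0 ls n, flip, Equiv.swap_apply_left] at this
      exact this.symm)
  have cA : ∀ x ∈ AA m φ, Commute (b * b') (ρ x) := fun x hx => hα.commute (cent_S' hp hi hr h1.symm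
    (fun s c ls n => key _ (zl_mem_AA ls c) (by
      have := l'.2.1 _ (zl_mem_AA ls c)
      rwa [CS.ap, pw_zl w, f0 ls n] at this))
    (fun s e v ls le se _ _ => by
      by_cases k : e = r
      · subst k; exact kr s v ls se
      by_cases k' : s = r
      · subst k'
        rw [← xs_flip hp (Ind.of_lo ls le se).2, Fin.rev_rev]
        exact kr e _ le k
      exact key _ (xs_mem_AA hp ls le se v) (fx ls le se k' k v ▸ l'.2.1 _ (xs_mem_AA hp ls le se v))) x hx)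
  obtain ⟨g, hg, k | k⟩ := h.dih hp wb bb' (mul_mem (mem_zpowers _) (mem_zpowers _)) ct cA
  all_goals
    have c := h.cq b wb g hg
    rw [← eq_inv_mul_iff_mul_eq, inv_eq_of_mul_eq_one_right bb] at k
  · rw [k, c.symm.mul_mul_mul_comm, bb, one_mul, ← map_mul, ← map_one ρ] at bb'
    exact k ▸ mul_mem wb (h.le (mem_map_of_mem ρ (QW_inv hp hg
      (h.toSt.injA hp (QW_le_UU (mul_mem hg hg)) (one_mem _) bb'))))
  · have e1 : ρ (xs φ i j.rev u) = ρ (tv φ (nv g)) := by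
      rw [← QW_sq hp hg, map_mul, ← mul_one (ρ _), ← bb', k]
      calc _ = ρ (xs φ i j.rev u) * (b * t * b⁻¹) * (b * (ρ g * b)) * (t * ρ g) := by group
        _ = _ := by
          rw [l.2.2, ← c.eq, ← mul_assoc b, bb, one_mul, (h.tc _).eq, ← mul_assoc (ρ _), ← map_mul, xx, map_one, one_mul,
            (h.tc g).eq, mul_assoc (ρ g) t, ← (h.tc g).eq, ← mul_assoc t, h.toSt.tt, one_mul]
    have e2 := h.toSt.injA hp (AA_le_UU l.1) (AA_le_UU (tv_mem hp (nv_mem g))) e1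
    have e3 := en_xs hp hi hj hij u hi hi
    have e4 := en_xs hp hi hj hij u hi hj
    rw [e2, en_tv hp (nv_mem g) hi hi, if_neg (fun k => hij k.2), if_neg fun k => hij k.1] at e3
    rw [e2, en_tv hp (nv_mem g) hi hj, if_pos ⟨rfl, rfl⟩, show nv g i = 0 by simpa using e3, zero_mul] at e4
    rw [← e4, xs_zero, map_one, mul_one, mul_inv_eq_iff_eq_mul] at e'
    obtain ⟨x, hx, rfl⟩ := (h'.Xh_dbl hp hi hj hij).ker b' hb' e'
    obtain ⟨v, rfl⟩ := (mem_Xs hp (Ind.of_lo hi hj hij).2).1 hx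
    rw [fx hi hj hij h1.symm h2.symm]
    exact h.le (mem_map_of_mem ρ (xs_mem_AA hp hi hj hij v))

/-- Let `ρ' = ru ρ (conj (pw (flip r)))` (`St3.aut`), `b'` in the left group, `b` in the right one with
the same translation `x = xs i j' u`; `n = b b'` commutes with `t`, with `ρ (zl s c)`, `s ≠ r`, and all
`ρ (xs s e' v)`: for `s, e ≠ r` they lie in both block groups, and
`xs r e' v = xs e r' (φ v)` is the image of `xs e r (φ v)` under `pw (flip r)`, `hr0` for `ρ'`.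
`cent_S'`, `dih`.  If `n = ρ g` then `b' = b ρ g`, `g g = 1`, `b' ∈ Hat`.  If `n = t ρ g` then
`x = g g = tv (nv g)` has zero diagonal, so `x = 1` and `b' ∈ ρ(Xs i j')`.  Thus the left group lies
in `Hat ⊓ C(ρ H2)`, and by `Xh_fpf` in the right group; `card_dbl`. -/
theorem St3.cs1 (hp : Pa m φ) (h : St3 ρ t) {i j r : Fin m} (hi : Lo i) (hj : Lo j) (hr : Lo r)
    (hij : i ≠ j) (h1 : r ≠ i) (h2 : r ≠ j) :
    Xh ρ (Hs ρ t (pw φ (flip r))) i j.rev = Xh ρ (Hat t (Ar ρ)) i j.rev := by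
  have w := wy_flip r
  have h' := (h.aut hp (MulAut.conj (pw φ (flip r)))).toAb
  have fi : flip r i = i := Equiv.swap_apply_of_ne_of_ne h1.symm (hi.ne_rev hr)
  have fj : flip r j.rev = j.rev := by rw [w, flip, Equiv.swap_apply_of_ne_of_ne h2.symm (hj.ne_rev hr)]
  have e := Xh_ru hp ρ (Hs ρ t (pw φ (flip r))) w i j.rev
  rw [fi, fj] at e
  rw [← e, Hs_ru]
  refine eq_of_le_of_card_ge (fun y hy => ?_) ?_
  · obtain ⟨d, hd, n, -⟩ := Wey.sep0' hp hi hj hij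
    obtain ⟨y', hy', rfl⟩ := h'.Xh_fpf hp hi hj hij hd n hy
    rw [Xh, Subgroup.commutator_comm]
    refine commutator_mem_commutator ?_ ⟨CS.le hp h hi hj hr hij h1 h2 hy', ?_⟩
    · rw [← cj_pw_H1 hp w, ← CS.mr]; exact mem_map_of_mem _ ((mem_H1 hp).2 ⟨d, hd, rfl⟩)
    · rw [← fi, ← fj, ← cj_pw_H2 hp w, ← CS.mr]
      rintro _ ⟨g, hg, rfl⟩
      exact (h'.Xh_cent hp hy' hg).eq
  · rw [card_dbl (h.toAb.Xh_dbl hp hi hj hij) (by rintro _ ⟨x, -, rfl⟩; exact h.tc x),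
      card_dbl (h'.Xh_dbl hp hi hj hij) (by rintro _ ⟨x, -, rfl⟩; exact h'.tc x), CS.mr,
      cj_pw_Xs hp w (Ind.of_lo hi hj hij).2, fi, fj]

theorem CS.ai (w : Equiv.Perm (Fin m)) (a : Fin m) : w (w⁻¹ a) = a := by simp

theorem CS.vi {w : Equiv.Perm (Fin m)} (hw : Wy w) (b : Fin m) : w (w⁻¹ b.rev).rev = b := by simp [hw _]

theorem CS.vne {w : Equiv.Perm (Fin m)} {a b : Fin m} (hab : Ind a b) : w⁻¹ a ≠ w⁻¹ b.rev :=
  w⁻¹.injective.ne hab.2.1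

/-- `va_induction`, `cj_pw_eq`, `cs1` for `ru ρ (conj (pw v))` -/
theorem St3.XX_eq (hp : Pa m φ) (h : St3 ρ t) {w : Equiv.Perm (Fin m)} {a b : Fin m} (hab : Ind a b)
    (hw : Va w a b) : XX ρ t a b = Xh ρ (Hs ρ t (pw φ w)) a b := by
  refine le_antisymm (iSup₂_le fun w' hw' => Eq.le ?_) (le_iSup₂_of_le w hw le_rfl)
  refine va_induction (p := fun v => Xh ρ (Hs ρ t (pw φ v)) a b = Xh ρ (Hs ρ t (pw φ w)) a b) hw hw' rfl
    (fun v v' h1 h2 k e => by rw [← e, Hs, Hs, cj_pw_eq h1.1 h2.1 k]) fun v r hv lr n n' e => ?_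
  have := (h.aut hp (MulAut.conj (pw φ v))).cs1 hp hv.2.1 hv.2.2 lr (CS.vne hab) n n'
  rw [Xh_ru hp ρ _ hv.1, Xh_ru hp ρ _ hv.1, Hs_ru', ← Hs_ru, ← pw_mul hv.1 (wy_flip r), CS.vi hv.1,
    CS.ai] at this
  exact this.trans e

theorem XX_ru (hp : Pa m φ) (ρ : SU m φ →* G) (t : G) {w : Equiv.Perm (Fin m)} (hw : Wy w)
    (a b : Fin m) : XX (ru ρ (MulAut.conj (pw φ w))) t a b = XX ρ t (w a) (w b) := by
  refine le_antisymm (iSup₂_le fun v hv => le_iSup₂_of_le (w * v) ⟨hw.mul hv.1, ?_, ?_⟩ ?_)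
    (iSup₂_le fun v hv => le_iSup₂_of_le (w⁻¹ * v) ⟨hw.inv.mul hv.1, ?_, ?_⟩ ?_)
  · simpa using hv.2.1
  · simpa [← hw b] using hv.2.2
  · rw [Xh_ru hp ρ _ hw, Hs_ru', pw_mul hw hv.1]
  · simpa using hv.2.1
  · simpa [hw b] using hv.2.2
  · rw [Xh_ru hp ρ _ hw, Hs_ru', ← pw_mul hw (hw.inv.mul hv.1), mul_inv_cancel_left]

theorem St.XX_wey (hp : Pa m φ) (h : St ρ t) {w : Equiv.Perm (Fin m)} (hw : Wy w) (a b : Fin m) :
    cj (ρ (pw φ w)) (XX ρ t a b) = XX ρ t (w a) (w b) := by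
  rw [← XX_ru hp ρ t hw, XX, XX, cj, Subgroup.map_iSup]
  refine iSup_congr fun v => (Subgroup.map_iSup _ _).trans (iSup_congr fun _ => ?_)
  rw [Xh_ru hp ρ _ hw, Hs_ru', Hs_eq h, Hs_eq h, map_mul, cj_mul', ← cj_Xh hp ρ _ hw]

theorem XX_sym (ρ : SU m φ →* G) (t : G) (a b : Fin m) : XX ρ t b.rev a.rev = XX ρ t a b := by
  simp only [XX, Va, Fin.rev_rev, Xh_symm]
  exact iSup_congr fun w => iSup_congr_Prop (and_congr_right fun _ => and_comm) fun _ => rfl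

theorem St.XX_tor (hp : Pa m φ) (h : St ρ t) {d : Fin m → F} (hd : Dg φ d) (a b : Fin m) :
    ρ (dh φ d) ∈ normalizer (XX ρ t a b : Set G) := by
  rw [← cj_eq_iff, XX, cj, Subgroup.map_iSup]
  refine iSup_congr fun v => (Subgroup.map_iSup _ _).trans (iSup_congr fun hv => cj_eq_iff.2 (Xh_norm (cj_eq_iff.1 ?_) ?_))
  · have := pw_dh hp hv.1 (hd.wy hv.1)
    simp only [CS.ai] at this
    rw [Hs_eq h, ← cj_mul', ← map_mul, ← Hs_eq h, ← Hs_eq h, ← this, inv_mul_cancel_right, Hs, Hs, cj_mul',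
      cj_eq_iff.2 (dh_norm hp (hd.wy hv.1)).1]
  · intro g hg
    obtain ⟨e, k, rfl⟩ := (mem_H1 hp).1 hg
    exact (dh_comm hp hd k.1).map ρ

theorem St3.XX_lo (hp : Pa m φ) (h : St3 ρ t) {i j : Fin m} (hi : Lo i) (hj : Lo j) (hij : i ≠ j) :
    XX ρ t i j.rev = Xh ρ (Hat t (Ar ρ)) i j.rev := by rw [h.XX_eq hp (Ind.of_lo hi hj hij).2 (w := 1) ⟨wy_one, hi, by rwa [Fin.rev_rev]⟩, pw_one, Hs_one]

theorem CS.fr (hp : Pa m φ) (h : St3 ρ t) {w : Equiv.Perm (Fin m)} {a b : Fin m} (hab : Ind a b)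
    (hw : Va w a b) : XX ρ t a b = Xh (ru ρ (MulAut.conj (pw φ w))) (Hat t (Ar (ru ρ (MulAut.conj (pw φ w)))))
      (w⁻¹ a) (w⁻¹ b.rev).rev := by
  rw [h.XX_eq hp hab hw, Xh_ru hp ρ _ hw.1, CS.vi hw.1, CS.ai, Hs_ru]

theorem St3.XX_le (hp : Pa m φ) (h : St3 ρ t) {w : Equiv.Perm (Fin m)} {a b : Fin m} (hab : Ind a b)
    (hw : Va w a b) : XX ρ t a b ≤ Hs ρ t (pw φ w) := by rw [CS.fr hp h hab hw, Hs_ru]; exact (h.aut hp _).toAb.Xh_le hp _ _

theorem St3.XX_dbl (hp : Pa m φ) (h : St3 ρ t) {a b : Fin m} (hab : Ind a b) :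
    Dbl t ((Xs φ a b).map ρ) (XX ρ t a b) := by
  obtain ⟨w, hw, k⟩ := exists_wy_lo {a, b.rev} (by unfold Ind at hab; grind [Fin.rev_rev])
    (by unfold Ind at hab; grind [Fin.rev_rev])
  have v : Va w a b := ⟨hw, k a (by simp), k _ (by simp)⟩
  have := (h.aut hp (MulAut.conj (pw φ w))).toAb.Xh_dbl hp v.2.1 v.2.2 (CS.vne hab)
  rwa [← CS.fr hp h hab v, CS.mr, cj_pw_Xs hp hw (Ind.of_lo v.2.1 v.2.2 (CS.vne hab)).2, CS.vi hw,
    CS.ai] at this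

/-- `exists_wy_lo` for `{a, b', c, d'}` -/
theorem St3.XX_cmp (hp : Pa m φ) (h : St3 ρ t) {a b c d : Fin m} (hab : Ind a b) (hcd : Ind c d)
    (hc : Cmp a b c d) : ∀ y ∈ XX ρ t a b, ∀ y' ∈ XX ρ t c d, Commute y y' := by
  obtain ⟨w, hw, k⟩ := exists_wy_lo {a, b.rev, c, d.rev} (by unfold Ind Cmp at *; grind [Fin.rev_rev])
    (by unfold Ind Cmp at *; grind [Fin.rev_rev])
  exact fun y hy y' hy' => (h.aut hp (MulAut.conj (pw φ w))).comm
    y (Hs_ru ρ t _ ▸ h.XX_le hp hab ⟨hw, k _ (by simp), k _ (by simp)⟩ hy)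
    y' (Hs_ru ρ t _ ▸ h.XX_le hp hcd ⟨hw, k _ (by simp), k _ (by simp)⟩ hy')

/-- `exists_wy_lo` for `{a, b', r}`; `cq`, `us_mem_QW`, `pw_us` -/
theorem St3.XX_lng (hp : Pa m φ) (h : St3 ρ t) {a b r : Fin m} (hab : Ind a b) (h0 : r ≠ r.rev)
    (h1 : r ≠ a.rev) (h2 : r ≠ b) {y : G} (hy : y ∈ XX ρ t a b) :
    (∀ c, Commute y (ρ (zl φ r c))) ∧ ∀ o c d, o.rev = o → Commute y (ρ (us φ o r c d)) := by
  obtain ⟨w, hw, k⟩ := exists_wy_lo {a, b.rev, r} (by unfold Ind at *; grind [Fin.rev_rev])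
    (by unfold Ind at *; grind [Fin.rev_rev])
  have h' := h.aut hp (MulAut.conj (pw φ w))
  have wy := Hs_ru ρ t _ ▸ h.XX_le hp hab ⟨hw, k _ (by simp), k _ (by simp)⟩ hy
  have lr := k r (by simp)
  refine ⟨fun c => ?_, fun o c d ho => ?_⟩
  · have := h'.cq y wy _ (AA_le_QW (zl_mem_AA lr c))
    rwa [CS.ap, pw_zl hw, CS.ai] at this
  · have := h'.cq y wy _ (us_mem_QW hp ho lr c d)
    rwa [CS.ap, pw_us hp hw ho (lr.ne_rev lr), CS.ai] at this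

/-- `hr2` in a frame with `a, b, c'` low -/
theorem St3.half1 (hp : Pa m φ) (h : St3 ρ t) {a b c : Fin m} (h3 : Ind3 a b c) (u : F) {y : G}
    (hy : y ∈ XX ρ t b c) : ⁅ρ (xs φ a b u), y⁆ ∈ XX ρ t a c := by
  obtain ⟨w, hw, k⟩ := exists_wy_lo {a, b, c.rev} (by unfold Ind3 Ind at *; grind [Fin.rev_rev])
    (by unfold Ind3 Ind at *; grind [Fin.rev_rev])
  have la := k a (by simp)
  have lb := k b (by simp)
  have lc := k c.rev (by simp)
  rw [CS.fr hp h h3.2.1 ⟨hw, lb, lc⟩] at hy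
  have := (h.aut hp (MulAut.conj (pw φ w))).toAb.hr2 hp lb lc la (CS.vne h3.2.1) (w⁻¹.injective.ne h3.1.1)
    (CS.vne h3.2.2) u hy
  rwa [← CS.fr hp h h3.2.2 ⟨hw, la, lc⟩, CS.ap, pw_xs hp hw (hw.inv.ind.2 h3.1), CS.ai,
    CS.ai] at this

/-- `half1` for `c', b', a'` -/
theorem St3.half2 (hp : Pa m φ) (h : St3 ρ t) {a b c : Fin m} (h3 : Ind3 a b c) (u : F) {y : G}
    (hy : y ∈ XX ρ t a b) : ⁅y, ρ (xs φ b c u)⁆ ∈ XX ρ t a c := by
  have := h.half1 hp (a := c.rev) (b := b.rev) (c := a.rev) ⟨h3.2.1.symm.rev_left.rev_right,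
    h3.1.symm.rev_left.rev_right, h3.2.2.symm.rev_left.rev_right⟩ (φ u) (y := y) (by rwa [XX_sym])
  rw [XX_sym, xs_flip hp h3.2.1] at this
  rw [← commutatorElement_inv]
  exact inv_mem this

end CL.UM
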