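import Cfsg.Agent.INV.UM.Base
import Cfsg.Agent.INV.SC.D2a

/-!
Coordinates (compare INV/SC/D2).
-/

set_option autoImplicit false
set_option linter.unusedSectionVars false
set_option linter.unusedVariables false

namespace CL.UM

open Matrix Subgroup CL.SC
open scoped commutatorElement

variable {m : ℕ} [NeZero m] {F : Type*} [Field F] [Finite F] [CharP F 2] {φ : F ≃+* F}
variable {G : Type*} [Group G] [Finite G] {ρ : SU m φ →* G} {t : G}

variable {X : Fin m → Fin m → Subgroup G} {R : Type*} [AddCommGroup R]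

namespace Co1

theorem xX (hp : Pa m φ) {a b : Fin m} (h : Ind a b) (u : F) : ρ (xs φ a b u) ∈ (Xs φ a b).map ρ :=
  ⟨_, (mem_Xs hp h).2 ⟨u, rfl⟩, rfl⟩

theorem cF {a b c : Fin m} (h1 : Ind a b) (h2 : Ind b c) (h3 : Ind a c) : Cmp a b a c :=
  ⟨h1.2.2.1, h3.1, h1.1.symm, h2.2.1⟩

theorem cS {a b c : Fin m} (h1 : Ind a b) (h2 : Ind b c) (h3 : Ind a c) : Cmp a c b c :=
  ⟨h1.2.1, h3.1, h2.1.symm, h2.2.2.2⟩

theorem xinj (hp : Pa m φ) (h : St ρ t) {a b c d : Fin m} (h1 : Ind a b) (h2 : Ind c d) {u v : F}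
    (e : ρ (xs φ a b u) = ρ (xs φ c d v)) : xs φ a b u = xs φ c d v :=
  h.fr.inj (qs hp) (two_of_sq (xs_sq hp h1 u)) (two_of_sq (xs_sq hp h2 v)) e

theorem disj (hp : Pa m φ) (h : Rel ρ t X) {a b c d : Fin m} (h1 : Ind a b) (h2 : Ind c d)
    (n1 : ¬ (a = c ∧ b = d)) (n2 : a ≠ d.rev) {y : G} (k1 : y ∈ X a b) (k2 : y ∈ X c d) : y = 1 := by
  have key : ∀ u, u ∈ (Xs φ a b).map ρ → u ∈ (Xs φ c d).map ρ → u = 1 := by
    rintro _ ⟨g, hg, rfl⟩ ⟨g', hg', e⟩
    obtain ⟨u, rfl⟩ := (mem_Xs hp h1).1 hg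
    obtain ⟨v, rfl⟩ := (mem_Xs hp h2).1 hg'
    have := congrArg (fun g : SU m φ => ((g : SL m F) : Matrix (Fin m) (Fin m) F) a b)
      (xinj hp h.toSt h2 h1 e)
    simp only [xs_mat hp h1, xs_mat hp h2, Matrix.add_apply, single_apply_same] at this
    rw [single_apply_of_ne _ _ _ _ _ (fun k => n1 ⟨k.1.symm, k.2.symm⟩),
      single_apply_of_ne _ _ _ _ _ (fun k => n2 k.1.symm),
      single_apply_of_ne _ _ _ _ _ (fun k => h1.2.1 k.1.symm), add_zero, add_zero, add_zero,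
      left_eq_add] at this
    rw [this, xs_zero, map_one]
  have k : Commute y t := commutatorElement_eq_one_iff_commute.1
    (key _ ((h.d a b h1).lam y k1) ((h.d c d h2).lam y k2))
  exact key y ((h.d a b h1).ker y k1 k) ((h.d c d h2).ker y k2 k)

theorem weyl_mon (hp : Pa m φ) (h : Rel ρ t X) {j k : Fin m} (hjk : Ind j k) {c : F} (hc : c ≠ 0)
    (y : G) : ρ (xs φ j k c) * (ρ (xs φ k j c⁻¹) * (ρ (xs φ j k c) * y * (ρ (xs φ j k c))⁻¹) *
      (ρ (xs φ k j c⁻¹))⁻¹) * (ρ (xs φ j k c))⁻¹ = ρ (dh φ (hd φ j k c)) *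
      (ρ (pw φ (dsw j k)) * y * (ρ (pw φ (dsw j k)))⁻¹) * (ρ (dh φ (hd φ j k c)))⁻¹ := by
  have := congrArg (fun n => ρ n * y * (ρ n)⁻¹) (xs_weyl hp hjk hc)
  simp only [map_mul, _root_.mul_inv_rev, mul_assoc] at this ⊢
  exact this

end Co1

open Co1

/-- `wy_induction`, `pw_flip`, `pw_dsw`, `lng`, `cmp` -/
theorem Rel.fix (hp : Pa m φ) (h : Rel ρ t X) {a b : Fin m} (hab : Ind a b) {y : G} (hy : y ∈ X a b)
    {w : Equiv.Perm (Fin m)} (hw : Wy w) (ha : w a = a) (hb : w b = b) : Commute (ρ (pw φ w)) y := by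
  refine (wy_induction (p := fun w => Wy w ∧ Commute (ρ (pw φ w)) y) hab ⟨wy_one, ?_⟩
    (fun w r k r1 r2 r3 r4 r5 => ⟨(wy_flip r).mul k.1, ?_⟩)
    (fun w r s k i i1 i2 i3 i4 => ⟨(wy_dsw i).mul k.1, ?_⟩) hw ha hb).2
  · rw [pw_one, map_one]; exact Commute.one_left y
  · have c1 := ((h.lng a b r hab r1 r3 r4 y hy).1 1).symm
    have c2 := ((h.lng a b r.rev hab (by rwa [Fin.rev_rev, ne_comm]) (Fin.rev_injective.ne r2)
      (fun e => r5 (by rw [← e, Fin.rev_rev])) y hy).1 1).symm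
    rw [pw_mul (wy_flip r) k.1, pw_flip r1, map_mul, map_mul, map_mul]
    exact ((c1.mul_left c2).mul_left c1).mul_left k.2
  · have c : ∀ r s, Ind r s → Ind a r → Ind a s → Ind b r → Ind b s → Commute (ρ (xs φ r s 1)) y :=
      fun r s i i1 i2 i3 i4 => h.cmp r s a b i hab ⟨i1.symm.2.1, i3.1.symm, i2.1.symm, i4.symm.2.1⟩ _
        ((h.d r s i).le (xX hp i 1)) y hy
    have c1 := c r s i i1 i2 i3 i4
    rw [pw_mul (wy_dsw i) k.1, pw_dsw hp i, map_mul, map_mul, map_mul]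
    exact ((c1.mul_left (c s r i.symm i2 i1 i4 i3)).mul_left c1).mul_left k.2

/-- coordinates in an abstract group -/
structure Pre (ρ : SU m φ →* G) (t : G) (X : Fin m → Fin m → Subgroup G) (E : Fin m → Fin m → R → G)
    (mul : R → R → R) (ι : F →+ R) (lam : R →+ F) (s : R →+ R) : Prop where
  add : ∀ a b r r', E a b (r + r') = E a b r * E a b r'
  inj : ∀ a b, Function.Injective (E a b)
  mem : ∀ a b, Ind a b → ∀ y, y ∈ X a b ↔ ∃ r, y = E a b r
  pm : ∀ w a b, Wy w → Ind a b → ∀ r, ρ (pw φ w) * E a b r * (ρ (pw φ w))⁻¹ = E (w a) (w b) r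
  tri : ∀ a b c, Ind3 a b c → ∀ r r', ⁅E a b r, E b c r'⁆ = E a c (mul r r')
  sub : ∀ a b, Ind a b → ∀ u, E a b (ι u) = ρ (xs φ a b u)
  act : ∀ a b r, t * E a b r * t⁻¹ = E a b (r + ι (lam r))
  flp : ∀ a b, Ind a b → ∀ r, E b.rev a.rev r = E a b (s r)

/-- as `D2.exists_pre`, with `exists_wy2`, `exists_wy3`, `fix`; `s` is defined by `flp` for the base
pair (`sym`) -/
theorem exists_pre (hp : Pa m φ) (h : Rel ρ t X) {a0 b0 : Fin m} (h0 : Ind a0 b0) (f : R → G)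
    (fa : ∀ r s, f (r + s) = f r * f s) (fi : Function.Injective f)
    (fm : ∀ y, y ∈ X a0 b0 ↔ ∃ r, f r = y) : ∃ (E : Fin m → Fin m → R → G) (mul : R → R → R)
      (ι : F →+ R) (lam : R →+ F) (s : R →+ R), Pre ρ t X E mul ι lam s := by
  have Z := h.d a0 b0 h0
  have fZ : ∀ r, f r ∈ X a0 b0 := fun r => (fm _).2 ⟨r, rfl⟩
  obtain ⟨k0, -, -, k2, k1⟩ := h0.third hp
  replace k2 := k2.symm
  have ew : ∀ i j : Fin m, ∃ w : Equiv.Perm (Fin m), Wy w ∧ (Ind i j → w a0 = i ∧ w b0 = j) := fun i j => by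
    by_cases e : Ind i j
    · obtain ⟨w, hw⟩ := exists_wy2 h0 e
      exact ⟨w, hw.1, fun _ => hw.2⟩
    · exact ⟨1, wy_one, fun n => absurd n e⟩
  choose w hw' hw using ew
  let E : Fin m → Fin m → R → G := fun i j r => ρ (pw φ (w i j)) * f r * (ρ (pw φ (w i j)))⁻¹
  have any : ∀ s : Equiv.Perm (Fin m), Wy s → ∀ r,
      ρ (pw φ s) * f r * (ρ (pw φ s))⁻¹ = E (s a0) (s b0) r := by
    intro s hs r
    obtain ⟨e1, e2⟩ := hw _ _ (hs.ind.2 h0)
    have := (h.fix hp h0 (fZ r) ((hw' (s a0) (s b0)).inv.mul hs) (by simp [Equiv.symm_apply_eq, e1])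
      (by simp [Equiv.symm_apply_eq, e2])).eq
    rw [pw_mul (hw' _ _).inv hs, ← pw_inv (hw' _ _), map_mul, map_inv] at this
    simp only [E]
    generalize ρ (pw φ (w (s a0) (s b0))) = a at *
    calc _ = a * (a⁻¹ * ρ (pw φ s) * f r) * (ρ (pw φ s))⁻¹ := by group
      _ = _ := by rw [this]; group
  have Epm : ∀ (s : Equiv.Perm (Fin m)) i j, Wy s → Ind i j → ∀ r,
      ρ (pw φ s) * E i j r * (ρ (pw φ s))⁻¹ = E (s i) (s j) r := fun s i j hs hij r => by
    have := any (s * w i j) (hs.mul (hw' i j)) r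
    rw [Equiv.Perm.mul_apply, Equiv.Perm.mul_apply, (hw i j hij).1, (hw i j hij).2, pw_mul hs (hw' i j),
      map_mul] at this
    rw [← this]; simp only [E]; group
  have Em : ∀ i j, Ind i j → ∀ y, y ∈ X i j ↔ ∃ r, y = E i j r := fun i j hij y => by
    have := h.wey (w i j) a0 b0 (hw' i j)
    rw [(hw i j hij).1, (hw i j hij).2] at this
    rw [← this]
    constructor
    · rintro ⟨u, hu, rfl⟩
      obtain ⟨r, rfl⟩ := (fm u).1 hu
      exact ⟨r, rfl⟩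
    · rintro ⟨r, rfl⟩
      exact ⟨_, fZ r, rfl⟩
  have Ea : ∀ i j r s, E i j (r + s) = E i j r * E i j s := fun i j r s => by simp only [E, fa, conj_mul]
  choose mul hmul using fun r s => (fm _).1 (h.tri a0 k0 b0 ⟨k1, k2, h0⟩
    (commutator_mem_commutator ((Em _ _ k1 _).2 ⟨r, rfl⟩) ((Em _ _ k2 _).2 ⟨s, rfl⟩)))
  choose ι hι using fun a : F => (fm _).1 (Z.le (xX hp h0 a))
  choose s hs using fun r => (fm _).1 (h.sym a0 b0 ▸ (Em _ _ h0.symm.rev_left.rev_right _).2 ⟨r, rfl⟩)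
  have el : ∀ r, ∃ c, t * f r * t⁻¹ = f (r + ι c) := fun r => by
    obtain ⟨_, ha, e⟩ := Z.lam _ (fZ r)
    obtain ⟨c, rfl⟩ := (mem_Xs hp h0).1 ha
    refine ⟨c, ?_⟩
    rw [fa, hι, e, inv_eq_of_mul_eq_one_right (Z.sq _ (fZ r)), ← mul_assoc, ← mul_assoc, ← mul_assoc,
      Z.sq _ (fZ r), one_mul]
  choose lam hlam using el
  have ιa : ∀ a b, ι (a + b) = ι a + ι b := fun a b => fi (by rw [fa, hι, hι, hι, xs_add hp h0, map_mul])
  have ιi : Function.Injective ι := fun a b e =>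
    xs_inj hp h0 (xinj hp h.toSt h0 h0 (by rw [← hι, ← hι, e]))
  refine ⟨E, mul, AddMonoidHom.mk' ι ιa, AddMonoidHom.mk' lam fun r s => ιi (add_left_cancel (a := r + s) (fi ?_)),
    AddMonoidHom.mk' s fun r r' => fi (by rw [fa, hs, hs, hs, Ea]), Ea,
    fun i j r s e => fi (by simpa [E] using e), Em, Epm,
    fun i j k e r s => ?_, fun i j e a => ?_, fun i j r => ?_, fun i j e r => ?_⟩
  · rw [← hlam, fa, ← conj_mul, hlam, hlam, ← fa, ιa]
    congr 1
    abel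
  · obtain ⟨u, hu, rfl, rfl, rfl⟩ := exists_wy3 ⟨k1, k2, h0⟩ e
    rw [← any u hu, hmul, ← Epm u _ _ hu k1, ← Epm u _ _ hu k2, commutatorElement_def, commutatorElement_def]
    group
  · simp only [E, AddMonoidHom.mk'_apply, hι, ← map_inv, ← map_mul, pw_xs hp (hw' i j) h0, (hw i j e).1,
      (hw i j e).2]
  · have c := (h.tc (pw φ (w i j))).eq
    simp only [E, AddMonoidHom.mk'_apply, ← hlam]
    calc _ = t * ρ (pw φ (w i j)) * f r * (t * ρ (pw φ (w i j)))⁻¹ := by group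
      _ = _ := by rw [c]; group
  · obtain ⟨u, hu, rfl, rfl⟩ := exists_wy2 h0 e
    rw [← any u hu, AddMonoidHom.mk'_apply, hs, Epm u _ _ hu h0.symm.rev_left.rev_right, hu, hu]

variable {E : Fin m → Fin m → R → G} {mul : R → R → R} {ι : F →+ R} {lam : R →+ F} {s : R →+ R}

theorem Pre.mem' (p : Pre ρ t X E mul ι lam s) {i j : Fin m} (e : Ind i j) (r : R) : E i j r ∈ X i j :=
  (p.mem _ _ e _).2 ⟨r, rfl⟩

theorem Pre.ii (hp : Pa m φ) (h : Rel ρ t X) (p : Pre ρ t X E mul ι lam s) : Function.Injective ι := by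
  obtain ⟨i, j, h0, h1, -, e, -⟩ := exists_lo3 hp
  have k : Ind (0 : Fin m) i := (Ind.of_lo h0 h1 (fun k => by simp [← k] at e)).1
  exact fun a b e => xs_inj hp k (xinj hp h.toSt k k (by rw [← p.sub _ _ k, ← p.sub _ _ k, e]))

theorem Co1.ex3 (hp : Pa m φ) : ∃ a b c : Fin m, Ind3 a b c := by
  obtain ⟨i, j, h0, h1, -, e, -⟩ := exists_lo3 hp
  have k : Ind (0 : Fin m) i := (Ind.of_lo h0 h1 (fun k => by simp [← k] at e)).1
  obtain ⟨c, -, h⟩ := k.third hp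
  exact ⟨_, _, _, h⟩

/-- Exactly as `D2.Pre.co` / the docstring of `CL.SC.Rel.co`, with `xs`, `hd`, `dsw`, `xs_weyl`,
`hd_mul`, `hd_tri`, `dh_comm`, `tor`, `wey` on a triple `Ind3`; disjointness of `X a b`, `X a c`
from `Dbl`.  Apply `CL.SC.algebra`. -/
theorem Pre.alg (hp : Pa m φ) (h : Rel ρ t X) (p : Pre ρ t X E mul ι lam s) :
    ∃ (c : F) (e : F × F ≃+ R), (∀ a, e (a, 0) = ι a) ∧ (∀ a b, lam (e (a, b)) = b) ∧
      ∀ r r', mul (e r) (e r') = e (qm c r r') := by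
  have mem : ∀ {i j}, Ind i j → ∀ r, E i j r ∈ X i j := p.mem'
  have e0 : ∀ i j, E i j 0 = 1 := fun i j => by simpa using p.add i j 0 0
  have sq : ∀ {i j}, Ind i j → ∀ r, (E i j r)⁻¹ = E i j r := fun e r =>
    inv_eq_of_mul_eq_one_right ((h.d _ _ e).sq _ (mem e r))
  have cm : ∀ {i j k l}, Ind i j → Ind k l → Cmp i j k l → ∀ r s, E i j r * E k l s = E k l s * E i j r :=
    fun e1 e2 e3 r s => h.cmp _ _ _ _ e1 e2 e3 _ (mem e1 r) _ (mem e2 s)
  have cf : ∀ {i j k l}, Ind i j → Ind k l → Cmp i j k l → ∀ r s,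
      E i j r * E k l s * (E i j r)⁻¹ = E k l s :=
    fun e1 e2 e3 r s => by rw [cm e1 e2 e3, mul_inv_cancel_right]
  have tri : ∀ {i j k}, Ind i j → Ind j k → Ind i k → ∀ r s,
      E i j r * E j k s * (E i j r)⁻¹ * (E j k s)⁻¹ = E i k (mul r s) := fun e1 e2 e3 r s =>
    p.tri _ _ _ ⟨e1, e2, e3⟩ r s
  have c1 : ∀ {i j k}, Ind i j → Ind j k → Ind i k → ∀ r s,
      E i j r * E j k s * (E i j r)⁻¹ = E i k (mul r s) * E j k s := fun e1 e2 e3 r s => by
    rw [← tri e1 e2 e3, inv_mul_cancel_right]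
  have c2 : ∀ {i j k}, Ind i j → Ind j k → Ind i k → ∀ r s,
      E j k s * E i j r * (E j k s)⁻¹ = E i j r * E i k (mul r s) := fun {i j k} e1 e2 e3 r s => by
    rw [← tri e1 e2 e3, sq e1, ← mul_assoc, ← mul_assoc, ← mul_assoc, (h.d _ _ e1).sq _ (mem e1 r), one_mul]
  obtain ⟨o, j, l, j0, jl, h0⟩ := ex3 hp
  have hl : ∀ r r' s, mul (r + r') s = mul r s + mul r' s := fun r r' s => p.inj o l (by
    refine mul_right_cancel (b := E j l s) ?_
    rw [← c1 j0 jl h0, add_comm r, p.add, _root_.mul_inv_rev, mul_assoc (E o j r'), mul_assoc (E o j r'),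
      ← mul_assoc (_ * _), c1 j0 jl h0, ← mul_assoc, ← conj_mul, cf j0 h0 (cF j0 jl h0), c1 j0 jl h0,
      p.add, mul_assoc])
  have hr : ∀ r s s', mul r (s + s') = mul r s + mul r s' := fun r s s' => p.inj o l (by
    refine mul_right_cancel (b := E j l (s + s')) ?_
    rw [← c1 j0 jl h0, p.add, p.add, ← conj_mul, c1 j0 jl h0, c1 j0 jl h0, mul_assoc,
      ← mul_assoc (E j l s), cm jl h0 (cS j0.symm h0 jl)]
    simp only [mul_assoc])
  have l0 : ∀ s, mul 0 s = 0 := fun s => by simpa using hl 0 0 s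
  have r0 : ∀ s, mul s 0 = 0 := fun s => by simpa using hr s 0 0
  have wr : ∀ {i j k}, Ind i j → Ind j k → Ind i k → ∀ {c : F}, c ≠ 0 → ∀ r,
      ρ (dh φ (hd φ j k c)) * E i k r * (ρ (dh φ (hd φ j k c)))⁻¹ = E i k (mul r (ι c)) := by
    intro i j k e1 e2 e3 c hc r
    have a := weyl_mon hp h e2 hc (E i j r)
    rw [p.pm _ _ _ (wy_dsw e2) e1, dsw_left e2, dsw_of_ne e1.1 e3.1 e1.2.1 e3.2.1, ← p.sub _ _ e2,
      ← p.sub _ _ e2.symm, c2 e1 e2 e3, ← conj_mul (b := E k j _), cf e2.symm e1 (cS e3.symm e1 e2.symm),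
      c2 e3 e2.symm e1, cm e3 e1 (cF e3 e2.symm e1), ← mul_assoc (E i j r), ← p.add, ← conj_mul,
      c2 e1 e2 e3, cf e2 e3 (cS e1.symm e3 e2), mul_assoc, ← p.add] at a
    have m1 := (mem_normalizer_iff.1 (h.tor _ i k (dg_hd hp e2 hc)) _).1 (mem e3 r)
    rw [← a] at m1 ⊢
    have := disj hp h e1 e3 (fun n => e2.1 n.2) e3.2.1 (mem e1 _) ((mul_mem_cancel_right (mem e3 _)).1 m1)
    rw [p.inj _ _ (this.trans (e0 i j).symm), e0, l0, one_mul, zero_add]
  have wl : ∀ {i j k}, Ind i j → Ind j k → Ind i k → ∀ {c : F}, c ≠ 0 → ∀ r,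
      ρ (dh φ (hd φ i j c)) * E i k r * (ρ (dh φ (hd φ i j c)))⁻¹ = E i k (mul (ι c) r) := by
    intro i j k e1 e2 e3 c hc r
    have a := weyl_mon hp h e1 hc (E j k r)
    rw [p.pm _ _ _ (wy_dsw e1) e2, dsw_right e1, dsw_of_ne e3.1.symm e2.1.symm e3.symm.2.1 e2.symm.2.1,
      ← p.sub _ _ e1, ← p.sub _ _ e1.symm, c1 e1 e2 e3, ← conj_mul (b := E j i _),
      cf e1.symm e2 (cF e1.symm e3 e2), c1 e1.symm e3 e2,
      cm e2 e3 (cS e1.symm e3 e2), mul_assoc (E i k _), ← p.add, ← conj_mul, c1 e1 e2 e3,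
      cf e1 e3 (cF e1 e2 e3), ← mul_assoc, ← p.add] at a
    have m1 := (mem_normalizer_iff.1 (h.tor _ i k (dg_hd hp e1 hc)) _).1 (mem e3 r)
    rw [← a] at m1 ⊢
    have := disj hp h e2 e3 (fun n => e1.1 n.1.symm) e2.2.1 (mem e2 _) ((mul_mem_cancel_left (mem e3 _)).1 m1)
    rw [p.inj _ _ (this.trans (e0 j k).symm), e0, r0, mul_one, add_zero]
  have one : ∀ i j : Fin m, dh φ (hd φ i j (1 : F)) = 1 := fun i j => by
    rw [← Wey.dh_one hp]
    exact congrArg _ (funext fun l => by simp [hd])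
  have hm : ∀ {i j : Fin m}, Ind i j → ∀ {c d : F}, c ≠ 0 → d ≠ 0 →
      dh φ (hd φ i j (c * d)) = dh φ (hd φ i j c) * dh φ (hd φ i j d) := fun e c d hc hd' => by
    rw [hd_mul, dh_mul hp (dg_hd hp e hc) (dg_hd hp e hd')]
  have D := h.d o l h0
  have ii := p.ii hp h
  exact algebra mul ι lam
    (fun r => p.inj o l (by rw [p.add, e0, D.sq _ (mem h0 r)])) hl hr
    (fun a b => p.inj o l (by
      rw [← p.tri _ _ _ ⟨j0, jl, h0⟩, p.sub _ _ j0, p.sub _ _ jl, p.sub _ _ h0, ← xs_tri hp ⟨j0, jl, h0⟩,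
        map_commutatorElement])) ii
    (fun r => p.inj o l (by rw [← wr j0 jl h0 one_ne_zero, one]; simp))
    (fun r => p.inj o l (by rw [← wl j0 jl h0 one_ne_zero, one]; simp))
    (fun r c d => by
      by_cases hc : c = 0
      · simp [hc, l0, r0]
      by_cases hd' : d = 0
      · simp [hd', r0]
      refine p.inj o l ?_
      rw [← wr j0 jl h0 hd', ← wr j0 jl h0 hc, ← wr j0 jl h0 (mul_ne_zero hc hd'), mul_comm c,
        hm jl hd' hc, map_mul]
      group)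
    (fun r c d => by
      by_cases hc : c = 0
      · simp [hc, l0]
      by_cases hd' : d = 0
      · simp [hd', l0, r0]
      refine p.inj o l ?_
      rw [← wl j0 jl h0 hc, ← wl j0 jl h0 hd', ← wl j0 jl h0 (mul_ne_zero hc hd'), hm j0 hc hd', map_mul]
      group)
    (fun r c d => by
      by_cases hc : c = 0
      · simp [hc, l0]
      by_cases hd' : d = 0
      · simp [hd', r0]
      refine p.inj o l ?_
      rw [← wr j0 jl h0 hd', ← wl j0 jl h0 hc, ← wl j0 jl h0 hc, ← wr j0 jl h0 hd']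
      have := congrArg (fun n => ρ n * E o l r * (ρ n)⁻¹) (dh_comm hp (dg_hd hp jl hd') (dg_hd hp j0 hc)).eq
      simp only [map_mul, _root_.mul_inv_rev, mul_assoc] at this ⊢
      exact this)
    (fun r => ⟨fun e => by
      obtain ⟨_, ha, e⟩ := D.ker _ (mem h0 r) (Commute.symm (mul_inv_eq_iff_eq_mul.1 (by
        rw [p.act, e, map_zero, add_zero])))
      obtain ⟨a, rfl⟩ := (mem_Xs hp h0).1 ha
      exact ⟨a, p.inj o l (by rw [p.sub _ _ h0, e])⟩, by
      rintro ⟨a, rfl⟩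
      have := p.act o l (ι a)
      rw [p.sub _ _ h0, (h.tc _).eq, mul_inv_cancel_right, ← p.sub _ _ h0] at this
      exact ii (by simpa using p.inj _ _ this)⟩)
    (fun a => by
      obtain ⟨y, hy, e⟩ := D.sur _ (xX hp h0 a)
      obtain ⟨r, rfl⟩ := (p.mem _ _ h0 y).1 hy
      rw [sq h0, mul_assoc, mul_assoc, ← mul_assoc t, p.act, ← p.add, ← p.sub _ _ h0, ← add_assoc, p.add, p.add,
        D.sq _ (mem h0 r), one_mul] at e
      exact ⟨r, ii (p.inj _ _ e)⟩)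
    (fun r s => p.inj o l (by
      rw [← p.act, ← tri j0 jl h0, ← tri j0 jl h0, ← p.act, ← p.act]
      group))
    (fun b r s => by
      by_cases hb : b = 0
      · simp [hb, l0]
      refine p.inj o l ?_
      rw [← tri j0 jl h0, ← wl h0 jl.symm j0 hb, ← wr j0.symm h0 jl hb, ← wl j0 jl h0 hb,
        ← wr j0 jl h0 hb, ← tri j0 jl h0, hd_tri ⟨j0, jl, h0⟩ hb, dh_mul hp (dg_hd hp j0 hb) (dg_hd hp jl hb),
        map_mul]
      group)

/-- `s (s r) = r`, `s (ι u) = ι (φ u)` (`xs_flip`), `lam (s r) = φ (lam r)` (`act`), and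
`[E a b r, E b c r'] = [E c' b' (s r'), E b' a' (s r)]⁻¹` gives `s (mul r r') = mul (s r') (s r)` -/
theorem Pre.sp (hp : Pa m φ) (h : Rel ρ t X) (p : Pre ρ t X E mul ι lam s) :
    (∀ r, s (s r) = r) ∧ (∀ u, s (ι u) = ι (φ u)) ∧ (∀ r, lam (s r) = φ (lam r)) ∧
      ∀ r r', s (mul r r') = mul (s r') (s r) := by
  obtain ⟨a, b, c, e1, e2, e3⟩ := ex3 hp
  have rv : ∀ {a b : Fin m}, Ind a b → Ind b.rev a.rev := fun e => e.symm.rev_left.rev_right
  have f2 : ∀ {a b : Fin m}, Ind a b → ∀ r, E a b r = E b.rev a.rev (s r) := fun e r => by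
    simpa only [Fin.rev_rev] using p.flp _ _ (rv e) r
  have si : ∀ u, s (ι u) = ι (φ u) := fun u => p.inj b.rev a.rev (by
    rw [← f2 e1, p.sub _ _ e1, p.sub _ _ (rv e1), xs_flip hp e1])
  refine ⟨fun r => p.inj a b (by rw [← p.flp _ _ e1, ← f2 e1]), si, fun r => p.ii hp h ?_,
    fun r r' => p.inj c.rev a.rev ?_⟩
  · have := p.act a b r
    rw [f2 e1, f2 e1 (r + _), p.act, map_add, si] at this
    exact add_left_cancel (p.inj _ _ this)
  · rw [← f2 e3, ← p.tri _ _ _ ⟨rv e2, rv e1, rv e3⟩, ← f2 e1, ← f2 e2, ← commutatorElement_inv,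
      p.tri _ _ _ ⟨e1, e2, e3⟩, inv_eq_of_mul_eq_one_right ((h.d _ _ e3).sq _ (p.mem' e3 _))]

/-- `σ (0, 1) = (b, 1)`, `σ (u, v) = (φ u + φ v * b, φ v)` as `(0, v) = qm c (v, 0) (0, 1)`.  `σ σ = 1`:
`φ b = b`; `b = b0 + φ b0` (`exists_trace`); `θ' = (b0, 1)` is fixed, `θ' θ' = θ' + (c', 0)` with
`c' = c + b0 b0 + b0`, so `φ c' = c'`, `c' = a a + a` (`Pa.root`).  `e = (b0 + a, 1)`;
`φ a = a` or `a + 1`. -/
theorem exists_idem (hp : Pa m φ) (c : F) (σ : F × F →+ F × F) (h1 : ∀ r, σ (σ r) = r)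
    (h2 : ∀ u, σ (u, 0) = (φ u, 0)) (h3 : ∀ r, (σ r).2 = φ r.2)
    (h4 : ∀ r r', σ (qm c r r') = qm c (σ r') (σ r)) : ∃ (e : F) (ε : Bool), e * e + e = c ∧
      ∀ u, σ (φ u * e, φ u) = cond ε (u * e + u, u) (u * e, u) := by
  have two : (2 : F) = 0 := CharTwo.two_eq_zero
  obtain ⟨b, hb⟩ : ∃ b, σ (0, 1) = (b, 1) := ⟨_, Prod.ext rfl (by rw [h3, map_one])⟩
  have f : ∀ u v, σ (u, v) = (φ u + φ v * b, φ v) := fun u v => by
    have : (u, v) = (u, 0) + qm c (v, 0) (0, 1) := by simp [qm]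
    rw [this, map_add, h4, h2, h2, hb]
    simp [qm, mul_comm]
  have b1 : φ b = b := by
    have := congrArg Prod.fst (h1 (0, 1))
    rw [hb, f, map_one, one_mul] at this
    linear_combination this - b * two
  obtain ⟨b0, rfl⟩ := exists_trace hp.ne hp.sq b1
  have c1 : φ (c + b0 * b0 + b0) = c + b0 * b0 + b0 := by
    have := congrArg Prod.fst (h4 (b0, 1) (b0, 1))
    simp only [qm, f, map_add, map_mul, map_one] at this ⊢
    grind
  obtain ⟨a, ha⟩ := hp.root c1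
  have a1 : φ a = a ∨ φ a = a + 1 := by
    have := congrArg φ ha
    rw [c1, map_add, map_mul, ← ha] at this
    have k : (φ a - a) * (φ a - (a + 1)) = 0 := by linear_combination this + (a * a + a - a * φ a - φ a) * two
    simpa only [mul_eq_zero, sub_eq_zero] using k
  rcases a1 with k | k
  · refine ⟨b0 + a, false, by linear_combination ha + (b0 * b0 + b0 * a + b0) * two, fun u => ?_⟩
    simp only [f, map_mul, map_add, hp.ff, k, cond_false, Prod.mk.injEq, and_true]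
    linear_combination (u * φ b0) * two
  · refine ⟨b0 + a, true, by linear_combination ha + (b0 * b0 + b0 * a + b0) * two, fun u => ?_⟩
    simp only [f, map_mul, map_add, hp.ff, k, cond_true, Prod.mk.injEq, and_true]
    linear_combination (u * φ b0) * two

/-- `y a b u = E a b (e (u * e0, u))` -/
theorem Rel.co (hp : Pa m φ) (h : Rel ρ t X) : ∃ ε y, Co ρ t ε y := by
  have two : (2 : F) = 0 := CharTwo.two_eq_zero
  obtain ⟨a0, b0, -, h0, -⟩ := ex3 hp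
  have Z := h.d a0 b0 h0
  let _ : CommGroup (X a0 b0) := { (inferInstance : Group (X a0 b0)) with
    mul_comm := fun a b => Subtype.ext (Z.sq.comm a.2 b.2) }
  obtain ⟨E, mul, ι, lam, s, p⟩ := exists_pre hp h h0 (R := Additive (X a0 b0))
    (fun r => (r.toMul : X a0 b0)) (fun _ _ => rfl) (fun _ _ e => Subtype.ext e)
    fun y => ⟨fun hy => ⟨Additive.ofMul ⟨y, hy⟩, rfl⟩, by rintro ⟨r, rfl⟩; exact r.toMul.2⟩
  obtain ⟨c, e, k1, k2, k3⟩ := p.alg hp h
  obtain ⟨s1, s2, s3, s4⟩ := p.sp hp h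
  have k4 : ∀ r, (e.symm r).2 = lam r := fun r => by
    rw [← k2 (e.symm r).1 (e.symm r).2, Prod.mk.eta, e.apply_symm_apply]
  obtain ⟨e0, ε, g1, g2⟩ := exists_idem hp c (e.symm.toAddMonoidHom.comp (s.comp e.toAddMonoidHom))
    (fun r => by simp [s1]) (fun u => by simp [k1, s2, e.symm_apply_eq])
    (fun r => by simp [k4, s3, show lam (e r) = r.2 from k2 r.1 r.2])
    (fun r r' => by simp [← k3, s4, e.symm_apply_eq])
  have tc : ∀ a b u, t * E a b (e (u * e0, u)) * t⁻¹ = E a b (e (u * e0 + u, u)) := fun a b u => by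
    rw [p.act, k2, ← k1, ← map_add]; simp
  have z : ∀ i j, E i j 0 = 1 := fun i j => by simpa using p.add i j 0 0
  refine ⟨ε, fun a b u => E a b (e (u * e0, u)), h.toSt, fun a b _ u v => ?_, fun a b i u => ?_,
    fun a b i u => ?_, fun a b d i u v => ?_, fun a b d i u v => ?_, fun a b d d' i i' k u v => ?_,
    fun a b r i r1 r2 r3 u => h.lng a b r i r1 r2 r3 _ (p.mem' i _)⟩
  · rw [← p.add, ← map_add, Prod.mk_add_mk, add_mul]
  · rw [tc, ← p.add, ← map_add, ← p.sub _ _ i, ← k1, Prod.mk_add_mk, ← add_assoc, CharTwo.add_self_eq_zero,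
      CharTwo.add_self_eq_zero, zero_add]
  · have := e.symm_apply_eq.1 (g2 u)
    rw [p.flp _ _ i, tc]
    cases ε <;> exact congrArg _ this
  · rw [p.tri _ _ _ i, k3]
    congr 2
    simp only [qm, Prod.mk.injEq]
    constructor <;> grind
  · rw [tc, ← commutatorElement_eq_one_iff_commute, p.tri _ _ _ i, k3, ← z a d, ← map_zero e]
    congr 2
    simp only [qm, Prod.mk_eq_zero]
    constructor <;> grind
  · rw [tc]
    exact ⟨h.cmp _ _ _ _ i i' k _ (p.mem' i _) _ (p.mem' i' _), h.cmp _ _ _ _ i i' k _ (p.mem' i _) _ (p.mem' i' _)⟩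

end CL.UM
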