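import Cfsg.Agent.INV.UM.J0
import Cfsg.Agent.INV.UM.K

/-!
Elementary abelian subgroups of `SU`.
-/

set_option autoImplicit false
set_option linter.unusedSectionVars false
set_option linter.unusedVariables false

namespace CL.UM

open Matrix Subgroup CL.SC
open scoped commutatorElement

variable {m : ℕ} [NeZero m] {F : Type*} [Field F] [Finite F] [CharP F 2] {φ : F ≃+* F}

/-- the elements whose block on the indices strictly between `i - 1` and `(i - 1)'` is trivial -/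
def Lev (i : ℕ) (a : SU m φ) : Prop :=
  ∀ r s : Fin m, i ≤ (r : ℕ) → i ≤ (s.rev : ℕ) → (a : SL m F) r s = (1 : Matrix (Fin m) (Fin m) F) r s

/-- the column `i'` between `i` and `i'` -/
def cl (i : Fin m) (a : SU m φ) : Fin m → F := fun j => if i < j ∧ j < i.rev then (a : SL m F) j i.rev else 0

namespace J

theorem split {H A : Type*} [Group H] [AddGroup A] (K : Subgroup H) (f : H → A)
    (hf : ∀ a ∈ K, ∀ b ∈ K, f (a * b) = f a + f b) : ∃ (V : AddSubgroup A) (K' : Subgroup H),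
      (∀ v, v ∈ V ↔ ∃ a ∈ K, v = f a) ∧ (∀ a, a ∈ K' ↔ a ∈ K ∧ f a = 0) ∧
        Nat.card K = Nat.card V * Nat.card K' := by
  let g : K →* Multiplicative A := MonoidHom.mk' (fun a => .ofAdd (f a)) fun a b => hf a a.2 b b.2
  refine ⟨AddSubgroup.toSubgroup.symm g.range, g.ker.map K.subtype, fun v => ⟨fun ⟨a, e⟩ => ⟨a, a.2, e.symm⟩,
    fun ⟨a, h, e⟩ => ⟨⟨a, h⟩, e.symm⟩⟩, fun a => ⟨fun ⟨b, h, e⟩ => e ▸ ⟨b.2, h⟩,
      fun ⟨h, e⟩ => ⟨⟨a, h⟩, e, rfl⟩⟩, ?_⟩
  rw [card_map_of_injective K.subtype_injective, ← g.ker.card_mul_index, index_ker, mul_comm]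
  rfl

theorem tri {a : SU m φ} (ha : a ∈ UU m φ) {r s : Fin m} (h : s ≤ r) :
    (a : SL m F) r s = (1 : Matrix (Fin m) (Fin m) F) r s := mem_U.1 ha r s h

theorem mul_ap {a b : SU m φ} (ha : a ∈ UU m φ) (hb : b ∈ UU m φ) {r s : Fin m} (h : r < s) :
    ((a * b : SU m φ) : SL m F) r s = (a : SL m F) r s + (b : SL m F) r s +
      ∑ t, if r < t ∧ t < s then (a : SL m F) r t * (b : SL m F) t s else 0 := by
  rw [← Finset.sum_ite_eq' Finset.univ s (fun _ => (a : SL m F) r s) |>.trans (if_pos (Finset.mem_univ _)),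
    ← Finset.sum_ite_eq' Finset.univ r (fun _ => (b : SL m F) r s) |>.trans (if_pos (Finset.mem_univ _)),
    ← Finset.sum_add_distrib, ← Finset.sum_add_distrib]
  refine (Matrix.mul_apply ..).trans (Finset.sum_congr rfl fun t _ => ?_)
  rcases lt_trichotomy t r with c | rfl | c
  · rw [tri ha c.le, one_apply_ne' c.ne]; simp [c.ne, (c.trans h).ne, c.not_gt]
  · rw [tri ha le_rfl]; simp [h.ne]
  rcases lt_trichotomy t s with d | rfl | d
  · simp [c, d, c.ne', d.ne]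
  · rw [tri hb le_rfl]; simp [c.ne']
  · rw [tri hb d.le, one_apply_ne d.ne']; simp [c.ne', d.ne', d.not_gt]

theorem herm {a : SU m φ} (h : a * a = 1) (i j : Fin m) :
    φ ((a : SL m F) j.rev i.rev) = (a : SL m F) i j := by
  have := mem_SU'.1 a.2 i j
  rwa [← Subgroup.coe_inv, inv_eq_of_mul_eq_one_right h] at this

theorem lt_rev {i : Fin m} (hi : Lo i) : i < i.rev := by
  unfold Lo at hi; rw [Fin.lt_def, Fin.val_rev]; omega

theorem row {a : SU m φ} (h : a * a = 1) {i t : Fin m} (h1 : i < t) (h2 : t < i.rev) :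
    (a : SL m F) i t = φ (cl i a t.rev) := by
  rw [cl, if_pos ⟨Fin.lt_rev_iff.1 h2, Fin.rev_lt_rev.2 h1⟩, herm h]

theorem ent {a b : SU m φ} (ha : a ∈ UU m φ) (hb : b ∈ UU m φ) (h : b * b = 1) {i : Fin m} (hi : Lo i) :
    ((b * a : SU m φ) : SL m F) i i.rev =
      (b : SL m F) i i.rev + (a : SL m F) i i.rev + hf φ (cl i a) (cl i b) := by
  rw [mul_ap hb ha (lt_rev hi), hf]
  congr 1
  refine Finset.sum_congr rfl fun t _ => ?_
  split_ifs with c
  · rw [row h c.1 c.2, mul_comm, show cl i a t = _ from if_pos c]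
  · rw [cl, if_neg c, zero_mul]

theorem iso {a : SU m φ} (ha : a ∈ UU m φ) (h : a * a = 1) {i : Fin m} (hi : Lo i) :
    hf φ (cl i a) (cl i a) = 0 := by
  have := ent ha ha h hi
  rw [h, CharTwo.add_self_eq_zero, zero_add] at this
  exact this.symm.trans (one_apply_ne (lt_rev hi).ne)

theorem Lev.zero {a : SU m φ} {i r s : Fin m} (h : Lev (i + 1) a) (h1 : i < r) (h2 : r < s)
    (h3 : s < i.rev) : (a : SL m F) r s = 0 :=
  (h r s h1 (Fin.lt_rev_iff.1 h3)).trans (one_apply_ne h2.ne)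

/-- the elements of level `i` -/
def lv {E : Subgroup (SU m φ)} (hE : El E) (hU : E ≤ UU m φ) (i : ℕ) : Subgroup (SU m φ) where
  carrier := {a | a ∈ E ∧ Lev i a}
  one_mem' := ⟨one_mem _, fun _ _ _ _ => rfl⟩
  inv_mem' := fun {a} h => by rwa [inv_eq_of_mul_eq_one_right (hE a h.1)]
  mul_mem' := fun {a b} ha hb => ⟨mul_mem ha.1 hb.1, fun r s h1 h2 => by
    rcases le_or_gt s r with c | c
    · exact tri (hU (mul_mem ha.1 hb.1)) c
    rw [mul_ap (hU ha.1) (hU hb.1) c, ha.2 r s h1 h2, hb.2 r s h1 h2, one_apply_ne c.ne, add_zero, zero_add]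
    refine Finset.sum_eq_zero fun t _ => ite_eq_right_iff.2 fun d => ?_
    rw [ha.2 r t h1 (h2.trans (Fin.rev_le_rev.2 d.2.le)), one_apply_ne d.1.ne, zero_mul]⟩

theorem down {a : SU m φ} (ha : a ∈ UU m φ) (h : a * a = 1) {i r s : Fin m} (h1 : i ≤ r) (h2 : i ≤ s.rev)
    (k1 : i < r → i < s.rev → (a : SL m F) r s = (1 : Matrix (Fin m) (Fin m) F) r s)
    (k2 : r = i → s = i.rev → (a : SL m F) r s = 0) (k3 : s = i.rev → cl i a r = 0)
    (k4 : r = i → cl i a s.rev = 0) : (a : SL m F) r s = (1 : Matrix (Fin m) (Fin m) F) r s := by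
  rcases le_or_gt s r with c | c
  · exact tri ha c
  rcases h1.lt_or_eq with d | rfl <;> rcases h2.lt_or_eq with e | e
  · exact k1 d e
  · obtain rfl := Fin.rev_eq_iff.1 e.symm
    rw [one_apply_ne c.ne, ← k3 rfl, cl, if_pos ⟨d, c⟩]
  · rw [one_apply_ne c.ne, row h c (Fin.lt_rev_iff.1 e), k4 rfl, map_zero]
  · rw [one_apply_ne c.ne, k2 rfl (Fin.rev_eq_iff.1 e.symm)]

theorem mid0 {v : Fin m → F} (h1 : ∀ j, Lo j → v j.rev = 0) (h2 : hf φ v v = 0) (t : Fin m) (ht : ¬ Lo t) :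
    v t = 0 := by
  have k : ∀ j : Fin m, Lo j.rev → v j = 0 := fun j hj => by simpa using h1 _ hj
  rcases lo_or t with c | c | c
  exacts [absurd c ht, k t c, by
    rw [hf, Finset.sum_eq_single t (fun j _ e => ?_) (by simp), c] at h2
    · simpa using h2
    rcases lo_or j with d | d | d
    exacts [by rw [h1 j d, map_zero, mul_zero], by rw [k j d, zero_mul], absurd (mid_unique d c) e]]

end J

open J

/-- For `E ≤ UU` put `E i = {a ∈ E | Lev i a}` (a subgroup: the block is multiplicative on `UU`);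
`E 0 = 1`, `E k = E`.  On `E (i + 1)`, `cl i` is additive; the entry `(i, i')` of `a * a = 1` gives
`hf (cl i a) (cl i a) = 0` (row `i` is the adjoint of column `i'`, `mem_SU'`).  On the kernel the
entry `(i, i')` is additive with values in the fixed field and kernel `E i`.  -/
theorem lev_step (hp : Pa m φ) {E : Subgroup (SU m φ)} (hE : El E) (hU : E ≤ UU m φ) {i : Fin m}
    (hi : Lo i) : ∃ V : AddSubgroup (Fin m → F), (∀ v, v ∈ V ↔ ∃ a ∈ E, Lev (i + 1) a ∧ v = cl i a) ∧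
      (∀ v ∈ V, Mid i v ∧ hf φ v v = 0) ∧ ∃ C : AddSubgroup F, (∀ c, c ∈ C ↔ ∃ a ∈ E, Lev (i + 1) a ∧
        cl i a = 0 ∧ c = (a : SL m F) i i.rev) ∧ (∀ c ∈ C, φ c = c) ∧
        Nat.card {a // a ∈ E ∧ Lev (i + 1) a} =
          Nat.card V * Nat.card C * Nat.card {a // a ∈ E ∧ Lev i a} := by
  obtain ⟨V, K, hV, hK, e⟩ := split (lv hE hU (i + 1)) (cl i) fun a ha b hb => funext fun j => by
    simp only [cl, Pi.add_apply]
    split_ifs with c
    · rw [mul_ap (hU ha.1) (hU hb.1) c.2, Finset.sum_eq_zero fun t _ => ite_eq_right_iff.2 fun d => by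
        rw [Lev.zero ha.2 c.1 d.1 d.2, zero_mul], add_zero]
    · simp
  obtain ⟨C, K', hC, hK', e'⟩ := split K (fun a => (a : SL m F) i i.rev) fun a ha b hb => by
    rw [hK] at ha hb
    rw [ent (hU hb.1.1) (hU ha.1.1) (hE a ha.1.1) hi, hb.2, ← zero_smul F 0, hf_smul_left, zero_mul,
      add_zero]
  refine ⟨V, fun v => (hV v).trans ⟨fun ⟨a, h, e⟩ => ⟨a, h.1, h.2, e⟩, fun ⟨a, h, h', e⟩ => ⟨a, ⟨h, h'⟩, e⟩⟩,
    fun v hv => ?_, C, fun c => (hC c).trans ⟨fun ⟨a, h, e⟩ => let h := (hK a).1 h; ⟨a, h.1.1, h.1.2, h.2, e⟩,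
      fun ⟨a, h, h', h'', e⟩ => ⟨a, (hK a).2 ⟨⟨h, h'⟩, h''⟩, e⟩⟩, fun c hc => ?_, ?_⟩
  · obtain ⟨a, ha, rfl⟩ := (hV v).1 hv
    exact ⟨fun j c => if_neg c, iso (hU ha.1) (hE a ha.1) hi⟩
  · obtain ⟨a, ha, rfl⟩ := (hC c).1 hc
    simpa using herm (hE a ((hK a).1 ha).1.1) i i.rev
  refine e.trans ?_
  rw [e', mul_assoc, show K' = lv hE hU i from Subgroup.ext fun a => ?_]
  · rfl
  rw [hK', hK]
  refine ⟨fun ⟨⟨h, h1⟩, h2⟩ => ⟨h.1, fun r s a1 a2 => down (hU h.1) (hE a h.1) a1 a2 (h.2 r s)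
    (by rintro rfl rfl; exact h2) (fun _ => congrFun h1 _) fun _ => congrFun h1 _⟩, fun h =>
      ⟨⟨⟨h.1, fun r s a1 a2 => h.2 r s (by omega) (by omega)⟩, funext fun j => ite_eq_right_iff.2 fun c => ?_⟩, ?_⟩⟩
  · exact (h.2 _ _ c.1.le (by simp)).trans (one_apply_ne c.2.ne)
  · exact (h.2 _ _ le_rfl (by simp)).trans (one_apply_ne (lt_rev hi).ne)

namespace J

variable (hp : Pa m φ) {E : Subgroup (SU m φ)} (hE : El E) (hU : E ≤ UU m φ)
include hp

theorem card_C {C : AddSubgroup F} (h : ∀ c ∈ C, φ c = c) : Nat.card C ≤ qq F :=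
  hp.card_fix ▸ Nat.card_le_card_of_injective (fun c => ⟨c, h c c.2⟩)
    fun _ _ e => Subtype.ext (Subtype.mk.inj e)

omit hp in
theorem sq_eq {k i : ℕ} (h : i < k) : (k - i) ^ 2 = 2 * (k - 1 - i) + 1 + (k - (i + 1)) ^ 2 := by
  obtain ⟨d, rfl⟩ := Nat.exists_eq_add_of_lt h
  rw [show i + d + 1 - i = d + 1 by omega, show i + d + 1 - 1 - i = d by omega,
    show i + d + 1 - (i + 1) = d by omega]
  ring

include hE hU

theorem anti {i j : ℕ} (h : i ≤ j) (hj : j ≤ m / 2) : Nat.card (lv hE hU j) * qq F ^ (m / 2 - j) ^ 2 ≤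
    Nat.card (lv hE hU i) * qq F ^ (m / 2 - i) ^ 2 := by
  induction j, h using Nat.le_induction with
  | base => rfl
  | succ j h ih =>
    refine le_trans ?_ (ih (by omega))
    obtain ⟨V, -, h1, C, -, h2, e⟩ := lev_step hp hE hU (i := ⟨j, by omega⟩) hj
    have := sing hp (i := ⟨j, by omega⟩) hj V (fun v hv => (h1 v hv).1) fun v hv => (h1 v hv).2
    have := card_C hp h2
    rw [show Nat.card (lv hE hU (j + 1)) = _ from e, sq_eq (i := j) hj, pow_add, pow_add, pow_one]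
    calc _ ≤ qq F ^ (2 * (m / 2 - 1 - j)) * qq F * Nat.card (lv hE hU j) * _ := by gcongr; rfl
      _ = _ := by ring

omit hp in
theorem lv_zero : lv hE hU 0 = ⊥ := eq_bot_iff.2 fun a h =>
  Subtype.ext (Subtype.ext (Matrix.ext fun r s => h.2 r s (Nat.zero_le _) (Nat.zero_le _)))

omit hp in
theorem lv_top : lv hE hU (m / 2) = E := le_antisymm (fun _ h => h.1) fun a h => ⟨h, fun r s h1 h2 =>
  tri (hU h) (by rw [Fin.val_rev] at h2; rw [Fin.le_def]; omega)⟩

theorem full (h : qa m F ≤ Nat.card E) {i : Fin m} (hi : Lo i) :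
    (∃ b ∈ E, cl i b = 0 ∧ (b : SL m F) i i.rev = 1) ∧ ∃ V : AddSubgroup (Fin m → F),
      (∀ v, v ∈ V ↔ ∃ a ∈ E, Lev (i + 1) a ∧ v = cl i a) ∧ Nat.card F ^ (m / 2 - 1 - i) ≤ Nat.card V := by
  obtain ⟨V, h0, h1, C, h3, h2, e⟩ := lev_step hp hE hU hi
  have a := sing hp hi V (fun v hv => (h1 v hv).1) fun v hv => (h1 v hv).2
  have b := card_C hp h2
  have c := anti hp hE hU (Nat.zero_le i) hi.le
  have d := anti hp hE hU (i := i + 1) hi le_rfl
  rw [lv_zero, card_bot, one_mul, Nat.sub_zero, sq (m / 2)] at c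
  rw [lv_top, Nat.sub_self, zero_pow two_ne_zero, pow_zero, mul_one,
    show Nat.card (lv hE hU (i + 1)) = _ from e] at d
  have f := (c.trans h).trans d
  have q2 := hp.q2
  rw [sq_eq hi, pow_add, ← mul_assoc, Nat.mul_le_mul_right_iff (by positivity), mul_comm] at f
  have f := Nat.le_of_mul_le_mul_right f Nat.card_pos
  rw [pow_succ] at f
  refine ⟨?_, V, h0, ?_⟩
  · have g : Nat.card {a : F // φ a = a} ≤ Nat.card C := hp.card_fix ▸ Nat.le_of_mul_le_mul_left
      (f.trans (Nat.mul_le_mul_right _ a)) (by positivity)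
    obtain ⟨c, e⟩ := ((Function.Injective.bijective_of_nat_card_le (f := fun c : C =>
      (⟨c, h2 c c.2⟩ : {a : F // φ a = a})) (fun _ _ e => Subtype.ext (Subtype.mk.inj e)) g).2 ⟨1, map_one φ⟩)
    obtain ⟨b, b1, -, b2, b3⟩ := (h3 c).1 c.2
    exact ⟨b, b1, b2, b3 ▸ Subtype.mk.inj e⟩
  · rw [hp.card, ← pow_mul]
    exact Nat.le_of_mul_le_mul_right (f.trans (Nat.mul_le_mul_left _ b)) (by positivity)

theorem cl_lev (h : qa m F ≤ Nat.card E) {i : Fin m} (hi : Lo i) {a : SU m φ} (ha : a ∈ E)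
    (l : Lev (i + 1) a) (t : Fin m) (ht : ¬ Lo t) : cl i a t = 0 := by
  refine mid0 (fun j => ?_) (iso (hU ha) (hE a ha) hi) t ht
  induction j using WellFoundedLT.induction with | ind j ih =>
  intro hj
  rcases le_or_gt j i with c | c
  · exact if_neg fun d => d.2.not_ge (Fin.rev_le_rev.2 c)
  obtain ⟨⟨b, hb, b1, b2⟩, -⟩ := full hp hE hU h hj
  have c1 := Fin.rev_lt_rev.2 c
  have c2 := (lt_rev hj).trans c1
  have e := mul_ap (hU ha) (hU hb) c2
  have cm : a * b = b * a := by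
    rw [← inv_eq_of_mul_eq_one_right (hE _ (mul_mem ha hb)), _root_.mul_inv_rev,
      inv_eq_of_mul_eq_one_right (hE a ha), inv_eq_of_mul_eq_one_right (hE b hb)]
  rw [cm, mul_ap (hU hb) (hU ha) c2, add_comm ((b : SL m F) j i.rev), add_right_inj,
    Finset.sum_eq_single j.rev (fun t _ n => ite_eq_right_iff.2 fun d => ?_) (by simp),
    if_pos ⟨lt_rev hj, c1⟩, b2, one_mul, Finset.sum_eq_zero fun t _ => ite_eq_right_iff.2 fun d => by
      rw [Lev.zero l c d.1 d.2, zero_mul]] at e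
  · rw [cl, if_pos ⟨c.trans (lt_rev hj), c1⟩, e]
  rcases lt_or_gt_of_ne n with n | n
  · rw [row (hE b hb) d.1 n, b1, Pi.zero_apply, map_zero, zero_mul]
  · have n' := Fin.rev_lt_iff.1 n
    have := ih _ n' (lt_trans (b := (j : ℕ)) n' hj)
    rw [Fin.rev_rev, cl, if_pos ⟨c.trans d.1, d.2⟩] at this
    rw [this, mul_zero]

theorem cl_all (h : qa m F ≤ Nat.card E) {i : Fin m} (hi : Lo i) {a : SU m φ} (ha : a ∈ E)
    (t : Fin m) (ht : ¬ Lo t) : cl i a t = 0 := by
  refine mid0 (fun j hj => ?_) (iso (hU ha) (hE a ha) hi) t ht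
  rcases le_or_gt j i with c | c
  · exact if_neg fun d => d.2.not_ge (Fin.rev_le_rev.2 c)
  obtain ⟨-, V, hV, hc⟩ := full hp hE hU h hi
  let k : Fin m := ⟨m / 2, by have := hp.six; omega⟩
  have z : ∀ v ∈ V, ∀ t, t ∉ Finset.Ioo i k → v t = 0 := fun v hv t ht => by
    obtain ⟨b, hb, l, rfl⟩ := (hV v).1 hv
    by_cases c : i < t
    · exact cl_lev hp hE hU h hi hb l t fun d => ht (Finset.mem_Ioo.2 ⟨c, d⟩)
    · exact if_neg fun d => c d.1
  have s := (Function.Injective.bijective_of_nat_card_le (f := fun (v : V) (t : Finset.Ioo i k) => v.1 t)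
    (fun v w e => Subtype.ext (funext fun t => by
      by_cases c : t ∈ Finset.Ioo i k
      exacts [congrFun e ⟨t, c⟩, (z _ v.2 t c).trans (z _ w.2 t c).symm])) (by
      refine le_trans (le_of_eq ?_) hc
      rw [Nat.card_fun, Nat.card_eq_fintype_card (α := Finset.Ioo i k), Fintype.card_coe, Fin.card_Ioo]
      congr 1; simp only [k]; omega)).2
  have key : ∀ u : F, u * φ (cl i a j.rev) = cl i a j.rev * φ u := fun u => by
    obtain ⟨v, e⟩ := s fun t => Pi.single (M := fun _ => F) j u t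
    obtain ⟨b, hb, -, e'⟩ := (hV v).1 v.2
    have e2 : cl i b = Pi.single j u := e' ▸ funext fun t => by
      by_cases d : t ∈ Finset.Ioo i k
      · exact congrFun e ⟨t, d⟩
      · rw [z _ v.2 t d, Pi.single_eq_of_ne]
        rintro rfl; exact d (Finset.mem_Ioo.2 ⟨c, hj⟩)
    have cm : a * b = b * a := by
      rw [← inv_eq_of_mul_eq_one_right (hE _ (mul_mem ha hb)), _root_.mul_inv_rev,
        inv_eq_of_mul_eq_one_right (hE a ha), inv_eq_of_mul_eq_one_right (hE b hb)]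
    have := ent (hU hb) (hU ha) (hE a ha) hi
    rwa [cm, ent (hU ha) (hU hb) (hE b hb) hi, add_comm ((b : SL m F) i i.rev), add_right_inj, e2,
      hf_single_left, hf_single_right, eq_comm] at this
  by_contra n
  refine hp.ne (RingEquiv.ext fun u => ?_)
  have k1 := key 1
  rw [one_mul, map_one, mul_one] at k1
  have := key u
  rw [k1, mul_comm] at this
  exact (mul_left_cancel₀ n this).symm

end J

/-- `Σ_{i < k} (2 (k - 1 - i) + 1) = k * k` -/
theorem el_card_UU (hp : Pa m φ) {E : Subgroup (SU m φ)} (hE : El E) (hU : E ≤ UU m φ) :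
    Nat.card E ≤ qa m F := by
  have := anti hp hE hU (Nat.zero_le _) le_rfl
  rw [lv_zero, lv_top] at this
  simpa [sq, qa] using this

/-- Equality holds in each step: `|V i| = q ^ (2 (k - 1 - i))`, `C i` is the fixed field.  Descending
induction on `i ≤ k`, `P i`: for all `e ∈ E` and `r, s'` `≥ i`, `e r s = 1 r s` unless `Lo r`, `Lo s'`
(`P k`: unitriangular; `P 0`: `E ≤ AA`).  Step `P (i + 1) → P i`.  For an involution `e` row `i` is
`ad` of column `i'` (`mem_SU'`).  (1) Let `a` have level `i + 1`, `v = cl i a`.  For `i < j < k` take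
`b ∈ E` of level `j + 1` with `cl j b = 0`, `b j j' = 1`.  Entry `(j, i')` of `a b = b a`:
`Σ_s b j s' * v s' = 0` (`i < s < k`, by `P (i + 1)`), where `b j s' = 0` for `s > j`.  Ascending
induction on `j`: `v j' = 0`.  Then `hf v v = 0` kills the middle entry.  By cardinality `V i` is
the set of all vectors supported on `(i, k)`.  (2) `e ∈ E`, `w = cl i e`: entry `(i, i')` of
`e a = a e` gives `hf v w + hf w v = 0` for all these `v`, so `w j' = 0` for `i < j < k`; entry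
`(i, i')` of `e e = 1` gives `hf w w = 0`, which kills the middle entry. -/
theorem el_eq_UU (hp : Pa m φ) {E : Subgroup (SU m φ)} (hE : El E) (hU : E ≤ UU m φ)
    (h : qa m F ≤ Nat.card E) : E = AA m φ := by
  have key : ∀ n i, i + n = m / 2 → ∀ e ∈ E, ∀ r s : Fin m, i ≤ (r : ℕ) → i ≤ (s.rev : ℕ) →
      ¬ (Lo r ∧ Lo s.rev) → (e : SL m F) r s = (1 : Matrix (Fin m) (Fin m) F) r s := fun n => by
    induction n with
    | zero => exact fun i hi e he r s a b _ => ((lv_top hE hU).ge he).2 r s (hi ▸ a) (hi ▸ b)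
    | succ n ih =>
      intro i hi e he r s a b c
      have l : Lo (⟨i, by omega⟩ : Fin m) := by simp only [Lo]; omega
      exact down (i := ⟨i, by omega⟩) (hU he) (hE e he) a b (fun a b => ih (i + 1) (by omega) e he r s a b c)
        (fun a b => (c ⟨a ▸ l, by rw [b, Fin.rev_rev]; exact l⟩).elim)
        (fun b => cl_all hp hE hU h l he _ fun d => c ⟨d, by rw [b, Fin.rev_rev]; exact l⟩)
        fun a => cl_all hp hE hU h l he _ fun d => c ⟨a ▸ l, d⟩
  exact eq_of_le_of_card_ge (fun e he => mem_AA.2 fun i j c => key _ 0 (zero_add _) e he i j.rev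
    (Nat.zero_le _) (Nat.zero_le _) (by rwa [Fin.rev_rev])) (card_AA hp ▸ h)

theorem J.el_map {H : Type*} [Group H] {E : Subgroup H} (hE : El E) (α : MulAut H) :
    El (E.map α.toMonoidHom) ∧ Nat.card (E.map α.toMonoidHom) = Nat.card E :=
  ⟨by rintro _ ⟨e, he, rfl⟩; rw [← map_mul, hE e he, map_one], card_map_of_injective α.injective⟩

theorem el_card_le (hp : Pa m φ) {E : Subgroup (SU m φ)} (hE : El E) : Nat.card E ≤ qa m F :=
  let ⟨_, h⟩ := conj_le_UU hp (pgroup_of_two fun a ha => two_of_sq (hE a ha))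
  (el_map hE _).2 ▸ el_card_UU hp (el_map hE _).1 h

theorem el_eq (hp : Pa m φ) {E : Subgroup (SU m φ)} (hE : El E) (h : qa m F ≤ Nat.card E) :
    ∃ s, E = cj s (AA m φ) := by
  obtain ⟨s, e⟩ := conj_le_UU hp (pgroup_of_two fun a ha => two_of_sq (hE a ha))
  refine ⟨s⁻¹, ?_⟩
  rw [← el_eq_UU hp (el_map hE _).1 e ((el_map hE _).2 ▸ h), cj, Subgroup.map_map]
  ext a
  simp [mul_assoc]

theorem cj_AA_le (hp : Pa m φ) {s : SU m φ} (h : cj s (AA m φ) ≤ UU m φ) :
    cj s (AA m φ) = AA m φ :=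
  el_eq_UU hp (el_map el_AA _).1 h ((el_map el_AA _).2.trans (card_AA hp)).ge

theorem aut_AA (hp : Pa m φ) (α : MulAut (SU m φ)) :
    ∃ s, (AA m φ).map α.toMonoidHom = cj s (AA m φ) :=
  el_eq hp (el_map el_AA _).1 ((el_map el_AA _).2.trans (card_AA hp)).ge

theorem exists_el' (hp : Pa m φ) {a : SU m φ} (ha : a * a = 1) : ∃ s, a ∈ cj s (AA m φ) :=
  let ⟨s, h⟩ := exists_conj_AA hp ha
  ⟨s⁻¹, _, h, by simp [mul_assoc]⟩

/-- the normal closure of `AA` -/
theorem iSup_cj_AA (hp : Pa m φ) : ⨆ s, cj s (AA m φ) = ⊤ :=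
  eq_top_iff.2 (closure_isTv hp ▸ (closure_le _).2 fun _ h =>
    let ⟨s, e⟩ := exists_el' hp h.sq
    le_iSup (fun s => cj s (AA m φ)) s e)

end CL.UM
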