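import Cfsg.Agent.INV.UM.CA
import Cfsg.Agent.INV.UM.J
import Cfsg.Agent.INV.SC.K1

/-!
Involutions acting on `AA`; the 2-rank of the automorphism group.
-/

set_option autoImplicit false
set_option linter.unusedSectionVars false
set_option linter.unusedVariables false

namespace CL.UM

open Matrix Subgroup CL.SC
open scoped commutatorElement

variable {m : ℕ} [NeZero m] {F : Type*} [Field F] [Finite F] [CharP F 2] {φ : F ≃+* F}

/-- fixed points -/
def Fa (α : MulAut (SU m φ)) : Subgroup (SU m φ) := α.toMonoidHom.eqLocus (MonoidHom.id _)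

theorem mem_Fa {α : MulAut (SU m φ)} {a : SU m φ} : a ∈ Fa α ↔ α a = a := Iff.rfl

namespace SA

/-- `a ↦ α a * a⁻¹` -/
def dl {α : MulAut (SU m φ)} (h : NA α) : AA m φ →* SU m φ := MonoidHom.mk' (fun a => α a * (a : SU m φ)⁻¹)
  fun a b => by
    rw [coe_mul, map_mul, _root_.mul_inv_rev, mul_assoc, mul_assoc, ← mul_assoc (α b),
      (AA_comm (mul_mem (h _ b.2) (inv_mem b.2)) (inv_mem a.2)).eq]

theorem range_dl {α : MulAut (SU m φ)} (h : NA α) : ((dl h).range : Set (SU m φ)) = im α :=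
  Set.ext fun _ => ⟨fun ⟨a, e⟩ => ⟨a, a.2, e.symm⟩, fun ⟨a, ha, e⟩ => ⟨⟨a, ha⟩, e.symm⟩⟩

theorem ker_dl {α : MulAut (SU m φ)} (h : NA α) : (dl h).ker.map (AA m φ).subtype = AA m φ ⊓ Fa α :=
  Subgroup.ext fun _ => ⟨fun ⟨a, e, e'⟩ => e' ▸ ⟨a.2, mul_inv_eq_one.1 e⟩,
    fun ⟨ha, e⟩ => ⟨⟨_, ha⟩, mul_inv_eq_one.2 e, rfl⟩⟩

theorem en_div {a b : SU m φ} (ha : a ∈ AA m φ) (hb : b ∈ AA m φ) {i j : Fin m} (hi : Lo i) (hj : Lo j) :
    en (b * a⁻¹) i j = en b i j + en a i j := by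
  rw [inv_eq_of_mul_eq_one_right (el_AA a ha), en_mul hb ha hi hj]

theorem na_xs (hp : Pa m φ) {p r : Fin m} (h1 : Lo p) (h2 : Lo r) (h : p ≠ r) (u : F) :
    NA (MulAut.conj (xs φ p r u)) := fun a ha =>
  (mem_normalizer_iff.1 (Lv_norm hp (xs_mem_Lv h1 h2 h u)) a).1 ha

theorem en_cm (hp : Pa m φ) {p r : Fin m} (h1 : Lo p) (h2 : Lo r) (h : p ≠ r) (u : F) {a : SU m φ}
    (ha : a ∈ AA m φ) {i j : Fin m} (hi : Lo i) (hj : Lo j) :
    en (MulAut.conj (xs φ p r u) a * a⁻¹) i j = (if i = p then u * en a r j else 0) +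
      (if j = p then φ u * en a i r else 0) + if i = p ∧ j = p then u * φ u * en a r r else 0 := by
  rw [en_div ha (na_xs hp h1 h2 h u a ha) hi hj, MulAut.conj_apply, en_xs_conj hp h1 h2 h u ha hi hj]
  linear_combination en a i j * (CharTwo.two_eq_zero : (2 : F) = 0)

theorem th_inj {θ a b a' b' : F} (hθ : θ + φ θ = 1) (e : a + θ * b = a' + θ * b')
    (e' : a + φ θ * b = a' + φ θ * b') : a = a' ∧ b = b' := by
  have : b = b' := by
    linear_combination e + e' - (b - b') * hθ + (a' - a) * (CharTwo.two_eq_zero : (2 : F) = 0)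
  exact ⟨by rwa [this, add_left_inj] at e, this⟩

theorem card_le {V X Y : Type*} [Finite X] [Finite Y] (f : V → X) (G : Y → V → V)
    (h : ∀ v v', f v = f v' → ∃ y, v = G y v') : Nat.card V ≤ Nat.card X * Nat.card Y := by
  rcases isEmpty_or_nonempty V with e | e
  · simp
  have hr : ∀ v, ∃ y, v = G y (Function.invFun f (f v)) := fun v =>
    h _ _ (Function.invFun_eq ⟨v, rfl⟩).symm
  choose y hy using hr
  rw [← Nat.card_prod]
  refine Nat.card_le_card_of_injective (fun v => (f v, y v)) fun v v' k => ?_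
  rw [hy v, hy v', show f v = f v' from congrArg Prod.fst k, show y v = y v' from congrArg Prod.snd k]

theorem herm0 {u n : Fin m → F} {o : Fin m} (hp : Pa m φ) (ho : u o ≠ 0)
    (h : ∀ i j, u i * φ (n j) + n i * φ (u j) = 0) : ∃ c, φ c = c ∧ n = c • u := by
  have h0 : φ (u o) ≠ 0 := (map_ne_zero φ).2 ho
  have k : ∀ i, n i = φ (n o) / φ (u o) * u i := fun i => by
    field_simp
    linear_combination h i o - u i * φ (n o) * (CharTwo.two_eq_zero : (2 : F) = 0)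
  refine ⟨φ (n o) / φ (u o), ?_, funext k⟩
  rw [map_div₀, hp.ff, hp.ff, div_eq_iff ho]
  exact k o

section cnt

variable {ι : Type*} [Fintype ι] [DecidableEq ι]

theorem mapmap (hp : Pa m φ) (M : Matrix ι ι F) : (M.map φ).map φ = M := Matrix.ext fun _ _ => hp.ff _

theorem mapmul (M N : Matrix ι ι F) : (M * N).map φ = M.map φ * N.map φ := Matrix.map_mul (f := (φ : F →+* F))

theorem dec (hp : Pa m φ) {θ : F} (hθ : θ + φ θ = 1) (M : Matrix ι ι F) :
    (M + (M.map φ)ᵀ).map φ = (M + (M.map φ)ᵀ)ᵀ ∧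
      (M + θ • (M + (M.map φ)ᵀ)).map φ = (M + θ • (M + (M.map φ)ᵀ))ᵀ ∧
      M + θ • (M + (M.map φ)ᵀ) + θ • (M + (M.map φ)ᵀ) = M := by
  have h2 : (2 : F) = 0 := CharTwo.two_eq_zero
  refine ⟨Matrix.ext fun i j => ?_, Matrix.ext fun i j => ?_, Matrix.ext fun i j => ?_⟩ <;>
    simp only [map_apply, Matrix.add_apply, transpose_apply, Matrix.smul_apply, smul_eq_mul, map_add, map_mul, hp.ff]
  · ring
  · linear_combination (φ (M i j) + M j i) * hθ + (φ (M i j) - θ * (M j i + φ (M i j))) * h2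
  · linear_combination θ * (M i j + φ (M j i)) * h2

theorem cnt1 (hp : Pa m φ) {G : Matrix ι ι F} (h : ∀ M : Matrix ι ι F, M.map φ = Mᵀ →
    G * (G * M.map φ * (G.map φ)ᵀ).map φ * (G.map φ)ᵀ = M) : G * G.map φ = 1 := by
  obtain ⟨θ, hθ⟩ := hp.th
  have h0 : ∀ M : Matrix ι ι F, M.map φ = Mᵀ → G * G.map φ * M * (G.map φ * G)ᵀ = M := fun M k => by
    have := h M k
    rwa [mapmul, mapmul, mapmap hp, ← transpose_map, mapmap hp, mul_assoc, mul_assoc, transpose_map,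
      ← transpose_mul, ← mul_assoc, ← mul_assoc] at this
  have h1 : ∀ M : Matrix ι ι F, G * G.map φ * M * (G.map φ * G)ᵀ = M := fun M => by
    obtain ⟨a, b, c⟩ := dec hp hθ M
    rw [← c, mul_add, add_mul, h0 _ b, mul_smul_comm, smul_mul_assoc, h0 _ a]
  have h2 := h1 1
  rw [mul_one] at h2
  have h3 : ∀ M, M * (G * G.map φ) = G * G.map φ * M := fun M => by
    conv_lhs => rw [← h1 M, mul_assoc, mul_eq_one_comm.1 h2, mul_one]
  have h4 : G.map φ * G = G * G.map φ := by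
    have e := mul_eq_one_comm.1 ((mul_assoc _ _ _).symm.trans h2)
    rw [← one_mul (G.map φ * G), ← e, mul_assoc, ← mul_assoc G, ← h3, ← mul_assoc, e, one_mul]
  obtain ⟨c, hc⟩ := Matrix.mem_range_scalar_of_commute_single (M := G * G.map φ) fun i j _ => h3 _
  rw [h4, ← hc] at h2
  ext i j
  have := congrFun (congrFun h2 i) i
  rw [← hc, eq_one_of_pow (a := c) (n := 1) (by simpa [pow_two] using this), map_one]

theorem cnt2 (hp : Pa m φ) {G : Matrix ι ι F} (h : G * G.map φ = 1) :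
    Nat.card {M : Matrix ι ι F // M.map φ = Mᵀ ∧ G * Mᵀ = M * Gᵀ} = qq F ^ (Fintype.card ι + 1).choose 2 := by
  obtain ⟨θ, hθ⟩ := hp.th
  have h1 : (G.map φ)ᵀ * Gᵀ = 1 := by rw [← transpose_mul, h, transpose_one]
  have b : Function.Bijective fun p : {M : Matrix ι ι F // M.map φ = Mᵀ ∧ G * Mᵀ = M * Gᵀ} ×
      {M : Matrix ι ι F // M.map φ = Mᵀ ∧ G * Mᵀ = M * Gᵀ} => (⟨(p.1.1 + θ • p.2.1) * Gᵀ, fun i j =>
        congrFun (congrFun (show ((p.1.1 + θ • p.2.1) * Gᵀ)ᵀ = (p.1.1 + θ • p.2.1) * Gᵀ by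
          rw [transpose_mul, transpose_transpose, transpose_add, transpose_smul, mul_add, add_mul, mul_smul_comm,
            smul_mul_assoc, p.1.2.2, p.2.2.2]) j) i⟩ : {f : ι → ι → F // ∀ i j, f i j = f j i}) := by
    refine ⟨fun ⟨a, b⟩ ⟨a', b'⟩ e => ?_, fun ⟨S, hS⟩ => ?_⟩
    · have e1 : a.1 + θ • b.1 = a'.1 + θ • b'.1 := by
        have := congrArg (fun S => Matrix.of S.1 * (G.map φ)ᵀ) e
        simpa only [show ∀ S : Matrix ι ι F, Matrix.of S = S from fun _ => rfl, mul_assoc, mul_eq_one_comm.1 h1,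
          mul_one] using this
      have k : ∀ i j, a.1 i j = a'.1 i j ∧ b.1 i j = b'.1 i j := fun i j => by
        have := congrArg φ (congrFun (congrFun e1 j) i)
        simp only [Matrix.add_apply, Matrix.smul_apply, smul_eq_mul, map_add, map_mul] at this
        rw [← map_apply (f := φ), ← map_apply (f := φ), ← map_apply (f := φ), ← map_apply (f := φ), a.2.1, b.2.1,
          a'.2.1, b'.2.1] at this
        exact th_inj hθ (congrFun (congrFun e1 i) j) this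
      exact Prod.ext (Subtype.ext (Matrix.ext fun i j => (k i j).1)) (Subtype.ext (Matrix.ext fun i j => (k i j).2))
    · obtain ⟨M, hM⟩ : ∃ M, M = Matrix.of S * (G.map φ)ᵀ := ⟨_, rfl⟩
      have e0 : M * Gᵀ = Matrix.of S := by rw [hM, mul_assoc, h1, mul_one]
      have e1 : G * Mᵀ = M * Gᵀ := by
        rw [e0, hM, transpose_mul, transpose_transpose, ← mul_assoc, h, one_mul]
        exact Matrix.ext fun i j => hS j i
      have e2 : G * (M + (M.map φ)ᵀ)ᵀ = (M + (M.map φ)ᵀ) * Gᵀ := by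
        have := congrArg (fun N => G * N.map φ * Gᵀ) e1
        simp only [mapmul, transpose_map] at this
        rw [← mul_assoc, h, one_mul, mul_assoc, mul_assoc, h1, mul_one] at this
        rw [transpose_add, transpose_transpose, mul_add, add_mul, e1, this]
      obtain ⟨a, b, c⟩ := dec hp hθ M
      refine ⟨(⟨_, b, ?_⟩, ⟨_, a, e2⟩), Subtype.ext ((congrArg (· * Gᵀ) c).trans e0)⟩
      rw [transpose_add, transpose_smul, mul_add, add_mul, e1, mul_smul_comm, smul_mul_assoc, e2]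
  have := Nat.card_eq_of_bijective _ b
  rw [Nat.card_prod, Nat.card_congr Sym2.lift, Nat.card_fun, hp.card, Nat.card_eq_fintype_card (α := Sym2 ι),
    Sym2.card, ← pow_mul, mul_comm 2, pow_mul, ← sq] at this
  exact Nat.pow_left_injective two_ne_zero this

end cnt

/-- the inclusion of the low indices -/
abbrev cl : Fin (m / 2) → Fin m := Fin.castLE (Nat.div_le_self m 2)

theorem lo_cl (i : Fin (m / 2)) : Lo (cl i : Fin m) := i.2

theorem sum_lo (f : Fin m → F) (h : ∀ r, ¬ Lo r → f r = 0) : ∑ r, f r = ∑ r, f (cl r) :=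
  (Fintype.sum_of_injective cl (Fin.castLE_injective _) _ f (fun r k => h r fun l => k ⟨⟨r, l⟩, rfl⟩)
    fun _ => rfl).symm

/-- the hermitian matrix of an element of `AA` -/
def EE (a : SU m φ) : Matrix (Fin (m / 2)) (Fin (m / 2)) F := Matrix.of fun i j => en a (cl i) (cl j)

theorem EE_inj {a b : SU m φ} (ha : a ∈ AA m φ) (hb : b ∈ AA m φ) (h : EE a = EE b) : a = b :=
  AA_ext ha hb fun i j hi hj => congrFun (congrFun h ⟨i, hi⟩) ⟨j, hj⟩

theorem EE_herm {a : SU m φ} (ha : a ∈ AA m φ) : (EE a).map φ = (EE a)ᵀ :=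
  Matrix.ext fun i j => en_herm ha (lo_cl i) (lo_cl j)

theorem EE_sur (hp : Pa m φ) {M : Matrix (Fin (m / 2)) (Fin (m / 2)) F} (h : M.map φ = Mᵀ) :
    ∃ a ∈ AA m φ, EE a = M := by
  obtain ⟨a, ha, e⟩ := exists_en hp (fun i j => if k : Lo i ∧ Lo j then M ⟨i, k.1⟩ ⟨j, k.2⟩ else 0)
    fun i j hi hj => by
      rw [dif_pos ⟨hi, hj⟩, dif_pos ⟨hj, hi⟩]; exact congrFun (congrFun h _) _
  exact ⟨a, ha, Matrix.ext fun i j => (e _ _ (lo_cl i) (lo_cl j)).trans (dif_pos ⟨lo_cl i, lo_cl j⟩)⟩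

theorem fix_outer (hp : Pa m φ) {α : MulAut (SU m φ)} (h : NA α) (h2 : α * α = 1) (ht : Ty α φ) :
    Nat.card (AA m φ ⊓ Fa α : Subgroup (SU m φ)) = qq F ^ (m / 2 + 1).choose 2 := by
  obtain ⟨g, h3, h4⟩ := ht
  obtain ⟨G, hG⟩ : ∃ G, G = (g : Matrix (Fin m) (Fin m) F).submatrix cl cl := ⟨_, rfl⟩
  have k : ∀ a ∈ AA m φ, EE (α a) = G * (EE a).map φ * (G.map φ)ᵀ := fun a ha => Matrix.ext fun i j => by
    rw [EE, of_apply, (en_inn hp h3 (h.sw hp h3 h4) (fs_mem_AA φ ha) (h4 a)).2 _ _ (lo_cl i) (lo_cl j),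
      Finset.sum_comm, sum_lo _ fun r k => by simp [k], Matrix.mul_apply]
    refine Finset.sum_congr rfl fun s _ => ?_
    rw [sum_lo _ fun r k => by simp [k], Matrix.mul_apply, Finset.sum_mul]
    exact Finset.sum_congr rfl fun r _ => by rw [if_pos ⟨lo_cl r, lo_cl s⟩, hG]; rfl
  have k1 : G * G.map φ = 1 := cnt1 hp fun M hM => by
    obtain ⟨a, ha, rfl⟩ := EE_sur hp hM
    rw [← k a ha, ← k _ (h a ha), ← MulAut.mul_apply, h2, MulAut.one_apply]
  have k2 : (G.map φ)ᵀ * Gᵀ = 1 := by rw [← transpose_mul, k1, transpose_one]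
  have := cnt2 hp k1
  rw [Fintype.card_fin] at this
  rw [← this]
  refine Nat.card_eq_of_bijective (fun a => ⟨EE a.1, EE_herm a.2.1, ?_⟩) ⟨fun a b e =>
    Subtype.ext (EE_inj a.2.1 b.2.1 (congrArg Subtype.val e)), fun ⟨M, hM, e⟩ => ?_⟩
  · have := k a a.2.1
    rw [mem_Fa.1 a.2.2, EE_herm a.2.1] at this
    conv_rhs => rw [this, mul_assoc, k2, mul_one]
  · obtain ⟨a, ha, rfl⟩ := EE_sur hp hM
    exact ⟨⟨a, ha, mem_Fa.2 <| EE_inj (h a ha) ha (by rw [k a ha, hM, e, mul_assoc, mul_eq_one_comm.1 k2, mul_one])⟩, rfl⟩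

theorem ch (k : ℕ) : k * (k - 1) / 2 + (k + 1).choose 2 = k * k ∧ 2 * (k + 1).choose 2 = k * k + k := by
  have := Nat.two_mul_div_two_of_even (Nat.even_mul_pred_self k)
  rw [Nat.choose_succ_succ' k 1, Nat.choose_one_right, Nat.choose_two_right]
  rcases k with _ | k
  · simp
  · rw [Nat.add_sub_cancel] at this ⊢
    constructor <;> nlinarith

end SA

/-- `a ↦ α a * a⁻¹` is an endomorphism of `AA` -/
theorem card_im (hp : Pa m φ) {α : MulAut (SU m φ)} (h : NA α) :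
    (im α).ncard * Nat.card (AA m φ ⊓ Fa α : Subgroup (SU m φ)) = qa m F := by
  have h1 := (SA.dl h).ker.card_mul_index
  rw [index_ker, card_AA hp, ← SetLike.coe_sort_coe (SA.dl h).range, SA.range_dl, Nat.card_coe_set_eq,
    ← card_map_of_injective (subtype_injective _), SA.ker_dl, mul_comm] at h1
  exact h1

theorem exists_im {α : MulAut (SU m φ)} (h : NA α) (h2 : α * α = 1) :
    ∃ K ≤ AA m φ ⊓ Fa α, (K : Set (SU m φ)) = im α :=
  ⟨(SA.dl h).range, by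
    rintro _ ⟨a, rfl⟩
    refine mem_inf.2 ⟨mul_mem (h _ a.2) (inv_mem a.2), mem_Fa.2 ?_⟩
    change α (α a * _) = α a * _
    rw [map_mul, ← MulAut.mul_apply, h2, MulAut.one_apply, map_inv, inv_eq_of_mul_eq_one_right (el_AA _ a.2),
      inv_eq_of_mul_eq_one_right (el_AA _ (h _ a.2)), (AA_comm a.2 (h _ a.2)).eq], SA.range_dl h⟩

/-- `en_xs_conj`: the commutator has the entries `u * en a r j` at `(p, j)`, `j ≠ p`, their
conjugates, and an element of `F0` at `(p, p)`.  So it is determined by `(en a r j)_{j ≠ p, r}`,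
`en a r r ∈ F0` and its entry `(p, p)`; count `q ^ (2 (k - 2)) * q * q`. -/
theorem im_xs (hp : Pa m φ) {p r : Fin m} (h1 : Lo p) (h2 : Lo r) (h : p ≠ r) (u : F) :
    (im (MulAut.conj (xs φ p r u))).ncard ≤ qq F ^ (2 * (m / 2) - 2) := by
  obtain ⟨θ, hθ⟩ := hp.th
  have e : Nat.card ({j | Lo j} \ {p} : Set (Fin m)) = m / 2 - 1 := by
    rw [Nat.card_coe_set_eq, Set.ncard_sdiff_singleton_of_mem (s := {j | Lo j}) h1, ← Nat.card_coe_set_eq]
    exact congrArg (· - 1) (card_lt (Nat.div_le_self _ _))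
  rw [← Nat.card_coe_set_eq, show 2 * (m / 2) - 2 = 2 * (m / 2 - 1) by omega, pow_mul, ← hp.card, ← e,
    ← Nat.card_fun]
  refine Nat.card_le_card_of_injective (fun y j => if j.1 = r then en y.1 p p + θ * (u⁻¹ * en y.1 p r)
    else en y.1 p j) ?_
  rintro ⟨_, a, ha, rfl⟩ ⟨_, b, hb, rfl⟩ k
  have ma := mul_mem (SA.na_xs hp h1 h2 h u a ha) (inv_mem ha)
  have mb := mul_mem (SA.na_xs hp h1 h2 h u b hb) (inv_mem hb)
  have k0 := congrFun k ⟨r, h2, h.symm⟩
  simp only [if_true] at k0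
  have k1 := congrArg φ k0
  have t : ∀ a ∈ AA m φ, en (MulAut.conj (xs φ p r u) a * a⁻¹) p r = u * en a r r := fun a ha => by
    rw [SA.en_cm hp h1 h2 h u ha h1 h2]; simp [h.symm]
  have t' : ∀ a ∈ AA m φ, φ (u⁻¹ * (u * en a r r)) = u⁻¹ * (u * en a r r) := fun a ha => by
    by_cases z : u = 0
    · simp [z]
    · rw [inv_mul_cancel_left₀ z, en_herm ha h2 h2]
  rw [map_add, map_add, map_mul, map_mul φ θ, en_herm ma h1 h1, en_herm mb h1 h1, t a ha, t b hb, t' a ha,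
    t' b hb, ← t a ha, ← t b hb] at k1
  obtain ⟨k2, k3⟩ := SA.th_inj hθ k0 k1
  have k4 : ∀ j, Lo j → en (MulAut.conj (xs φ p r u) a * a⁻¹) p j = en (MulAut.conj (xs φ p r u) b * b⁻¹) p j :=
    fun j hj => by
      by_cases jp : j = p
      · rw [jp, k2]
      by_cases jr : j = r
      · by_cases z : u = 0
        · rw [jr, t a ha, t b hb, z, zero_mul, zero_mul]
        · rw [jr, mul_left_cancel₀ (inv_ne_zero z) k3]
      · simpa only [jr, if_false] using congrFun k ⟨j, hj, jp⟩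
  refine Subtype.ext (AA_ext ma mb fun i j hi hj => ?_)
  by_cases ip : i = p
  · rw [ip, k4 j hj]
  by_cases jp : j = p
  · rw [jp, ← en_herm ma h1 hi, ← en_herm mb h1 hi, k4 i hi]
  · simp only [SA.en_cm hp h1 h2 h u ha hi hj, SA.en_cm hp h1 h2 h u hb hi hj, ip, jp, if_false, false_and]

theorem SA.card_W (hp : Pa m φ) : Nat.card (Wv m F) = qq F ^ (2 * (m / 2)) := by
  rw [pow_mul, ← hp.card]
  conv_rhs => rw [← Nat.card_fin (m / 2), ← Nat.card_fun]
  refine Nat.card_eq_of_bijective (fun v i => v.1 (SA.cl i)) ⟨fun v w e => Subtype.ext (funext fun i => ?_),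
    fun f => ⟨⟨fun i => if h : Lo i then f ⟨i, h⟩ else 0, mem_Wv.2 fun i h => dif_neg h⟩,
      funext fun i => dif_pos (SA.lo_cl i)⟩⟩
  by_cases h : Lo i
  exacts [congrFun e ⟨i, h⟩, (mem_Wv.1 v.2 i h).trans (mem_Wv.1 w.2 i h).symm]

/-- `α = conj a`, `a * a = 1` (`Ty.invol`), `a` stabilises `Wv` (`NA.sw`) and acts there as `1 + N`,
`N ≠ 0` (`cent_of_fix`), `N N = 0`.  Take `w ∈ Wv` with `u = N w ≠ 0`.  Write `x y*` for
`vecMulVec x (ad y)`.  The additive map `v ↦ α (pr w v) * (pr w v)⁻¹` on `Wv` has the matrix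
`u v* + v u* + (w + u) (N v)* + (N v) (w + u)*`.  If it vanishes, apply `N` on the left:
`(N v) u* + u (N v)* = 0`, so `N v = c u`, `c ∈ F0`; then `u (v + c w)* + (v + c w) u* = 0`, so
`v + c w ∈ F0 u`.  The kernel has order at most `q * q`, the image at least `q ^ (2 k - 2)`. -/
theorem im_inner (hp : Pa m φ) {α : MulAut (SU m φ)} (h : NA α) (h2 : α * α = 1) (ht : Ty α 1)
    (hc : ¬ ∀ x ∈ AA m φ, α x = x) : qq F ^ (2 * (m / 2) - 2) ≤ (im α).ncard := by
  obtain ⟨a, ha, rfl⟩ := ht.invol hp h2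
  have g1 := gum_toGL hp a
  have g2 : ∀ x : SU m φ, (MulAut.conj a x : SL m F) = inn (Matrix.SpecialLinearGroup.toGL (a : SL m F)) x :=
    fun x => by rw [inn_toGL]; rfl
  have sw := h.sw hp (σ := 1) g1 fun x => by rw [g2, map_one]; rfl
  obtain ⟨w, hw, hu⟩ : ∃ w ∈ Wv m F, Blk.NN a *ᵥ w ≠ 0 := by
    by_contra! k
    exact hc (cent_of_fix hp g1 g2 fun v hv => by
      change (a : SL m F).1 *ᵥ v = v
      rw [Blk.val_eq, add_mulVec, k v hv, one_mulVec, add_zero])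
  have av : ∀ v, (a : SL m F).1 *ᵥ v = v + Blk.NN a *ᵥ v := fun v => by rw [Blk.val_eq, add_mulVec, one_mulVec]
  have nW : ∀ v ∈ Wv m F, Blk.NN a *ᵥ v ∈ Wv m F := fun v hv =>
    (add_mem_cancel_left hv).1 (av v ▸ sw v hv)
  have nn : Blk.NN a * Blk.NN a = 0 := by
    have := Blk.NN_mul a a
    rwa [ha, CharTwo.add_self_eq_zero, zero_add, Blk.NN, eq_comm, OneMemClass.coe_one,
      Matrix.SpecialLinearGroup.coe_one, sub_self] at this
  have cp : ∀ v ∈ Wv m F, MulAut.conj a (pr φ w v) = pr φ (w + Blk.NN a *ᵥ w) (v + Blk.NN a *ᵥ v) := fun v hv =>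
    Subtype.ext (Subtype.ext (by
      rw [g2, inn_val, pr_val hp hw hv, pr_val hp (add_mem hw (nW w hw)) (add_mem hv (nW v hv)), mul_add, mul_add,
        add_mul, add_mul, mul_one, Units.mul_inv, mul_vecMulVec, mul_vecMulVec, vecMulVec_mul, vecMulVec_mul,
        ← g1.ad, ← g1.ad, ← av, ← av]; rfl))
  obtain ⟨o, ho⟩ := Function.ne_iff.1 hu
  have two : (2 : F) = 0 := CharTwo.two_eq_zero
  have := SA.card_le (V := Wv m F) (fun v => (⟨_, _, pr_mem hp hw v.2, rfl⟩ : im (MulAut.conj a)))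
    (fun (y : {c : F // φ c = c} × {c : F // φ c = c}) v => ⟨v + (y.1.1 • w + y.2.1 • Blk.NN a *ᵥ w),
      add_mem v.2 (add_mem (Submodule.smul_mem _ _ hw) (Submodule.smul_mem _ _ (nW w hw)))⟩) fun v v' e => by
    obtain ⟨z, hz⟩ : ∃ z, z = v.1 - v'.1 := ⟨_, rfl⟩
    have zW : z ∈ Wv m F := hz ▸ sub_mem v.2 v'.2
    have k : ∀ i j, (w + Blk.NN a *ᵥ w) i * φ ((Blk.NN a *ᵥ z) j) + (Blk.NN a *ᵥ z) i * φ ((w + Blk.NN a *ᵥ w) j) +
        ((Blk.NN a *ᵥ w) i * φ (z j) + z i * φ ((Blk.NN a *ᵥ w) j)) = 0 := fun i j => by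
      by_cases hi : Lo i
      · by_cases hj : Lo j
        · have := congrArg (fun y => en y.1 i j) e
          simp only [SA.en_div (pr_mem hp hw v.2) (h _ (pr_mem hp hw v.2)) hi hj,
            SA.en_div (pr_mem hp hw v'.2) (h _ (pr_mem hp hw v'.2)) hi hj] at this
          rw [cp _ v.2, cp _ v'.2, en_pr hp (add_mem hw (nW w hw)) (add_mem v.2 (nW _ v.2)) hi hj,
            en_pr hp (add_mem hw (nW w hw)) (add_mem v'.2 (nW _ v'.2)) hi hj, en_pr hp hw v.2 hi hj,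
            en_pr hp hw v'.2 hi hj] at this
          simp only [hz, mulVec_sub, Pi.add_apply, Pi.sub_apply, map_add, map_sub] at this ⊢
          linear_combination this - (w i * (φ (v.1 j) - φ (v'.1 j)) + (v.1 i - v'.1 i) * φ (w j)) * two
        · simp [mem_Wv.1 hw j hj, mem_Wv.1 zW j hj, mem_Wv.1 (nW _ hw) j hj, mem_Wv.1 (nW _ zW) j hj]
      · simp [mem_Wv.1 hw i hi, mem_Wv.1 zW i hi, mem_Wv.1 (nW _ hw) i hi, mem_Wv.1 (nW _ zW) i hi]
    obtain ⟨c, hc1, hc2⟩ := SA.herm0 (n := Blk.NN a *ᵥ z) hp ho fun i j => by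
      have : φ ((Blk.NN a *ᵥ z) j) • (w + Blk.NN a *ᵥ w) + φ ((w + Blk.NN a *ᵥ w) j) • Blk.NN a *ᵥ z +
          (φ (z j) • Blk.NN a *ᵥ w + φ ((Blk.NN a *ᵥ w) j) • z) = 0 := funext fun i => by
        simp only [Pi.add_apply, Pi.smul_apply, smul_eq_mul, Pi.zero_apply] at k ⊢
        linear_combination k i j
      have := congrFun (congrArg (Blk.NN a *ᵥ ·) this) i
      simp only [mulVec_add, mulVec_smul, mulVec_mulVec, nn, zero_mulVec, add_zero, smul_zero, mulVec_zero, zero_add,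
        Pi.add_apply, Pi.smul_apply, smul_eq_mul, Pi.zero_apply] at this
      linear_combination this
    obtain ⟨d, hd1, hd2⟩ := SA.herm0 (n := z + c • w) hp ho fun i j => by
      have := k i j
      simp only [hc2, Pi.add_apply, Pi.smul_apply, smul_eq_mul, map_add, map_mul, hc1] at this ⊢
      linear_combination this - c * (Blk.NN a *ᵥ w) i * φ ((Blk.NN a *ᵥ w) j) * two
    refine ⟨(⟨c, hc1⟩, ⟨d, hd1⟩), Subtype.ext (funext fun i => ?_)⟩
    have := congrFun hd2 i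
    simp only [hz, Pi.add_apply, Pi.sub_apply, Pi.smul_apply, smul_eq_mul] at this ⊢
    linear_combination this - c * w i * two
  rw [Nat.card_prod, hp.card_fix, Nat.card_coe_set_eq, SA.card_W hp, ← pow_two,
    show 2 * (m / 2) = 2 * (m / 2) - 2 + 2 by have := hp.k3; omega, pow_add] at this
  exact Nat.le_of_mul_le_mul_right this (pow_pos (zero_lt_two.trans_le hp.q2) _)

/-- `α (tv v) = tv (T v)`, `T v = g (φ ∘ v)` is `φ`-semilinear on `Wv` (`NA.sw`), `T (T v) = c v`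
with a constant `c` of norm one (`tv_inj`, compare `v, w, v + w`); `T (T (T v))` gives `φ c = c`, so
`c = 1`.  There is a basis `b 1, …, b k` of `Wv` fixed by `T` (`CL.FieldAut.exists_basis_fixed`,
`span_fixed_eq_top`).  Every `a ∈ AA` is uniquely `1 + Σ M i j • vecMulVec (b i) (ad (b j))` with
`M` hermitian, and `α` acts by `M ↦ φ M = Mᵀ`.  The commutators are the symmetric matrices over
`F0` with zero diagonal (`exists_trace`). -/
theorem im_outer (hp : Pa m φ) {α : MulAut (SU m φ)} (h : NA α) (h2 : α * α = 1) (ht : Ty α φ) :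
    (im α).ncard = qq F ^ (m / 2 * (m / 2 - 1) / 2) := by
  have := card_im hp h
  rw [SA.fix_outer hp h h2 ht, qa, ← (SA.ch _).1, pow_add] at this
  exact Nat.eq_of_mul_eq_mul_right (pow_pos (zero_lt_two.trans_le hp.q2) _) this

theorem im_large (hp : Pa m φ) {α : MulAut (SU m φ)} (h : NA α) (h2 : α * α = 1)
    (hc : ¬ ∀ x ∈ AA m φ, α x = x) :
    8 ≤ (im α).ncard ∧ qq F ^ (2 * (m / 2) - 2) < (im α).ncard ^ 2 := by
  have k := hp.k3
  have q := hp.q2
  have e : ∀ n, 3 ≤ n → 8 ≤ qq F ^ n := fun n hn =>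
    (Nat.pow_le_pow_left q 3).trans (Nat.pow_le_pow_right (by omega) hn)
  rcases ty_of_sq hp h2 with t | t
  · have := im_inner hp h h2 t hc
    have a := e (2 * (m / 2) - 2) (by omega)
    exact ⟨a.trans this, by nlinarith⟩
  · have a := SA.ch (m / 2)
    rw [im_outer hp h h2 t, ← pow_mul]
    generalize m / 2 = n at *
    obtain ⟨n, rfl⟩ := Nat.exists_eq_add_of_le k
    refine ⟨e _ (by nlinarith [a.1, a.2]), Nat.pow_lt_pow_right q ?_⟩
    rw [show 2 * (3 + n) - 2 = 2 * n + 4 by omega]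
    nlinarith [a.1, a.2]

theorem outer_not_cent (hp : Pa m φ) {α : MulAut (SU m φ)} (ht : Ty α φ) :
    ¬ ∀ x ∈ AA m φ, α x = x := fun h => hp.ne (ht.unique hp (cent_AA_ty hp h))

theorem fix_large (hp : Pa m φ) {α : MulAut (SU m φ)} (h : NA α) (h2 : α * α = 1) :
    8 ≤ Nat.card (AA m φ ⊓ Fa α : Subgroup (SU m φ)) := by
  obtain ⟨K, h1, h3⟩ := exists_im h h2
  have a := card_im hp h
  have b := card_le_of_le h1
  have c := hp.qa8
  rw [← h3, ← Nat.card_coe_set_eq, SetLike.coe_sort_coe] at a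
  nlinarith

/-- inner: `exists_el'`; outer: `nf`, `na_std`, `im_outer`, `card_im` -/
theorem exists_fix (hp : Pa m φ) {α : MulAut (SU m φ)} (h2 : α * α = 1) :
    ∃ E ≤ Fa α, El E ∧ qa m F < Nat.card E ^ 2 := by
  rcases ty_of_sq hp h2 with t | t
  · obtain ⟨a, ha, rfl⟩ := t.invol hp h2
    obtain ⟨s, hs⟩ := exists_el' hp ha
    have e := el_AA.map (MulAut.conj s : MulAut (SU m φ)).toMonoidHom
    refine ⟨_, fun b hb => mem_Fa.2 (mul_inv_eq_iff_eq_mul.2 (e.comm hs hb)), e, ?_⟩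
    have := hp.qa8
    rw [card_cj, card_AA hp]
    nlinarith
  · obtain ⟨β, hβ⟩ := nf hp (el_zpowers h2).pgroup
    obtain ⟨a, ha, σ, e⟩ := hβ α (mem_zpowers α)
    have := SA.fix_outer hp (e ▸ na_std hp ha σ : NA (β⁻¹ * α * β)) (by
      rw [show β⁻¹ * α * β * (β⁻¹ * α * β) = β⁻¹ * (α * α) * β by group, h2, mul_one, inv_mul_cancel])
      (by simpa using t.conj hp β⁻¹)
    refine ⟨(AA m φ ⊓ Fa (β⁻¹ * α * β)).map β.toMonoidHom, ?_, (el_AA.mono inf_le_left).map _, ?_⟩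
    · rintro _ ⟨b, hb, rfl⟩
      exact mem_Fa.2 ((β.symm_apply_eq).1 (mem_Fa.1 hb.2))
    · rw [card_map_of_injective β.injective, this, ← pow_mul, mul_comm, (SA.ch _).2]
      exact Nat.pow_lt_pow_right hp.q2 (by have := hp.k3; omega)

/-- the upper left `k × k` block -/
def blk (a : SU m φ) : Matrix (Fin (m / 2)) (Fin (m / 2)) F :=
  ((a : SL m F) : Matrix (Fin m) (Fin m) F).submatrix (Fin.castLE (Nat.div_le_self m 2))
    (Fin.castLE (Nat.div_le_self m 2))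

theorem exists_lev (hp : Pa m φ) : ∃ f : UU m φ →* SL (m / 2) F,
    (∀ a : UU m φ, (f a : Matrix (Fin (m / 2)) (Fin (m / 2)) F) = blk (a : SU m φ)) ∧
      ∀ a : UU m φ, f a = 1 ↔ (a : SU m φ) ∈ QW m φ := by
  have t : ∀ a : UU m φ, ∀ i j, j ≤ i → ((a : SU m φ) : SL m F) i j = (1 : Matrix (Fin m) (Fin m) F) i j :=
    fun a => mem_U.1 a.2
  have d : ∀ a : UU m φ, (blk (a : SU m φ)).det = 1 := fun a => by
    rw [det_of_isUpperTriangular]
    · exact Finset.prod_eq_one fun i _ => (t a _ _ le_rfl).trans (one_apply_eq _)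
    · intro i j h
      exact (t a (SA.cl i) (SA.cl j) (le_of_lt h)).trans (one_apply_ne (ne_of_gt h))
  refine ⟨MonoidHom.mk' (fun a => ⟨_, d a⟩) fun a b => Subtype.ext (Matrix.ext fun i j => ?_), fun _ => rfl,
    fun a => ⟨fun e => ?_, fun e => Subtype.ext (Matrix.ext fun i j => ?_)⟩⟩
  · refine Matrix.mul_apply.trans (SA.sum_lo _ fun r k => ?_)
    have l : SA.cl j < r := (SA.lo_cl j).trans_le (not_lt.1 k)
    rw [t b r _ l.le, one_apply_ne l.ne', mul_zero]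
  · have f : ∀ i j, Lo j → ((a : SU m φ) : SL m F) i j = (1 : Matrix (Fin m) (Fin m) F) i j := fun i j hj => by
      by_cases hi : Lo i
      · refine (congrFun (congrFun (congrArg Subtype.val e) ⟨i, hi⟩) ⟨j, hj⟩).trans ?_
        simp [one_apply, Fin.ext_iff]
      · exact t a i j (le_of_lt (hj.trans_le (not_lt.1 hi)))
    refine (mem_QW hp).2 fun i j k => ?_
    by_cases hj : Lo j
    · exact f i j hj
    by_cases hi : Lo i.rev
    · have := (mem_SU hp).1 a.1.2 (Pi.single j 1) (Pi.single i.rev 1)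
      rw [show ((a : SU m φ) : SL m F).1 *ᵥ Pi.single i.rev 1 = Pi.single i.rev 1 from funext fun l => by
        simpa [Pi.single_apply, one_apply] using f l _ hi, hf_single_right, hf_single_right, Fin.rev_rev] at this
      simpa [Pi.single_apply, one_apply] using this
    · exact t a i j (mid_unique (((lo_or i).resolve_left fun l => k (.inl ⟨l, hj⟩)).resolve_left hi)
        (((lo_or j).resolve_left hj).resolve_left fun l => k (.inr ⟨hi, l⟩))).ge
  · refine ((mem_QW hp).1 e (SA.cl i) (SA.cl j) fun k => k.elim (fun k => k.2 (SA.lo_cl j))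
      fun k => (SA.lo_cl j).rev k.2).trans ?_
    simp [one_apply]

theorem SA.core (hp : Pa m φ) {a : SU m φ} (ha : a ∈ UU m φ)
    (h2 : MulAut.conj a * fs φ φ * (MulAut.conj a * fs φ φ) = 1) {E : Subgroup (SU m φ)} (hE : El E)
    (hU : E ≤ UU m φ) (hf : E ≤ Fa (MulAut.conj a * fs φ φ)) : 4 * Nat.card E ≤ qa m F := by
  have k := hp.k3
  have : NeZero (m / 2) := ⟨by omega⟩
  have q := hp.q2
  have q4 : 4 ≤ qq F ^ 2 := Nat.pow_le_pow_left q 2
  have fin : ∀ n, Nat.card E ≤ qq F ^ n → 2 + n ≤ m / 2 * (m / 2) → 4 * Nat.card E ≤ qa m F := fun n h1 h3 =>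
    (Nat.mul_le_mul q4 h1).trans (pow_add (qq F) 2 n ▸ Nat.pow_le_pow_right (by omega) h3)
  have fo := SA.fix_outer hp (na_std hp ha φ) h2 (by simpa using (ty_conj hp a).mul (ty_fs φ))
  have ch := (SA.ch (m / 2)).2
  by_cases hA : E ≤ AA m φ
  · exact fin _ (fo ▸ card_le_of_le (le_inf hA hf)) (by nlinarith)
  obtain ⟨f, f1, f2⟩ := exists_lev hp
  have h1 : Nat.card ((E.subgroupOf (UU m φ)).map f) ≤ qq F ^ cc (m / 2) := by
    have e := (show El (E.subgroupOf (UU m φ)) from fun b hb => Subtype.ext (hE b hb)).map f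
    have := (card_sq_le k e (Si.ty ⟨f ⟨a, ha⟩, rfl⟩ : SC.Ty _ φ false) hp.ne ?_).trans
      (Nat.pow_le_pow_right Nat.card_pos (finrank_sp_le e))
    · rwa [hp.card, ← pow_mul, mul_comm, pow_mul, Nat.pow_le_pow_iff_left two_ne_zero] at this
    · rintro _ ⟨b, hb, rfl⟩
      have : (⟨a, ha⟩ * ⟨_, fs_mem_UU φ b.2⟩ * ⟨a, ha⟩⁻¹ : UU m φ) = b := Subtype.ext (mem_Fa.1 (hf hb))
      rw [mem_Fx, std_false, MulAut.mul_apply, MulAut.conj_apply,
        show fld φ (f b) = f ⟨_, fs_mem_UU φ b.2⟩ from Subtype.ext (by rw [fld_val, f1, f1]; rfl),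
        ← map_inv, ← map_mul, ← map_mul, this]
  have h3 : Nat.card E ≤ Nat.card ((E.subgroupOf (UU m φ)).map f) * Nat.card (AA m φ ⊓ E : Subgroup _) :=
    SA.card_le (fun b : E => (⟨f ⟨b, hU b.2⟩, _, b.2, rfl⟩ : (E.subgroupOf (UU m φ)).map f))
      (fun (y : (AA m φ ⊓ E : Subgroup _)) b => ⟨y.1, y.2.2⟩ * b) fun b c e =>
        ⟨⟨b * c⁻¹, QW_inv hp ((f2 (⟨b, hU b.2⟩ * ⟨c, hU c.2⟩⁻¹)).1 (by
          rw [map_mul, map_inv, mul_inv_eq_one]; exact congrArg Subtype.val e)) (hE _ (b * c⁻¹).2), (b * c⁻¹).2⟩,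
          (inv_mul_cancel_right _ _).symm⟩
  by_cases k3 : m / 2 = 3
  · obtain ⟨e, he, hn⟩ := SetLike.not_le_iff_exists.1 hA
    have na : NA (MulAut.conj e) := fun b hb => (mem_normalizer_iff.1 (UU_norm hp (hU he)) b).1 hb
    have a1 := im_inner hp na (by rw [← map_mul, hE e he, map_one]) (ty_conj hp e) fun c => by
      obtain ⟨g, hg, c⟩ := cent_AA_inv hp c (by rw [← map_mul, hE e he, map_one])
      exact hn ((qs hp).conj_inj (two_of_sq (hE e he)) (two_of_sq (el_AA g hg)) c ▸ hg)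
    have a2 := card_im hp na
    have a3 : Nat.card (AA m φ ⊓ E : Subgroup _) ≤ Nat.card (AA m φ ⊓ Fa (MulAut.conj e) : Subgroup _) :=
      card_le_of_le (inf_le_inf_left _ fun b hb => mem_Fa.2 (K1.comm hE he hb))
    rw [qa, k3, show 3 * 3 = 4 + 5 from rfl, pow_add] at a2
    rw [k3] at a1
    have a4 := Nat.le_of_mul_le_mul_left ((Nat.mul_le_mul a1 a3).trans a2.le) (pow_pos (by omega) _)
    refine fin (cc (m / 2) + 5) (pow_add (qq F) _ _ ▸ h3.trans (Nat.mul_le_mul h1 a4)) (by rw [k3]; decide)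
  · refine fin (cc (m / 2) + (m / 2 + 1).choose 2) (h3.trans ((Nat.mul_le_mul h1
      (fo ▸ card_le_of_le (inf_le_inf_left _ hf))).trans (pow_add _ _ _).ge)) ?_
    have : 4 * cc (m / 2) ≤ m / 2 * (m / 2) := by
      have := four_mul_le_sq_add (m / 2 / 2) (m / 2 - m / 2 / 2)
      rwa [Nat.add_sub_cancel' (Nat.div_le_self _ _), mul_assoc, pow_two] at this
    have k4 : 4 ≤ m / 2 := by omega
    nlinarith

/-- By `nf` for the group generated by `α` and `conj E` one may assume `E ≤ UU` and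
`α = conj a * fs φ`, `a ∈ UU`.  Let `E'` be the image of `E` under `exists_lev`; the kernel is
`E ⊓ AA` (`QW_inv`).  `E'` is fixed by `conj (f a) * fld φ`, so `|E'| ≤ q ^ cc k` (`card_sq_le`,
`finrank_sp_le` for `SL k F`), and `|E ⊓ AA| ≤ q ^ (k (k + 1) / 2)` (`im_outer`).  For `k ≥ 4`,
`k (k + 1) / 2 + cc k ≤ k k - 2`.  For `k = 3`: if `E' = 1` use `6 ≤ 7`; otherwise some `e ∈ E` does
not centralise `AA` (`cent_AA_inv`), `|E ⊓ AA| ≤ q ^ 5` (`im_inner`), and `5 + 2 ≤ 7`. -/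
theorem card_outer (hp : Pa m φ) {α : MulAut (SU m φ)} (h2 : α * α = 1) (ht : Ty α φ)
    {E : Subgroup (SU m φ)} (hE : El E) (hf : E ≤ Fa α) : 4 * Nat.card E ≤ qa m F := by
  obtain ⟨β, hβ⟩ := nf hp ((el_zpowers h2).sup (hE.map MulAut.conj) (zp_comm h2 (by
    rintro _ ⟨e, he, rfl⟩
    rw [Commute, SemiconjBy, mul_conj', mem_Fa.1 (hf he)]))).pgroup
  obtain ⟨a, ha, σ, e⟩ := hβ α (mem_sup_left (mem_zpowers α))
  have t : Ty (β⁻¹ * α * β) φ := by simpa using ht.conj hp β⁻¹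
  have := t.unique hp (e ▸ (ty_conj hp a).mul (ty_fs σ))
  rw [one_mul] at this
  subst this
  rw [← card_map_of_injective (f := β⁻¹.toMonoidHom) β⁻¹.injective]
  refine SA.core hp ha (by
    rw [← e, show β⁻¹ * α * β * (β⁻¹ * α * β) = β⁻¹ * (α * α) * β by group, h2, mul_one, inv_mul_cancel])
    (hE.map _) ?_ (e ▸ ?_)
  · rintro _ ⟨b, hb, rfl⟩
    obtain ⟨c, hc, τ, e'⟩ := hβ _ (mem_sup_right ⟨b, hb, rfl⟩)
    rw [mul_conj', inv_mul_cancel_right] at e'
    have := (ty_conj hp _).unique hp (e' ▸ (ty_conj hp c).mul (ty_fs τ))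
    rw [one_mul] at this
    rw [← this, map_one, mul_one] at e'
    exact (qs hp).conj_inj ((two_of_sq (hE b hb)).map β⁻¹.toMonoidHom) (two_of_pgroup pgroup_UU hc) e' ▸ hc
  · rintro _ ⟨b, hb, rfl⟩
    exact mem_Fa.2 (by simp [mem_Fa.1 (hf hb)])

theorem SA.aut (hp : Pa m φ) {E : Subgroup (MulAut (SU m φ))} (hE : El E) : 2 * Nat.card E ≤ qa m F ∨
    ∃ K, El K ∧ E = K.map (MulAut.conj : SU m φ →* MulAut (SU m φ)) := by
  have : Finite (MulAut (SU m φ)) := Finite.of_injective _ MulEquiv.toEquiv_injective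
  have fx : ∀ β ∈ E, ∀ a, a * a = 1 → MulAut.conj a ∈ E → β a = a := fun β hβ a h2 ha =>
    (qs hp).conj_inj ((two_of_sq h2).map β.toMonoidHom) (two_of_sq h2) (by
      rw [← K1.comm hE hβ ha, mul_conj', mul_inv_cancel_right])
  let K : Subgroup (SU m φ) :=
    { carrier := {a | a * a = 1 ∧ MulAut.conj a ∈ E}
      one_mem' := ⟨mul_one _, by rw [map_one]; exact one_mem _⟩
      mul_mem' := fun {a b} ha hb => ⟨by
        have h : a * b * a⁻¹ = b := fx _ ha.2 b hb.1 hb.2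
        rw [inv_eq_of_mul_eq_one_right ha.1] at h
        rw [← mul_assoc, h, hb.1], by rw [map_mul]; exact mul_mem ha.2 hb.2⟩
      inv_mem' := fun {a} ha => by rwa [inv_eq_of_mul_eq_one_right ha.1] }
  have mm : ∀ β ∈ E, Ty β 1 → β ∈ K.map MulAut.conj := fun β hβ t => by
    obtain ⟨a, ha, rfl⟩ := t.invol hp (hE β hβ)
    exact ⟨a, ⟨ha, hβ⟩, rfl⟩
  by_cases h : ∃ α ∈ E, Ty α φ
  · obtain ⟨α, hα, t⟩ := h
    have h1 := card_outer hp (hE α hα) t (E := K) (fun a ha => ha.1) fun a ha => fx α hα a ha.1 ha.2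
    have h2 := K1.card_le_mul E (K.map MulAut.conj) (fun β => Ty β 1) fun β hβ γ hγ e =>
      mm _ (mul_mem (inv_mem hβ) hγ) (by
        by_cases k : Ty β 1
        · simpa using k.inv.mul (e ▸ k : Ty γ 1)
        · simpa using ((ty_of_sq hp (hE β hβ)).resolve_left k).inv.mul
            ((ty_of_sq hp (hE γ hγ)).resolve_left (e ▸ k)))
    have h3 := Nat.le_of_dvd Nat.card_pos (card_map_dvd K (MulAut.conj : SU m φ →* MulAut (SU m φ)))
    rw [Nat.card_eq_fintype_card (α := Prop), Fintype.card_prop] at h2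
    exact .inl (by omega)
  · exact .inr ⟨K, fun a ha => ha.1, le_antisymm (fun β hβ => mm β hβ ((ty_of_sq hp (hE β hβ)).resolve_right
      fun t => h ⟨β, hβ, t⟩)) (map_le_iff_le_comap.2 fun a ha => ha.2)⟩

/-- as `aut_card_le`, `aut_eq_A` in INV/SC/K1: `E0 = {a | a * a = 1, conj a ∈ E}` has index at most
two (`ty_of_sq`, `Ty.invol`) -/
theorem aut_le (hp : Pa m φ) {E : Subgroup (MulAut (SU m φ))} (hE : El E) :
    Nat.card E ≤ qa m F := by
  rcases SA.aut hp hE with h | ⟨K, h1, rfl⟩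
  · omega
  · exact (Nat.le_of_dvd Nat.card_pos (card_map_dvd _ _)).trans (el_card_le hp h1)

theorem aut_eq (hp : Pa m φ) {E : Subgroup (MulAut (SU m φ))} (hE : El E) (h : qa m F ≤ Nat.card E) :
    ∃ s, E = (cj s (AA m φ)).map (MulAut.conj : SU m φ →* MulAut (SU m φ)) := by
  rcases SA.aut hp hE with k | ⟨K, h1, rfl⟩
  · have := hp.qa8
    omega
  · obtain ⟨s, rfl⟩ := el_eq hp h1 (h.trans (Nat.le_of_dvd Nat.card_pos (card_map_dvd _ _)))
    exact ⟨s, rfl⟩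

theorem SA.wr_mem {s : ℕ} (hs : s ≤ m / 2) : su φ (wr m F s) ∈ AA m φ :=
  mem_subgroupOf.2 ((su_val (UM.wr_mem (φ := φ) hs)).symm ▸ wr_mem_A0 hs)

theorem SA.en_wr {s : ℕ} (hs : s ≤ m / 2) {i j : Fin m} (hi : Lo i) (hj : Lo j) :
    en (su φ (wr m F s)) i j = if (i : ℕ) + j + 1 = s then 1 else 0 := by
  rw [en, su_val (UM.wr_mem hs), wr_apply hs, Blk.one_rev hi hj, zero_add, Fin.val_rev]
  exact if_congr (by rw [Lo] at hi hj; omega) rfl rfl

/-- `s ≥ 2`: `r = zl 0 1 = [xs 0 (s - 1) 1, xs 0 (s - 1)' θ]` (`xs_long`), the first factor commutes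
with `wr s` and `y = xs 0 (s - 1) θ` (`en_xs_conj`; `en (wr s) i j = 1` iff `i + j = s - 1`).
`s = 1`: `wr 1 = zl 0 1`, `r = xs 0 1' 1 * zl 1 1`, `zl 0 1 * r = tv (e 0 + e 1)`, `y = xs 1 0 1`;
`xs 0 1' 1 = [xs 0 2 1, xs 2 1' 1]`, `zl 1 1 = [xs 1 2 θ, xs 1 2' 1]`. -/
theorem stab_AA (hp : Pa m φ) {s : ℕ} (h0 : 0 < s) (hs : s ≤ m / 2) : ∃ r ∈ AA m φ, r ≠ 1 ∧
    r ∈ ⁅UU m φ ⊓ centralizer {su φ (wr m F s)}, UU m φ ⊓ centralizer {su φ (wr m F s)}⁆ ∧
    ∃ y : SU m φ, y * su φ (wr m F s) * y⁻¹ = su φ (wr m F s) * r := by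
  obtain ⟨θ, hθ⟩ := hp.th
  obtain ⟨i1, i2, l0, l1, l2, e1, e2⟩ := exists_lo3 hp
  have w := SA.wr_mem (φ := φ) hs
  by_cases s1 : s = 1
  · subst s1
    have n1 : 0 ≠ i1 := fun e => by simp [← e] at e1
    have n2 : 0 ≠ i2 := fun e => by simp [← e] at e2
    have n3 : i1 ≠ i2 := fun e => by rw [e] at e1; omega
    have lt : i1 < i2 := by rw [Fin.lt_def]; omega
    have r := mul_mem (xs_mem_AA hp l0 l1 n1 1) (zl_mem_AA (φ := φ) l1 1)
    have U : UU m φ ⊓ centralizer {su φ (wr m F 1)} = UU m φ := inf_eq_left.2 fun u hu =>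
      mem_centralizer_singleton_iff.2 (by
        rw [wr_one (by have := hp.six; omega)]; exact (zl_comm_UU hu 1).symm)
    refine ⟨_, r, fun e => ?_, U.symm ▸ mul_mem ?_ ?_, xs φ i1 0 1, AA_ext (SA.na_xs hp l1 l0 n1.symm 1 _ w)
      (mul_mem w r) fun i j hi hj => ?_⟩
    · have := congrArg (en · i1 i1) e
      simp [en_mul (xs_mem_AA hp l0 l1 n1 1) (zl_mem_AA (φ := φ) l1 1) l1 l1, en_xs hp l0 l1 n1 1 l1 l1,
        en_zl l1 (map_one φ) l1 l1, en_one l1 l1, n1.symm] at this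
    · have := xs_tri hp (⟨(Ind.of_lo l0 l2 n2).1, (Ind.of_lo l2 l1 n3.symm).2, (Ind.of_lo l0 l1 n1).2⟩ :
        Ind3 0 i2 i1.rev) 1 1
      rw [one_mul] at this
      exact this ▸ commutator_mem_commutator (xs_mem_UU hp (Ind.of_lo l0 l2 n2).1 (Fin.pos_iff_ne_zero.2 n2.symm) 1)
        (AA_le_UU (xs_mem_AA hp l2 l1 n3.symm 1))
    · have := xs_long hp (Ind.of_lo l1 l2 n3).1 θ 1
      rw [map_one, mul_one, mul_one, hθ] at this
      exact this ▸ commutator_mem_commutator (xs_mem_UU hp (Ind.of_lo l1 l2 n3).1 lt θ)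
        (AA_le_UU (xs_mem_AA hp l1 l2 n3 1))
    · rw [en_xs_conj hp l1 l0 n1.symm 1 w hi hj, en_mul w r hi hj, en_mul (xs_mem_AA hp l0 l1 n1 1)
        (zl_mem_AA l1 1) hi hj, en_xs hp l0 l1 n1 1 hi hj, en_zl l1 (map_one φ) hi hj, SA.en_wr hs l0 hj,
        SA.en_wr hs hi l0, SA.en_wr hs l0 l0]
      by_cases a : i = i1 <;> by_cases b : j = i1 <;> simp [a, b, n1.symm]
  · obtain ⟨t, ht⟩ : ∃ t : Fin m, (t : ℕ) + 1 = s := ⟨⟨s - 1, by omega⟩, by simp; omega⟩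
    have lt : Lo t := by rw [Lo]; omega
    have n : 0 ≠ t := fun e => by simp [← e] at ht; omega
    have k : ∀ u, xs φ 0 t u * su φ (wr m F s) * (xs φ 0 t u)⁻¹ = su φ (wr m F s) * zl φ 0 (u + φ u) := fun u =>
      AA_ext (SA.na_xs hp l0 lt n u _ w) (mul_mem w (zl_mem_AA l0 _)) fun i j hi hj => by
        rw [en_xs_conj hp l0 lt n u w hi hj, en_mul w (zl_mem_AA l0 _) hi hj,
          en_zl l0 (by rw [map_add, hp.ff, add_comm]) hi hj, SA.en_wr hs lt hj, SA.en_wr hs hi lt, SA.en_wr hs lt lt,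
          if_neg (show ¬ (t : ℕ) + t + 1 = s by omega)]
        have a : (t : ℕ) + j + 1 = s ↔ j = 0 := by rw [Fin.ext_iff, Fin.val_zero]; omega
        have b : (i : ℕ) + t + 1 = s ↔ i = 0 := by rw [Fin.ext_iff, Fin.val_zero]; omega
        simp only [a, b]
        by_cases a' : i = 0 <;> by_cases b' : j = 0 <;> simp [a', b', add_assoc]
    have := xs_long hp (Ind.of_lo l0 lt n).1 1 θ
    rw [map_one, one_mul, one_mul, add_comm, hθ] at this
    refine ⟨_, zl_mem_AA l0 1, zl_ne_one hp, this ▸ commutator_mem_commutator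
      ⟨xs_mem_UU hp (Ind.of_lo l0 lt n).1 (Fin.pos_iff_ne_zero.2 n.symm) 1, mem_centralizer_singleton_iff.2 ?_⟩
      ⟨AA_le_UU (xs_mem_AA hp l0 lt n θ), mem_centralizer_singleton_iff.2 (AA_comm (xs_mem_AA hp l0 lt n θ) w)⟩,
      xs φ 0 t θ, by rw [k, hθ]⟩
    rw [← mul_inv_eq_iff_eq_mul, k, map_one, CharTwo.add_self_eq_zero, zl_zero, mul_one]

theorem wr_mem_AA {s : ℕ} (hs : s ≤ m / 2) : su φ (wr m F s) ∈ AA m φ := SA.wr_mem hs

/-- Let `C p r = im (conj (xs p r 1))`.  It contains `zl p c` (take `a = xs r p' θ c`) and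
`xs p j' u` for `j ≠ p, r` (take `a = xs r j' u`).  So `C p r`, `C p r'` share `zl p 1`, and
`C p r`, `C j r` share `xs p j' 1`: all `C p r` have the same colour; `AA_gen`. -/
theorem im_conn (hp : Pa m φ) {X Y : Subgroup (SU m φ)} (hd : ∀ a ∈ AA m φ, a ∈ X → a ∈ Y → a = 1)
    (h : ∀ p r, Lo p → Lo r → p ≠ r →
      im (MulAut.conj (xs φ p r 1)) ⊆ (X : Set (SU m φ)) ∨
        im (MulAut.conj (xs φ p r 1)) ⊆ (Y : Set (SU m φ))) :
    AA m φ ≤ X ∨ AA m φ ≤ Y := by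
  obtain ⟨θ, hθ⟩ := hp.th
  have z : ∀ p r c, Lo p → Lo r → p ≠ r → φ c = c → zl φ p c ∈ im (MulAut.conj (xs φ p r 1)) :=
    fun p r c h1 h2 n hc => ⟨_, xs_mem_AA hp h2 h1 n.symm (θ * c), AA_ext (zl_mem_AA h1 c)
      (mul_mem (SA.na_xs hp h1 h2 n 1 _ (xs_mem_AA hp h2 h1 n.symm _)) (inv_mem (xs_mem_AA hp h2 h1 n.symm _)))
      fun i j hi hj => by
        rw [SA.en_cm hp h1 h2 n 1 (xs_mem_AA hp h2 h1 n.symm _) hi hj, en_zl h1 hc hi hj,
          en_xs hp h2 h1 n.symm _ h2 hj, en_xs hp h2 h1 n.symm _ hi h2, en_xs hp h2 h1 n.symm _ h2 h2]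
        by_cases a : i = p <;> by_cases b : j = p <;> simp [a, b, n, n.symm, hc, ← add_mul, hθ]⟩
  have y : ∀ p r j u, Lo p → Lo r → Lo j → p ≠ r → p ≠ j → r ≠ j →
      xs φ p j.rev u ∈ im (MulAut.conj (xs φ p r 1)) :=
    fun p r s u h1 h2 h3 n n1 n2 => ⟨_, xs_mem_AA hp h2 h3 n2 u, AA_ext (xs_mem_AA hp h1 h3 n1 u)
      (mul_mem (SA.na_xs hp h1 h2 n 1 _ (xs_mem_AA hp h2 h3 n2 _)) (inv_mem (xs_mem_AA hp h2 h3 n2 _)))
      fun i j hi hj => by
        rw [SA.en_cm hp h1 h2 n 1 (xs_mem_AA hp h2 h3 n2 _) hi hj, en_xs hp h1 h3 n1 _ hi hj,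
          en_xs hp h2 h3 n2 _ h2 hj, en_xs hp h2 h3 n2 _ hi h2, en_xs hp h2 h3 n2 _ h2 h2]
        by_cases a : i = p <;> by_cases b : j = p <;> simp [a, b, n, n1, n2]⟩
  have key : ∀ {X Y : Subgroup (SU m φ)}, (∀ a ∈ AA m φ, a ∈ X → a ∈ Y → a = 1) → (∀ p r, Lo p → Lo r → p ≠ r →
      im (MulAut.conj (xs φ p r 1)) ⊆ (X : Set (SU m φ)) ∨ im (MulAut.conj (xs φ p r 1)) ⊆ (Y : Set (SU m φ))) →
      ∀ p r, Lo p → Lo r → p ≠ r → im (MulAut.conj (xs φ p r 1)) ⊆ (X : Set (SU m φ)) → AA m φ ≤ X := by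
    intro X Y hd h p r h1 h2 n k
    have a : ∀ p r r', Lo p → Lo r → Lo r' → p ≠ r → p ≠ r' → im (MulAut.conj (xs φ p r 1)) ⊆ (X : Set (SU m φ)) →
        im (MulAut.conj (xs φ p r' 1)) ⊆ (X : Set (SU m φ)) := fun p r r' h1 h2 h3 n n' k =>
      (h p r' h1 h3 n').resolve_right fun k' => one_ne_zero (zl_inj (h1.ne_rev h1) (map_one φ) (map_zero φ)
        ((hd _ (zl_mem_AA h1 1) (k (z p r 1 h1 h2 n (map_one φ))) (k' (z p r' 1 h1 h3 n' (map_one φ)))).trans
          (zl_zero p).symm))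
    have b : ∀ j r', Lo j → Lo r' → j ≠ r' → im (MulAut.conj (xs φ j r' 1)) ⊆ (X : Set (SU m φ)) := fun j r' h3 h4 n' => by
      by_cases e : p = j
      · exact e ▸ a p r r' h1 h2 h4 n (e ▸ n') k
      obtain ⟨c, hc, c1, -, c2, -⟩ := exists_ind hp p j
      refine a j c r' h3 hc h4 c2.symm n' ((h j c h3 hc c2.symm).resolve_right fun k' => ?_)
      have f := xs_flip hp (Ind.of_lo h1 h3 e).2 1
      rw [Fin.rev_rev, map_one] at f
      exact one_ne_zero (xs_inj hp (Ind.of_lo h1 h3 e).2 ((hd _ (xs_mem_AA hp h1 h3 e 1)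
        (a p r c h1 h2 hc n c1.symm k (y p c j 1 h1 hc h3 c1.symm e c2))
        (k' (f ▸ y j c p 1 h3 hc h1 c2.symm (Ne.symm e) c1))).trans (xs_zero _ _).symm))
    refine AA_gen hp (fun i c hi hc => ?_) fun i j u hi hj n => ?_
    · obtain ⟨d, hd, d1, -⟩ := exists_ind hp i i
      exact b i d hi hd d1.symm (z i d c hi hd d1.symm hc)
    · obtain ⟨d, hd, d1, -, d2, -⟩ := exists_ind hp i j
      exact b i d hi hd d1.symm (y i d j u hi hd hj d1.symm n d2)
  obtain ⟨i, -, l0, li, -, hi, -⟩ := exists_lo3 hp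
  have ne : 0 ≠ i := fun e => by simp [← e] at hi
  exact (h 0 i l0 li ne).imp (key hd h 0 i l0 li ne)
    (key (fun a b c d => hd a b d c) (fun p r a b c => (h p r a b c).symm) 0 i l0 li ne)

end CL.UM
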