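import Cfsg.Agent.INV.UM.Gen
import Cfsg.Agent.INV.UM.SA
import Cfsg.Agent.INV.UM.Blk
import Cfsg.Agent.INV.SC.Std

/-!
The field case: facts on the linear group.
-/

set_option autoImplicit false
set_option linter.unusedSectionVars false
set_option linter.unusedVariables false

namespace CL.UM

open Matrix Subgroup CL.SC
open scoped commutatorElement

variable {m : ℕ} [NeZero m] {F : Type*} [Field F] [Finite F] [CharP F 2] {φ : F ≃+* F}

namespace F0

/-- the trace map of an automorphism normalising `A0` -/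
def tr (β : MulAut (SL m F)) (h : ∀ a ∈ A0 m F, β a ∈ A0 m F) : A0 m F →* SL m F :=
  MonoidHom.mk' (fun a => a * β a) fun a b => by
    rw [Subgroup.coe_mul, map_mul, (Pat_comm Blk.hs0 b.2 (h _ a.2)).mul_mul_mul_comm]

theorem qa_sq (hp : Pa m φ) : qa m F * qa m F = Nat.card F ^ (m / 2 * (m / 2)) := by
  rw [hp.card, qa, ← mul_pow, pow_two]

theorem card_A0 (hp : Pa m φ) : Nat.card (A0 m F) = qa m F * qa m F := by
  rw [qa_sq hp, A0, card_Pat Blk.hs0, Nat.card_congr (Equiv.subtypeProdEquivProd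
    (p := fun i : Fin m => (i : ℕ) < m / 2) (q := fun j : Fin m => m - m / 2 ≤ (j : ℕ))),
    Nat.card_prod, card_lt (by omega), card_ge (by omega), show m - (m - m / 2) = m / 2 by omega]

/-- the fixed field -/
def K (φ : F ≃+* F) : Subfield F := (φ : F →+* F).eqLocusField (RingHom.id F)

theorem card_K (hp : Pa m φ) : Nat.card (K φ) = qq F := hp.card_fix

/-- extension of scalars -/
def Φ (m : ℕ) (φ : F ≃+* F) : SL m (K φ) →* SL m F := SpecialLinearGroup.map (K φ).subtype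

theorem Φ_x (i j : Fin m) (a : K φ) : Φ m φ (x i j a) = x i j (a : F) := map_x _ i j a

theorem Φ_inj : Function.Injective (Φ m φ) := by
  intro a b h
  ext i j
  exact congrFun (congrFun (congrArg Subtype.val h) i) j

end F0

theorem A0_trace (hp : Pa m φ) {a : SL m F} (ha : a ∈ A0 m F) : a * std φ true a ∈ SU m φ := by
  change std φ true (a * std φ true a) = a * std φ true a
  have e : (std φ true : MulAut (SL m F)) * std φ true = 1 := by
    rw [std_mul, hp.sq, Bool.xor_self, std_one]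
  rw [map_mul, ← MulAut.mul_apply, e, MulAut.one_apply]
  exact (Pat_comm Blk.hs0 (std_mem_A0 φ true ha) ha).eq

/-- multiply the block by `θ`, `θ + φ θ = 1` -/
theorem A0_sur (hp : Pa m φ) {b : SU m φ} (hb : b ∈ AA m φ) :
    ∃ a ∈ A0 m F, a * std φ true a = b := by
  obtain ⟨θ, hθ⟩ := hp.th
  have : AA m φ ≤ ((F0.tr (std φ true) fun _ => std_mem_A0 φ true).range).subgroupOf (SU m φ) := by
    refine AA_gen hp (fun i c hi hc => ?_) fun i j u hi hj hij => ?_
    · refine ⟨⟨x i i.rev (θ * c), x_mem ⟨hi, Blk.lo_rev.1 (by rwa [Fin.rev_rev])⟩ _⟩, ?_⟩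
      change x i i.rev (θ * c) * std φ true (x i i.rev (θ * c)) = (zl φ i c : SL m F)
      rw [Bas.std_x, Fin.rev_rev, ← x_add, zl_val (hi.ne_rev hi) hc, map_mul, hc, ← add_mul, hθ,
        one_mul]
    · refine ⟨⟨x i j.rev u, x_mem ⟨hi, Blk.lo_rev.1 (by rwa [Fin.rev_rev])⟩ _⟩, ?_⟩
      change x i j.rev u * std φ true (x i j.rev u) = (xs φ i j.rev u : SL m F)
      rw [Bas.std_x, xs_val hp (Ind.of_lo hi hj hij).2]
  obtain ⟨a, ha⟩ := this hb
  exact ⟨a, a.2, ha⟩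

/-- The join is normalised by `SU`.  It contains the `x i j u` for non-middle `i ≠ j` (`pw_val`, `pm_x`,
`exists_wy_lo` for `{i, j'}`), and `x a o u`, `x o a u` by `gg_ea`, `gg_eb`; `closure_x`. -/
theorem iSup_cj_A0 (hp : Pa m φ) : ⨆ s : SU m φ, cj (s : SL m F) (A0 m F) = ⊤ := by
  set J := ⨆ s : SU m φ, cj (s : SL m F) (A0 m F) with hJ
  have h0 : ∀ (s : SU m φ) (g : SL m F), g ∈ A0 m F → (s : SL m F) * g * (s : SL m F)⁻¹ ∈ J :=
    fun s g hg => (le_iSup (fun s : SU m φ => cj (s : SL m F) (A0 m F)) s) ⟨g, hg, rfl⟩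
  have hn : ∀ (s : SU m φ) (g : SL m F), g ∈ J → (s : SL m F) * g * (s : SL m F)⁻¹ ∈ J := by
    intro s g hg
    have : cj (s : SL m F) J ≤ J := by
      rw [hJ, cj, Subgroup.map_iSup]
      refine iSup_le fun s' => ?_
      rintro _ ⟨_, ⟨a, ha, rfl⟩, rfl⟩
      have := h0 (s * s') a ha
      convert this using 1
      simp [mul_assoc]
    exact this ⟨g, hg, rfl⟩
  have h1 : S0 m F ≤ J := by
    refine Pat_le fun i j u hij hs => ?_
    obtain ⟨w, hw, hl⟩ := exists_wy_lo ({i, j.rev} : Set (Fin m)) (by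
      rintro k (rfl | rfl)
      · exact hs.1
      · rw [Fin.rev_rev]; exact hs.2.symm) (by
      rintro k (rfl | rfl) (e | e)
      · exact hs.1 e.symm
      · exact hij (Fin.rev_injective e)
      · rw [Fin.rev_rev] at e; exact hij e.symm
      · rw [Fin.rev_rev] at e; exact hs.2 e)
    have l1 := hl i (Or.inl rfl)
    have l2 := hl j.rev (Or.inr rfl)
    rw [hw.inv j] at l2
    have := h0 (pw φ w) (x (w⁻¹ i) (w⁻¹ j) u) (x_mem ⟨l1, Blk.lo_rev.1 l2⟩ u)
    rw [pw_val hw, pm_x] at this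
    simpa using this
  obtain ⟨θ, hθ⟩ := hp.th
  rw [eq_top_iff, ← closure_x, closure_le]
  rintro _ ⟨i, j, u, rfl⟩
  have ind : ∀ a : Fin m, a ≠ a.rev → ∃ r, Ind a r := by
    intro a ha
    obtain ⟨c, hc, h1, h2, -⟩ := exists_ind hp a a
    exact ⟨c, h1.symm, fun e => h2 (by rw [e, Fin.rev_rev]), ha, hc.ne_rev hc⟩
  by_cases hi : i = i.rev <;> by_cases hj : j = j.rev
  · rw [mid_unique hi.symm hj.symm, x_self]
    exact one_mem _
  · obtain ⟨r, hr⟩ := ind j hj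
    rw [← gg_eb hp hθ hi.symm hr u]
    exact hn _ _ (h1 (eb_mem hr u))
  · obtain ⟨r, hr⟩ := ind i hi
    rw [← gg_ea hp hθ hj.symm hr u]
    exact hn _ _ (h1 (ea_mem hr u))
  · exact h1 (x_mem ⟨hi, hj⟩ u)

/-- `f a = a * gr a` is an endomorphism of `A0` with kernel `C = A0 ⊓ Fx gr` and image `I ≤ C`, whose
elements have zero entries at `(i, i')`.  As `x 0 0' c * x 1 1' d ∈ C`, `|C| ≥ |I| |F| ^ 2`, so
`|C| ^ 2 ≥ |A0| |F| ^ 2 = q ^ (2 k k + 4)` (`card_Pat`).  Compare `OA.fx_sd` in INV/SC/Out. -/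
theorem card_gr (hp : Pa m φ) : 2 * qa m F < Nat.card (A0 m F ⊓ Fx gr : Subgroup (SL m F)) := by
  have n : ∀ a ∈ A0 m F, (gr a : SL m F) ∈ A0 m F := fun a ha => by
    have := std_mem_A0 1 true ha
    rwa [std_one_true] at this
  have el : El (A0 m F) := el_Pat Blk.hs0
  have r : (F0.tr gr n).range ≤ A0 m F ⊓ Fx gr := by
    rintro _ ⟨a, rfl⟩
    refine ⟨Subgroup.mul_mem _ a.2 (n _ a.2), ?_⟩
    change gr ((a : SL m F) * gr (a : SL m F)) = a * gr (a : SL m F)
    rw [map_mul, gr_gr, (el.comm (n _ a.2) a.2).eq]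
  have k : Nat.card (F0.tr gr n).ker = Nat.card ↥(A0 m F ⊓ Fx gr) := by
    rw [← Subgroup.card_map_of_injective (A0 m F).subtype_injective]
    congr 2
    ext a
    constructor
    · rintro ⟨a, ha, rfl⟩
      exact ⟨a.2, (eq_inv_of_mul_eq_one_right ha).trans (inv_eq_of_mul_eq_one_right (el _ a.2))⟩
    · rintro ⟨h1, h2⟩
      exact ⟨⟨a, h1⟩, show a * gr a = 1 by rw [mem_Fx.1 h2, el _ h1], rfl⟩
  have c := (F0.tr gr n).ker.card_mul_index
  rw [Subgroup.index_ker, k, F0.card_A0 hp] at c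
  have hs : ∀ i j k : Fin m, ((i : ℕ) < m / 2 ∧ j = i.rev) → ¬ ((j : ℕ) < m / 2 ∧ k = j.rev) := by
    rintro i _ k ⟨a, rfl⟩ ⟨b, -⟩
    rw [Fin.val_rev] at b
    omega
  have d : Pat F (fun i j : Fin m => (i : ℕ) < m / 2 ∧ j = i.rev) ≤ A0 m F ⊓ Fx gr := Pat_le (by
    rintro i _ a - ⟨b, rfl⟩
    exact ⟨x_mem ⟨b, by rw [Fin.val_rev]; omega⟩ a, mem_Fx.2 (by rw [gr_x, Fin.rev_rev])⟩)
  have dj : Disjoint (F0.tr gr n).range (Pat F fun i j : Fin m => (i : ℕ) < m / 2 ∧ j = i.rev) := by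
    rw [Subgroup.disjoint_def]
    rintro _ ⟨a, rfl⟩ hb
    ext i j
    by_cases e : (i : ℕ) < m / 2 ∧ j = i.rev
    · obtain ⟨e, rfl⟩ := e
      have := congrFun (congrFun (Pat_mul_val Blk.hs0 a.2 (n _ a.2)) i) i.rev
      refine this.trans ?_
      rw [Matrix.sub_apply, Matrix.add_apply, gr_apply, inv_eq_of_mul_eq_one_right (el _ a.2),
        Fin.rev_rev, CharTwo.add_self_eq_zero, zero_sub, CharTwo.neg_eq]
      rfl
    · exact (mem_Pat hs).1 hb i j e
  have c2 := Nat.card_le_card_of_injective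
    (fun p : (F0.tr gr n).range × Pat F fun i j : Fin m => (i : ℕ) < m / 2 ∧ j = i.rev =>
      (⟨p.1 * p.2, Subgroup.mul_mem _ (r p.1.2) (d p.2.2)⟩ : ↥(A0 m F ⊓ Fx gr)))
    fun p q e => Subgroup.mul_injective_of_disjoint dj (congrArg Subtype.val e)
  have c3 : Nat.card {p : Fin m × Fin m // (p.1 : ℕ) < m / 2 ∧ p.2 = p.1.rev} = m / 2 := by
    refine Eq.trans (Nat.card_eq_of_bijective (fun p => (⟨p.1.1, p.2.1⟩ : Fin (m / 2)))
      ⟨?_, fun i => ?_⟩) (by simp)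
    · intro p q e
      have e' : p.1.1 = q.1.1 := Fin.ext (Fin.mk.inj e)
      exact Subtype.ext (Prod.ext e' (by rw [p.2.2, q.2.2, e']))
    · exact ⟨⟨(⟨i, by omega⟩, Fin.rev ⟨i, by omega⟩), i.2, rfl⟩, rfl⟩
  rw [Nat.card_prod, card_Pat hs, c3] at c2
  have h8 : 5 ≤ Nat.card F ^ (m / 2) := by
    have h2 : 2 ≤ Nat.card F := Finite.one_lt_card
    calc 5 ≤ 2 ^ 3 := by norm_num
      _ ≤ Nat.card F ^ 3 := Nat.pow_le_pow_left h2 3
      _ ≤ _ := Nat.pow_le_pow_right (by omega) hp.k3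
  have hq := hp.qa8
  by_contra! hle
  generalize Nat.card ↥(A0 m F ⊓ Fx gr) = C at *
  generalize Nat.card ↥(F0.tr gr n).range = I at *
  generalize Nat.card F ^ (m / 2) = D at *
  generalize qa m F = Q at *
  have h1 : I * 5 ≤ C := le_trans (Nat.mul_le_mul_left _ h8) c2
  have h2 : C * (I * 5) ≤ (2 * Q) * (2 * Q) := Nat.mul_le_mul hle (h1.trans hle)
  nlinarith

/-- `std_gl`: `β = gr` or `conj (zz 1) * gr` (`Ty.unique`, `Ty.conj`), and `zz 1 ∈ A0`; `Fx_conj` -/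
theorem exists_gr (hp : Pa m φ) {α : MulAut (SL m F)} (h2 : α * α = 1) (h : CL.SC.Ty α 1 true) :
    ∃ B ≤ Fx α, El B ∧ 2 * qa m F < Nat.card B := by
  have hm := hp.three
  obtain ⟨β, g, hs, rfl⟩ := std_gl hm h2 ((h.ou hm).2 (Or.inr rfl))
  have t : CL.SC.Ty β 1 true := by simpa [mul_assoc] using h.conj hm (inn g)⁻¹
  have el : El (A0 m F) := el_Pat Blk.hs0
  have hle : A0 m F ⊓ Fx gr ≤ Fx β := by
    rcases hs with ⟨ψ, ε, h1, -, rfl⟩ | rfl | ⟨-, rfl⟩
    · exact (h1 ((ty_std ψ ε).unique hm t).1).elim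
    · exact inf_le_right
    · rintro a ⟨h1, h3⟩
      rw [mem_Fx, MulAut.mul_apply, mem_Fx.1 h3, MulAut.conj_apply,
        (el.comm (zz_mem_A0 (by omega) 1) h1).eq, mul_inv_cancel_right]
  refine ⟨(A0 m F ⊓ Fx gr).map (inn g : MulAut (SL m F)).toMonoidHom, Fx_conj β _ ▸ map_mono hle,
    (el.mono inf_le_left).map _, ?_⟩
  rw [Subgroup.card_map_of_injective (inn g : MulAut (SL m F)).injective]
  exact card_gr hp

/-- `exists_el` -/
theorem exists_in (hp : Pa m φ) {α : MulAut (SL m F)} (h2 : α * α = 1) (h : CL.SC.Ty α 1 false) :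
    ∃ B ≤ Fx α, El B ∧ 2 * qa m F < Nat.card B := by
  obtain ⟨a, ha, rfl⟩ := h.invol hp.three h2
  obtain ⟨B, h1, h3, h4⟩ := exists_el ha
  refine ⟨B, fun b hb => ?_, h3, ?_⟩
  · rw [mem_Fx, MulAut.conj_apply, (h3.comm h1 hb).eq, mul_inv_cancel_right]
  · have h5 : qa m F * qa m F ≤ Nat.card B := by
      rw [h4, F0.qa_sq hp]
      exact Nat.pow_le_pow_right Nat.card_pos (Nat.mul_le_mul_left _ (by omega))
    have := hp.qa8
    nlinarith

/-- the root elements over the fixed field -/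
def X0 (m : ℕ) (φ : F ≃+* F) : Set (SL m F) := {g | ∃ i j c, φ c = c ∧ g = x i j c}

theorem F0.Φ_mem (a : SL m (F0.K φ)) : F0.Φ m φ a ∈ closure (X0 m φ) := by
  have : (⊤ : Subgroup (SL m (F0.K φ))) ≤ (closure (X0 m φ)).comap (F0.Φ m φ) := by
    rw [← closure_x, closure_le]
    rintro _ ⟨i, j, c, rfl⟩
    exact subset_closure ⟨i, j, c, c.2, F0.Φ_x i j c⟩
  exact this (mem_top a)

/-- `x i j c = [x i k c, x k j 1]` -/
theorem X0_perfect (hp : Pa m φ) : closure (X0 m φ) ≤ ⁅closure (X0 m φ), closure (X0 m φ)⁆ := by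
  rw [closure_le]
  rintro _ ⟨i, j, c, hc, rfl⟩
  by_cases hij : i = j
  · rw [hij, x_self]
    exact one_mem _
  obtain ⟨k, h1, h2⟩ := exists_third hp.three i j
  have := x_tri h1.symm h2 hij c 1
  rw [mul_one] at this
  rw [← this]
  exact commutator_mem_commutator (subset_closure ⟨i, k, c, hc, rfl⟩)
    (subset_closure ⟨k, j, 1, map_one φ, rfl⟩)

/-- The map `F0 → F` is a ring homomorphism `ι`; take the image of `U m F0` under
`SpecialLinearGroup.map ι` (injective; `card_U`, `card_fix`, `map_x`, `card_UU`). -/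
theorem exists_U0 (hp : Pa m φ) : ∃ P ≤ closure (X0 m φ), P ≤ U m F ∧
    Nat.card (UU m φ) ≤ Nat.card P := by
  refine ⟨(U m (F0.K φ)).map (F0.Φ m φ), ?_, ?_, ?_⟩
  · rintro _ ⟨a, -, rfl⟩
    exact F0.Φ_mem a
  · rw [map_le_iff_le_comap]
    refine Pat_le fun i j a _ h => ?_
    rw [mem_comap, F0.Φ_x]
    exact x_mem h _
  · rw [Subgroup.card_map_of_injective F0.Φ_inj, card_U, F0.card_K hp, card_UU hp]

/-- `E = {x 0 la c * x 0 1 d}`, `c, d ∈ F0`.  For `d ≠ 0` conjugate `zz d` by `pm (swap 1 la)`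
(`pm_swap`) and then by `x 1 la (c / d)`. -/
theorem exists_E0 (hp : Pa m φ) : ∃ E ≤ closure (X0 m φ), El E ∧ qq F < Nat.card E ∧
    ∀ e ∈ E, ∃ g ∈ closure (X0 m φ), ∃ c, e = g * zz c * g⁻¹ := by
  refine ⟨(row (F0.K φ) (0 : Fin m)).map (F0.Φ m φ), ?_, (el_row 0).map _, ?_, ?_⟩
  · rintro _ ⟨a, -, rfl⟩
    exact F0.Φ_mem a
  · rw [Subgroup.card_map_of_injective F0.Φ_inj, card_row, F0.card_K hp]
    have := hp.six
    calc qq F = qq F ^ 1 := (pow_one _).symm
      _ < _ := Nat.pow_lt_pow_right hp.q2 (by omega)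
  · rintro _ ⟨a, ha, rfl⟩
    by_cases h1 : a = 1
    · exact ⟨1, one_mem _, 0, by rw [h1, map_one, zz, x_zero]; simp⟩
    obtain ⟨g, hg⟩ := isConj_iff.1 (isRoot_row hp.three ha h1)
    refine ⟨F0.Φ m φ g, F0.Φ_mem g, 1, ?_⟩
    rw [← hg, map_mul, map_mul, map_inv, zz, F0.Φ_x]
    rfl

/-- a Sylow subgroup of `R.comap π` -/
theorem Fu.lift_sub {H G : Type*} [Group H] [Finite H] [Group G] [Finite G] {π : H →* G}
    {R : Subgroup G} (hR : IsPGroup 2 R) (hle : R ≤ π.range) :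
    ∃ P : Subgroup H, IsPGroup 2 P ∧ P.map π = R := by
  have hs : Function.Surjective (π.subgroupComap R) := by
    rintro ⟨y, hy⟩
    obtain ⟨a, rfl⟩ := hle hy
    exact ⟨⟨a, hy⟩, rfl⟩
  let P : Sylow 2 (R.comap π) := default
  have ht : (⊤ : Subgroup R) = (P : Subgroup (R.comap π)).map (π.subgroupComap R) :=
    (P.mapSurjective hs).3 (hR.to_subgroup ⊤) le_top
  refine ⟨(P : Subgroup (R.comap π)).map (R.comap π).subtype, P.2.map _, le_antisymm ?_ ?_⟩
  · rintro _ ⟨_, ⟨a, -, rfl⟩, rfl⟩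
    exact a.2
  · intro y hy
    have : (⟨y, hy⟩ : R) ∈ (P : Subgroup (R.comap π)).map (π.subgroupComap R) := by
      rw [← ht]; exact mem_top _
    obtain ⟨a, ha, e⟩ := this
    exact ⟨a, ⟨a, ha, rfl⟩, congrArg Subtype.val e⟩

/-- `FiniteField.ringEquivOfCardEq` with `GaloisField 2 n` (or `Shrink`); `fld`-type congruence
`SpecialLinearGroup.map`, `QuotientGroup.congr` (search for an existing congruence of `PSL`) -/
theorem exists_small (m : ℕ) (F : Type*) [Field F] [Finite F] : ∃ (K : Type) (_ : Field K) (_ : Fintype K),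
    Fintype.card K = Nat.card F ∧ Nonempty (ProjectiveSpecialLinearGroup (Fin m) F ≃*
      ProjectiveSpecialLinearGroup (Fin m) K) := by
  let _ : Fintype (Shrink.{0} F) := Fintype.ofFinite _
  let e : Shrink.{0} F ≃+* F := Shrink.ringEquiv.{0} F
  refine ⟨Shrink.{0} F, inferInstance, inferInstance, ?_, ?_⟩
  · rw [← Nat.card_eq_fintype_card, Nat.card_congr e.toEquiv]
  let f : SpecialLinearGroup (Fin m) F ≃* SpecialLinearGroup (Fin m) (Shrink.{0} F) :=
    MonoidHom.toMulEquiv (SpecialLinearGroup.map (e.symm : F →+* Shrink.{0} F))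
      (SpecialLinearGroup.map (e : Shrink.{0} F →+* F))
      (MonoidHom.ext fun a => Subtype.ext (by ext i j; simp))
      (MonoidHom.ext fun a => Subtype.ext (by ext i j; simp))
  refine ⟨QuotientGroup.congr _ _ f ?_⟩
  ext a
  constructor
  · rintro ⟨b, hb, rfl⟩
    rw [mem_center_iff]
    intro g
    obtain ⟨g, rfl⟩ := f.surjective g
    change f g * f b = f b * f g
    rw [← map_mul, ← map_mul, mem_center_iff.1 hb g]
  · intro ha
    refine ⟨f.symm a, ?_, f.apply_symm_apply a⟩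
    refine mem_center_iff.2 fun g => f.injective ?_
    rw [map_mul, map_mul, f.apply_symm_apply, mem_center_iff.1 ha]

end CL.UM
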