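import Cfsg.Agent.INV.UM.Base
import Cfsg.Agent.INV.UM.F0
import Cfsg.Agent.INV.SC.F1

/-!
The field case: the unique fixed point (compare INV/SC/F1;  is defined there).
-/

set_option autoImplicit false
set_option linter.unusedSectionVars false
set_option linter.unusedVariables false

namespace CL.UM

open Matrix Subgroup CL.SC
open scoped commutatorElement

variable {m : ℕ} [NeZero m] {F : Type*} [Field F] [Finite F] [CharP F 2] {φ : F ≃+* F}
variable {G : Type*} [Group G] [Finite G] {ρ : SU m φ →* G} {t : G}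

variable {π : SL m F →* G}

/-- the restriction to `SU` -/
def res (φ : F ≃+* F) (π : SL m F →* G) : SU m φ →* G := π.comp (SU m φ).subtype

theorem res_apply (π : SL m F →* G) (a : SU m φ) : res φ π a = π a := rfl

theorem fu_res (h : Fr π) : Fu (res φ π) := fun a ha =>
  mem_center_iff.2 fun b => Subtype.ext (mem_center_iff.1 (h ha) b)

theorem res_comm {u : G} (h : Ac π u (std φ true)) (a : SU m φ) : Commute (res φ π a) u := (h.commute a.2).symm

/-- For `s = 1`: `A0_trace`, `A0_sur`, `Ac.fix`, `std_mem_A0`; then `Dbl.cj` with `π s`, which commutes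
with `u`. -/
theorem dbl_A0 (hp : Pa m φ) (h : Fr π) {u : G} (hu : Ac π u (std φ true)) (s : SU m φ) :
    Dbl u ((cj s (AA m φ)).map (res φ π)) ((cj (s : SL m F) (A0 m F)).map π) := by
  have el : El (A0 m F) := el_Pat Blk.hs0
  have lam : ∀ a ∈ A0 m F, π a * u * (π a)⁻¹ * u⁻¹ = π (a * std φ true a) := fun a ha => by
    rw [map_mul, ← hu, ← map_inv, inv_eq_of_mul_eq_one_right (el a ha)]
    group
  have d : Dbl u ((AA m φ).map (res φ π)) ((A0 m F).map π) := by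
    refine ⟨?_, el.map π, ?_, ?_, ?_⟩
    · rintro _ ⟨a, ha, rfl⟩
      exact ⟨a, ha, rfl⟩
    · rintro _ ⟨a, ha, rfl⟩
      rw [lam a ha]
      exact ⟨⟨_, A0_trace hp ha⟩, mul_mem ha (std_mem_A0 φ true ha), rfl⟩
    · rintro _ ⟨a, ha, rfl⟩ hc
      exact ⟨⟨a, (hu.fix h (k := 1) (by rw [pow_one, pow_two, el a ha])).1 hc.symm⟩, ha, rfl⟩
    · rintro _ ⟨b, hb, rfl⟩
      obtain ⟨a, ha, e⟩ := A0_sur hp hb
      exact ⟨π a, ⟨a, ha, rfl⟩, by rw [lam a ha, e]; rfl⟩
  have := d.cj (π s)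
  rw [show π s * u * (π s)⁻¹ = u from by
    rw [(show Commute (π s) u from res_comm hu s).eq, mul_inv_cancel_right]] at this
  rw [map_cj, map_cj]
  exact this

theorem Fld.res (h : Fld ρ t π) : res φ π = ρ := MonoidHom.ext h.emb

/-- `eq_Hs`, `dbl_A0`, `iSup_cj_A0` -/
theorem Fld.GG (hp : Pa m φ) (h : Fld ρ t π) : GG ρ t = π.range := by
  have e : ∀ s : SU m φ, Hs ρ t s = (cj (s : SL m F) (A0 m F)).map π := fun s =>
    (h.toSt3.eq_Hs hp s (h.res ▸ dbl_A0 hp h.frπ h.act s)).symm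
  rw [CL.UM.GG, iSup_congr e, ← Subgroup.map_iSup, iSup_cj_A0 hp, MonoidHom.range_eq_map]

theorem Fld.nrm0 (hp : Pa m φ) (h : Fld ρ t π) {g : G} (hg : Commute g t) :
    g ∈ normalizer (π.range : Set G) := by
  rw [← h.GG hp]
  exact h.toSt.norm_GG hp hg

theorem Fld.tp (h : Fld ρ t π) : Tp π t φ true := ⟨_, h.act, ty_std φ true⟩

/-- `St.odd_cent` -/
theorem Fld.odd_cent (hp : Pa m φ) (h : Fld ρ t π) :
    Odd (Nat.card (centralizer (π.range : Set G))) := by
  refine h.toSt.odd_cent ?_ (h.nrm0 hp (Commute.refl t)) fun hc => ?_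
  · rintro _ ⟨a, rfl⟩
    exact ⟨_, h.emb a⟩
  · simpa using (h.tp.unique hp.three h.frπ
      ⟨1, ac_one.2 fun a => (hc _ ⟨a, rfl⟩).symm, CL.SC.ty_one⟩).2

theorem Fld.eq_one (hp : Pa m φ) (h : Fld ρ t π) {n : G} {k : ℕ} (hn : n ^ 2 ^ k = 1)
    (hac : Ac π n 1) : n = 1 := by
  have h1 : n ∈ centralizer (π.range : Set G) := by
    rintro _ ⟨a, rfl⟩
    exact (ac_one.1 hac a).symm
  exact orderOf_eq_one_iff.1 (Nat.eq_one_of_dvd_coprimes
    ((Nat.coprime_two_right.2 (h.odd_cent hp)).pow_right k) (orderOf_dvd_natCard _ h1)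
    (orderOf_dvd_of_pow_eq_one hn))

theorem Fld.inn (hp : Pa m φ) (h : Fld ρ t π) {n : G} {k : ℕ} (hn : n ^ 2 ^ k = 1)
    (h1 : Tp π n 1 false) : n ∈ π.range := by
  have hm := hp.three
  obtain ⟨α, hac, hα⟩ := h1
  obtain ⟨a, ha, rfl⟩ := hα.two hm (hac.pow_eq_one hm h.frπ hn)
  have c : Commute n (π a) := hac.commute (by simp)
  have := h.eq_one hp (n := (π a)⁻¹ * n) (k := k)
    (by rw [c.symm.inv_left.mul_pow, hn, inv_pow, ← map_pow, ha]; simp)
    (by simpa using (ac_self π a).inv.mul hac)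
  exact ⟨a, inv_mul_eq_one.1 this⟩

theorem Fld.el_le (hp : Pa m φ) (h : Fld ρ t π) {B : Subgroup G}
    (hB : B ≤ normalizer (π.range : Set G)) (hE : El B) (hc : Nat.card F ^ cc m ≤ Nat.card B) :
    B ≤ π.range := by
  have hm := hp.three
  obtain ⟨θ, hθ⟩ := h.frπ.exists_hom hm
  let f := θ.comp (inclusion hB)
  have hf : ∀ e : B, Ac π e (f e) := fun e => hθ (inclusion _ e)
  have sq : ∀ e : B, (e : G) ^ 2 ^ 1 = 1 := fun e => by simpa [pow_two] using hE e e.2
  have inj : Function.Injective f := (injective_iff_map_eq_one f).2 fun e he =>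
    Subtype.ext (h.eq_one hp (sq e) (he ▸ hf e))
  intro b hb
  refine h.inn hp (sq ⟨b, hb⟩) ⟨_, hf ⟨b, hb⟩, by_contra fun ho => ?_⟩
  have := card_lt_of_outer hp.par (E := f.range)
    (by rintro _ ⟨e, rfl⟩; exact (hf e).sq hm h.frπ (hE e e.2)) ⟨_, rfl⟩ ho
  rw [← Nat.card_congr (f.ofInjective inj).toEquiv] at this
  omega

theorem Fld.conj_of_cj (hp : Pa m φ) (h : Fld ρ t π) {π' : SL m F →* G} (hr : π'.range = π.range)
    {u w : G} (hu : u * u = 1) (hw : w * w = 1) {α β : MulAut (SL m F)} (h1 : Ac π' u α)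
    (h2 : Ac π' w β) (hc : Cj α β) : ∃ n ∈ normalizer (π.range : Set G), n * u * n⁻¹ = w := by
  obtain ⟨s, rfl⟩ := hc
  have h3 := ac_one.1 (inv_mul_cancel (MulAut.conj s * α * (MulAut.conj s)⁻¹) ▸
    h2.inv.mul (((ac_self π' s).mul h1).mul (ac_self π' s).inv))
  rw [inv_eq_of_mul_eq_one_right hw] at h3
  have h4 : w * (π' s * u * (π' s)⁻¹) ∈ centralizer (π.range : Set G) := by
    rw [← hr]
    rintro _ ⟨a, rfl⟩
    exact (h3 a).symm
  obtain ⟨d, hd, e⟩ := conj_of_odd hw (by rw [conj_mul, hu, mul_one, mul_inv_cancel])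
    ((h.odd_cent hp).of_dvd_nat (orderOf_dvd_natCard _ h4))
  exact ⟨d * π' s, mul_mem (centralizer_le_normalizer _ (zpowers_le.2 h4 hd))
    (le_normalizer (hr ▸ ⟨s, rfl⟩)), by rw [← e]; group⟩

theorem F1.red (hp : Pa m φ) (h : Fr π) {u : G} (hu : u * u = 1) {ε : Bool} (h1 : Tp π u φ ε) :
    ∃ π' : SL m F →* G, Fr π' ∧ π'.range = π.range ∧ Ac π' u (std φ ε) := by
  have hm := hp.three
  obtain ⟨α, hac, hα⟩ := h1
  obtain ⟨k, rfl⟩ := gl_of_ty hm hα (ty_std φ ε) (hac.sq hm h hu)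
    (by rw [std_mul, hp.sq, Bool.xor_self, std_one]) (Or.inl hp.ne)
  exact ⟨rf π (inn k), h.rf _, range_rf _ _, by simpa [mul_assoc] using hac.rf (inn k)⟩

/-- `u = g t g⁻¹` has the frame `ρ' = tu g ρ` (`St.conj`).  By `gl_of_ty` and `Ac.rf`, `u` acts as
`fld φ` on `π' = rf π (inn h)`.  The perfect group `π'(closure X0)` is generated by involutions
commuting with `u`, so lies in the range of `ρ'` (`perf_le`).  Let `E' = lift_sub` of `π'(E)`
(`exists_E0`).  For `1 ≠ a ∈ E'`, `ρ' a = π' (g zz c g⁻¹)` commutes with `π'(cj g P)` (`exists_U0`,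
`zz_comm`); lift this group (`lift_sub`, `Fu.commute`, `card_map`): `isTv_of_central`.
`card_le_of_isTv`. -/
theorem Fld.not_field (hp : Pa m φ) (h : Fld ρ t π) (g : G) : ¬ Tp π (g * t * g⁻¹) φ false := by
  intro h1
  have h' : St (tu g ρ) (g * t * g⁻¹) := h.toSt.conj g
  obtain ⟨π', f, -, hac⟩ := F1.red hp h.frπ h'.tt h1
  generalize tu g ρ = ρ' at h'
  generalize g * t * g⁻¹ = u at h' hac
  have hq := qs hp
  have hle : (closure (X0 m φ)).map π' ≤ ρ'.range := by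
    rw [MonoidHom.map_closure]
    refine h'.perf_le hp ?_ ?_ ?_
    · rintro _ ⟨_, ⟨i, j, c, -, rfl⟩, rfl⟩
      rw [← map_mul, x_sq, map_one]
    · rintro _ ⟨_, ⟨i, j, c, hc, rfl⟩, rfl⟩
      exact (hac.commute (by rw [std_false, fld_x, hc])).symm
    · rw [← MonoidHom.map_closure, ← map_commutator]
      exact map_mono (X0_perfect hp)
  obtain ⟨E, hE, el, hc, hz⟩ := exists_E0 hp
  obtain ⟨P, hP, hU, hcP⟩ := exists_U0 hp
  obtain ⟨E', pE, eE⟩ := Fu.lift_sub (π := ρ') (el.map π').pgroup ((map_mono hE).trans hle)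
  have := card_le_of_isTv hp (E := E') fun a ha => by
    by_cases h1 : a = 1
    · exact Or.inl h1
    right
    have ta := two_of_pgroup pE ha
    obtain ⟨e, he, e1⟩ : ρ' a ∈ E.map π' := eE ▸ mem_map_of_mem ρ' ha
    have a2 : a * a = 1 := h'.fr.eq_one hq (ta.mul ta (Commute.refl a))
      (by rw [map_mul, ← e1, ← map_mul, el e he, map_one])
    obtain ⟨k, hk, c, rfl⟩ := hz e he
    have pP : IsPGroup 2 (cj k P) := (pgroup_U.to_le hU).map _
    obtain ⟨P', pP', eP⟩ := Fu.lift_sub (π := ρ') (pP.map π') ((map_mono (by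
      rintro _ ⟨b, hb, rfl⟩
      exact mul_mem (mul_mem hk (hP hb)) (inv_mem hk))).trans hle)
    refine isTv_of_central hp a2 h1 pP' ?_ fun p hp' => h'.fr.commute hq ta ?_
    · rw [← h'.fr.card_map hq pP', eP, f.card_map pP, card_cj]
      exact hcP
    · obtain ⟨_, ⟨b, hb, rfl⟩, e2⟩ : ρ' p ∈ (cj k P).map π' := eP ▸ mem_map_of_mem ρ' hp'
      rw [← e1, ← e2]
      exact (commute_cj.2 (zz_comm (hU hb) c)).map π'
  rw [← h'.fr.card_map hq pE, eE, f.card_map el.pgroup] at this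
  omega

/-- `u` acts as `std φ true` on `π' = rf π (inn h)` (`gl_of_ty`); `dbl_A0`, `hat_le` for `res φ π'` and
`iSup_cj_A0` give `range ≤ cj g range`. -/
theorem Fld.mem_of_tp (hp : Pa m φ) (h : Fld ρ t π) {g : G} (h1 : Tp π (g * t * g⁻¹) φ true) :
    g ∈ normalizer (π.range : Set G) := by
  obtain ⟨π', f, hr, hac⟩ := F1.red hp h.frπ (h.toSt.conj g).tt h1
  have hle : π.range ≤ cj g π.range := by
    conv_lhs => rw [← hr, MonoidHom.range_eq_map, ← iSup_cj_A0 hp, Subgroup.map_iSup]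
    rw [← h.GG hp]
    exact iSup_le fun s => h.toSt.hat_le hp (fu_res f) (res_comm hac) s (dbl_A0 hp f hac s)
  exact cj_eq_iff.1 (eq_of_le_of_card_ge hle (card_cj _ _).le).symm

/-- the type is `(1, ε)` or `(φ, ε)` (`Ty.sq`, `aut_inv_unique`); `exists_in`, `exists_gr`, `rank_conj` -/
theorem Fld.uf (hp : Pa m φ) (h : Fld ρ t π) : UF (normalizer (π.range : Set G)) t := by
  have hm := hp.three
  refine ⟨h.act.mem, fun g hg => ?_⟩
  have hu := (h.toSt.conj g).tt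
  have hc : IsConj t (g * t * g⁻¹) := isConj_iff.2 ⟨g, rfl⟩
  obtain ⟨α, hac⟩ := h.frπ.exists_ac hm hg
  obtain ⟨σ, ε, hα⟩ := CL.SC.exists_ty hm α
  have h2 := hac.sq hm h.frπ hu
  by_cases hσ : σ = 1
  · exfalso
    subst hσ
    obtain ⟨B, hB, hE, hl⟩ : ∃ B ≤ Fx α, El B ∧ 2 * qa m F < Nat.card B := by
      cases ε
      · exact exists_in hp h2 hα
      · exact exists_gr hp h2 hα
    have := h.toSt.rank_conj hp hc (hE.map π) (by
      rintro _ ⟨b, hb, rfl⟩
      exact (hac.commute (hB hb)).symm)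
    rw [h.frπ.card_map hE.pgroup] at this
    omega
  obtain rfl := aut_inv_unique hσ (hα.sq hm h2) hp.ne hp.sq
  cases ε
  · exact (h.not_field hp g ⟨α, hac, hα⟩).elim
  · exact h.mem_of_tp hp ⟨α, hac, hα⟩

end CL.UM
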