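import Cfsg.Agent.INV.UM.Iso
import Cfsg.Agent.INV.UM.Wey

/-!
Generators; the transvections through the middle index.
-/

set_option autoImplicit false
set_option linter.unusedSectionVars false
set_option linter.unusedVariables false
set_option maxHeartbeats 200000
set_option linter.unusedSimpArgs false

namespace CL.UM

open Matrix Subgroup CL.SC
open scoped commutatorElement

variable {m : ℕ} [NeZero m] {F : Type*} [Field F] [Finite F] [CharP F 2] {φ : F ≃+* F}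

/-- the group generated by the short root elements -/
def Sx (m : ℕ) (φ : F ≃+* F) : Subgroup (SU m φ) := closure {g | ∃ a b u, Ind a b ∧ g = xs φ a b u}

theorem xs_mem_Sx {a b : Fin m} (h : Ind a b) (u : F) : xs φ a b u ∈ Sx m φ :=
  subset_closure ⟨a, b, u, h, rfl⟩

/-- `xs_long` -/
theorem zl_mem_Sx (hp : Pa m φ) (a : Fin m) (c : F) : zl φ a c ∈ Sx m φ := by
  by_cases h : a = a.rev
  · rw [zl, ← h, x_self]; exact (su_coe (1 : SU m φ)).symm ▸ one_mem _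
  by_cases hc : φ c = c
  · obtain ⟨θ, rfl⟩ := exists_trace hp.ne hp.sq hc
    obtain ⟨b, l, h1, h2, -⟩ := exists_ind hp a a
    have i : Ind a b := ⟨h1.symm, fun k => h2 (by rw [k, Fin.rev_rev]), h, l.ne_rev l⟩
    have := xs_long hp i θ 1
    rw [map_one, mul_one, mul_one] at this
    rw [← this, commutatorElement_def]
    have k := xs_mem_Sx (φ := φ) i θ
    have k' := xs_mem_Sx (φ := φ) i.rev_right 1
    exact mul_mem (mul_mem (mul_mem k k') (inv_mem k)) (inv_mem k')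
  · exact (zl_junk h hc).symm ▸ one_mem _

theorem Gen.iso (hp : Pa m φ) (g : SU m φ) {v : Fin m → F} (hv : hf φ v v = 0) :
    hf φ (((g : SL m F) : Matrix (Fin m) (Fin m) F) *ᵥ v) (((g : SL m F) : Matrix (Fin m) (Fin m) F) *ᵥ v) = 0 :=
  ((mem_SU hp).1 g.2 v v).trans hv

theorem Gen.back (hp : Pa m φ) {K : Subgroup (SU m φ)} {g : SU m φ} (hg : g ∈ K) {v : Fin m → F}
    (hv : hf φ v v = 0) (h : tv φ (((g : SL m F) : Matrix (Fin m) (Fin m) F) *ᵥ v) ∈ K) : tv φ v ∈ K := by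
  rw [← tv_conj hp g hv] at h
  simpa [mul_assoc] using mul_mem (mul_mem (inv_mem hg) h) hg

theorem Gen.x_mulVec {i j : Fin m} (h : i ≠ j) (u : F) (v : Fin m → F) :
    ((x i j u : SL m F) : Matrix (Fin m) (Fin m) F) *ᵥ v = v + Pi.single i (u * v j) := by
  rw [x_val h, add_mulVec, one_mulVec, single_mulVec]; rfl

theorem Gen.tv_mulVec (hp : Pa m φ) {v : Fin m → F} (hv : hf φ v v = 0) (u : Fin m → F) :
    ((tv φ v : SL m F) : Matrix (Fin m) (Fin m) F) *ᵥ u = u + hf φ u v • v := by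
  rw [tv_val hp hv, add_mulVec, one_mulVec, vecMulVec_mulVec, op_smul_eq_smul, hf_eq]

theorem Gen.base (hp : Pa m φ) {K : Subgroup (SU m φ)} (h1 : Sx m φ ≤ K) {a : Fin m} (ha : a ≠ a.rev)
    {v : Fin m → F} (hv : hf φ v v = 0) (h0 : v a ≠ 0) (h : ∀ b, b ≠ a → b ≠ a.rev → v b = 0) : tv φ v ∈ K := by
  have ha' : a.rev ≠ a.rev.rev := by rw [Fin.rev_rev]; exact ha.symm
  have e := hv
  rw [hf, Finset.sum_eq_add a a.rev ha (fun b _ k => by rw [h b k.1 k.2, zero_mul]) (by simp) (by simp),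
    Fin.rev_rev] at e
  have h0' : φ (v a) ≠ 0 := (map_ne_zero φ).2 h0
  have s : φ (v a.rev / v a) = v a.rev / v a := by
    rw [map_div₀, div_eq_div_iff h0' h0, mul_comm]; exact CharTwo.add_eq_zero.1 e
  refine Gen.back hp (h1 (zl_mem_Sx hp a.rev (v a.rev / v a))) hv ?_
  rw [zl_val ha' s, Fin.rev_rev, Gen.x_mulVec ha.symm, div_mul_cancel₀ _ h0,
    show v + Pi.single a.rev (v a.rev) = Pi.single a (v a) from funext fun i => ?_, tv_single hp ha]
  · exact h1 (zl_mem_Sx hp _ _)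
  · have := h i
    have := CharTwo.add_self_eq_zero (v a.rev)
    simp only [Pi.add_apply, Pi.single_apply]; grind

/-- `closure_tv`.  An isotropic `v ≠ 0` has a non-zero coordinate `v a`, `a ≠ a'`.  Applying
`xs b a u` (`b` in another pair), `us o a' c d` and `zl a' c` to `v a • e a` one reaches `v` (the
coordinate `a'` is determined modulo `F0 (v a)` by `hf v v = 0`).  `tv_conj`, `tv_single`. -/
theorem gen_top (hp : Pa m φ) {K : Subgroup (SU m φ)} (h1 : Sx m φ ≤ K)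
    (h2 : ∀ o a c d, o.rev = o → a ≠ a.rev → us φ o a c d ∈ K) : K = ⊤ := by
  classical
  refine eq_top_iff.2 ((closure_tv hp).ge.trans ((closure_le _).2 ?_))
  rintro _ ⟨v, hv, rfl⟩
  by_cases v0 : v = 0
  · rw [v0, tv_zero]; exact one_mem _
  obtain ⟨a, ha, h0⟩ : ∃ a : Fin m, a ≠ a.rev ∧ v a ≠ 0 := by
    by_contra! n
    obtain ⟨o, ho⟩ := Function.ne_iff.1 v0
    have o1 : o = o.rev := by_contra fun k => ho (n o k)
    rw [hf, Finset.sum_eq_single o (fun b _ k => by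
      rw [n b fun e => k (mid_unique e.symm o1.symm), zero_mul]) (by simp), ← o1] at hv
    exact mul_ne_zero ho ((map_ne_zero φ).2 ho) hv
  clear v0
  generalize hn : (Finset.univ.filter fun b => b ≠ a ∧ b ≠ a.rev ∧ v b ≠ 0).card = n
  induction n using Nat.strong_induction_on generalizing v with | _ n ih => ?_
  by_cases e : ∀ b, b ≠ a → b ≠ a.rev → v b = 0
  · exact Gen.base hp h1 ha hv h0 e
  push Not at e
  obtain ⟨b, b1, b2, b3⟩ := e
  obtain ⟨g, hg, c, e⟩ : ∃ g ∈ K, ∃ c, ((g : SL m F) : Matrix (Fin m) (Fin m) F) *ᵥ v =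
      v + Pi.single b (v b) + Pi.single a.rev c := by
    by_cases hb : b.rev = b
    · obtain ⟨d, hd⟩ := exists_trace hp.ne hp.sq (a := φ (v b / v a) * φ (φ (v b / v a)))
        (by rw [map_mul, hp.ff, mul_comm])
      have ha' : a.rev ≠ a.rev.rev := by rw [Fin.rev_rev]; exact ha.symm
      exact ⟨_, h2 b a.rev (φ (v b / v a)) d hb ha', _, by
        rw [us_mulVec hp hb ha' hd v, hp.ff, Fin.rev_rev, div_mul_cancel₀ _ h0, add_right_comm]⟩
    · have i : Ind b a := ⟨b1, b2, Ne.symm hb, ha⟩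
      exact ⟨_, h1 (xs_mem_Sx i (v b / v a)), _, by rw [xs_mulVec hp i, div_mul_cancel₀ _ h0]⟩
  have z := CharTwo.add_self_eq_zero (v b)
  refine Gen.back hp hg hv (ih _ (hn ▸ Finset.card_lt_card ⟨fun j => ?s1, fun k => ?s2⟩) _ (Gen.iso hp g hv) ?s3 rfl)
  case s1 => simp only [e, Finset.mem_filter, Finset.mem_univ, true_and, Pi.add_apply, Pi.single_apply]; grind
  case s2 =>
    have := k (Finset.mem_filter.2 ⟨Finset.mem_univ b, b1, b2, b3⟩)
    simp only [e, Finset.mem_filter, Finset.mem_univ, true_and, Pi.add_apply, Pi.single_apply] at this; grind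
  case s3 => simp only [e, Pi.add_apply, Pi.single_apply]; grind

theorem hom_ext' (hp : Pa m φ) {X : Type*} [Group X] {f g : SU m φ →* X}
    (h1 : ∀ a b u, Ind a b → f (xs φ a b u) = g (xs φ a b u))
    (h2 : ∀ o a c d, o.rev = o → a ≠ a.rev → d + φ d = c * φ c →
      f (us φ o a c d) = g (us φ o a c d)) : f = g :=
  MonoidHom.ext fun k => (gen_top hp (K := f.eqLocus g)
    ((closure_le _).2 (by rintro _ ⟨a, b, u, h, rfl⟩; exact h1 a b u h)) fun o a c d ho ha => by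
      by_cases e : d + φ d = c * φ c
      · exact h2 o a c d ho ha e
      · rw [us_junk hp ho ha e]; exact one_mem _).ge (mem_top k)

variable {θ : F} {o r s a : Fin m}

/-- `θ e r + e r'` -/
def fv (θ : F) (r : Fin m) : Fin m → F := Pi.single r θ + Pi.single r.rev 1

theorem Gen.hf_fv (u : Fin m → F) : hf φ u (fv θ r) = u r.rev * φ θ + u r := by
  rw [fv, hf_add_right, hf_single_right, hf_single_right, Fin.rev_rev, map_one, mul_one]

theorem Gen.fv_r (hr : r ≠ r.rev) : fv θ r r = θ ∧ fv θ r r.rev = 1 := by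
  simp [fv, Pi.single_apply, hr, hr.symm]

theorem Gen.fv_o {i : Fin m} (h1 : i ≠ r) (h2 : i ≠ r.rev) : fv θ r i = 0 := by
  simp [fv, Pi.single_apply, h1, h2]

theorem Gen.ff (hθ : θ + φ θ = 1) (hr : r ≠ r.rev) : hf φ (fv θ r) (fv θ r) = 1 := by
  rw [Gen.hf_fv, (Gen.fv_r hr).1, (Gen.fv_r hr).2, one_mul, add_comm, hθ]

theorem Gen.fs (h : Ind r s) : hf φ (fv θ r) (fv θ s) = 0 := by
  unfold Ind at h
  rw [Gen.hf_fv, Gen.fv_o, Gen.fv_o, zero_mul, add_zero] <;> grind [Fin.rev_rev]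

theorem Gen.ef {i : Fin m} (h1 : i ≠ r) (h2 : i ≠ r.rev) (c : F) : hf φ (Pi.single i c) (fv θ r) = 0 := by
  rw [Gen.hf_fv, Pi.single_eq_of_ne h1.symm, Pi.single_eq_of_ne h2.symm, zero_mul, add_zero]

theorem Gen.mid (ho : o.rev = o) (hr : r ≠ r.rev) : o ≠ r ∧ o ≠ r.rev := by grind [Fin.rev_rev]

theorem Gen.fe (ho : o.rev = o) (hr : r ≠ r.rev) : hf φ (fv θ r) (Pi.single o 1) = 0 := by
  rw [hf_single_right, ho, Gen.fv_o (Gen.mid ho hr).1 (Gen.mid ho hr).2, zero_mul]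

theorem Gen.ee (ho : o.rev = o) : hf φ (Pi.single o 1) (Pi.single o 1) = 1 := by
  rw [hf_single_right, ho, Pi.single_eq_same, map_one, mul_one]

theorem Gen.vv (hθ : θ + φ θ = 1) (ho : o.rev = o) (hr : r ≠ r.rev) :
    hf φ (Pi.single o 1 + fv θ r) (Pi.single o 1 + fv θ r) = 0 := by
  rw [hf_add_left, hf_add_right, hf_add_right, Gen.ee ho, Gen.fe ho hr, Gen.ff hθ hr,
    Gen.ef (Gen.mid ho hr).1 (Gen.mid ho hr).2, add_zero, zero_add, CharTwo.add_self_eq_zero]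

theorem Gen.ww (hθ : θ + φ θ = 1) (h : Ind r s) : hf φ (fv θ r + fv θ s) (fv θ r + fv θ s) = 0 := by
  rw [hf_add_left, hf_add_right, hf_add_right, Gen.ff hθ h.2.2.1, Gen.ff hθ h.2.2.2, Gen.fs h, Gen.fs h.symm,
    add_zero, zero_add, CharTwo.add_self_eq_zero]

theorem Gen.gg_def : gg φ θ o r = tv φ (Pi.single o 1 + fv θ r) := by rw [gg, add_assoc, fv]

theorem Gen.self (v : Fin m → F) : v + v = 0 := funext fun _ => CharTwo.add_self_eq_zero _

theorem Gen.gg_e (hp : Pa m φ) (hθ : θ + φ θ = 1) (ho : o.rev = o) (hr : r ≠ r.rev) {i : Fin m}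
    (hi : i ≠ o ∧ i ≠ r ∧ i ≠ r.rev) (c : F) :
    ((gg φ θ o r : SL m F) : Matrix (Fin m) (Fin m) F) *ᵥ Pi.single i c = Pi.single i c := by
  rw [Gen.gg_def, Gen.tv_mulVec hp (Gen.vv hθ ho hr), hf_add_right, Gen.ef hi.2.1 hi.2.2, hf_single_right, ho,
    Pi.single_eq_of_ne hi.1.symm, zero_mul, add_zero, zero_smul, add_zero]

theorem Gen.conj_vv (hp : Pa m φ) (g : SU m φ) {A B : SL m F} {p q : Fin m → F}
    (hA : (A : Matrix (Fin m) (Fin m) F) = 1 + vecMulVec p (ad φ q))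
    (hB : (B : Matrix (Fin m) (Fin m) F) = 1 + vecMulVec (((g : SL m F) : Matrix (Fin m) (Fin m) F) *ᵥ p)
      (ad φ (((g : SL m F) : Matrix (Fin m) (Fin m) F) *ᵥ q))) : (g : SL m F) * A * (g : SL m F)⁻¹ = B :=
  Subtype.ext (by
    rw [conj_val hA, hB, mul_vecMulVec, vecMulVec_mul]
    exact congrArg (fun z => 1 + vecMulVec _ z) ((gum_toGL hp g).ad q).symm)

theorem Gen.x_vv {i j : Fin m} (h : i ≠ j) (u : F) : ((x i j u : SL m F) : Matrix (Fin m) (Fin m) F) =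
    1 + vecMulVec (u • Pi.single i 1) (ad φ (Pi.single j.rev 1)) := by
  rw [x_val h]
  ext k l
  simp only [Matrix.add_apply, single_apply, vecMulVec_apply, ad, Pi.smul_apply, Pi.single_apply, Fin.rev_inj,
    apply_ite φ, map_one, map_zero, smul_eq_mul]
  grind

theorem gg_val (hp : Pa m φ) (hθ : θ + φ θ = 1) (ho : o.rev = o) (hr : r ≠ r.rev) :
    ((gg φ θ o r : SL m F) : Matrix (Fin m) (Fin m) F) =
      1 + vecMulVec (Pi.single o 1 + fv θ r) (ad φ (Pi.single o 1 + fv θ r)) := by rw [Gen.gg_def, tv_val hp (Gen.vv hθ ho hr)]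

theorem gg_sq (hp : Pa m φ) (hθ : θ + φ θ = 1) (ho : o.rev = o) (hr : r ≠ r.rev) :
    gg φ θ o r * gg φ θ o r = 1 := by rw [Gen.gg_def, tv_sq hp (Gen.vv hθ ho hr)]

/-- `us o r 1 (φ θ)` maps `e r'` to `e r' + θ e r + e o` (`us_mulVec`) -/
theorem gg_eq (hp : Pa m φ) (hθ : θ + φ θ = 1) (ho : o.rev = o) (hr : r ≠ r.rev) :
    gg φ θ o r = us φ o r 1 (φ θ) * zl φ r.rev 1 * (us φ o r 1 (φ θ))⁻¹ := by
  have hr' : r.rev ≠ r.rev.rev := by rw [Fin.rev_rev]; exact hr.symm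
  have := tv_single hp hr' 1
  rw [map_one, mul_one] at this
  rw [← this, tv_conj hp _ (by rw [hf_single_left, Fin.rev_rev, Pi.single_eq_of_ne hr, map_zero, mul_zero]),
    us_mulVec hp ho hr (by rw [hp.ff, add_comm, hθ, map_one, mul_one]), gg, hp.ff, map_one, Pi.single_eq_same,
    Pi.single_eq_of_ne (Gen.mid ho hr).2]
  simp only [mul_zero, mul_one, zero_add]
  congr 1; abel

theorem gg_o (hp : Pa m φ) (hθ : θ + φ θ = 1) (ho : o.rev = o) (hr : r ≠ r.rev) :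
    ((gg φ θ o r : SL m F) : Matrix (Fin m) (Fin m) F) *ᵥ Pi.single o 1 = fv θ r := by
  rw [Gen.gg_def, Gen.tv_mulVec hp (Gen.vv hθ ho hr), hf_add_right, Gen.ee ho,
    Gen.ef (Gen.mid ho hr).1 (Gen.mid ho hr).2, add_zero, one_smul, ← add_assoc, Gen.self, zero_add]

theorem gg_f (hp : Pa m φ) (hθ : θ + φ θ = 1) (ho : o.rev = o) (hr : r ≠ r.rev) :
    ((gg φ θ o r : SL m F) : Matrix (Fin m) (Fin m) F) *ᵥ fv θ r = Pi.single o 1 := by
  rw [Gen.gg_def, Gen.tv_mulVec hp (Gen.vv hθ ho hr), hf_add_right, Gen.fe ho hr, Gen.ff hθ hr, zero_add, one_smul,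
    add_comm, add_assoc, Gen.self, add_zero]

/-- the transvection exchanging `fv r` and `fv s` -/
noncomputable def pp (φ : F ≃+* F) (θ : F) (r s : Fin m) : SU m φ := tv φ (fv θ r + fv θ s)

theorem gg_gg (hp : Pa m φ) (hθ : θ + φ θ = 1) (ho : o.rev = o) (h : Ind r s) :
    gg φ θ o s = gg φ θ o r * pp φ θ r s * gg φ θ o r := by
  have := tv_conj hp (gg φ θ o r) (Gen.ww hθ h)
  rw [inv_eq_of_mul_eq_one_right (gg_sq hp hθ ho h.2.2.1), mulVec_add, gg_f hp hθ ho h.2.2.1] at this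
  rw [pp, this, Gen.gg_def, Gen.gg_def, Gen.tv_mulVec hp (Gen.vv hθ ho h.2.2.1), hf_add_right,
    Gen.fe ho h.2.2.2, Gen.fs h.symm, add_zero, zero_smul, add_zero]

/-- `n = zl r 1 * xs s r' θ * xs s' r' 1` maps `e r'` to `fv r + fv s` -/
theorem pp_mem (hp : Pa m φ) (hθ : θ + φ θ = 1) (h : Ind r s) : pp φ θ r s ∈ Sx m φ := by
  have hr := h.2.2.1
  have hr' : r.rev ≠ r.rev.rev := by rw [Fin.rev_rev]; exact hr.symm
  have i1 := h.symm.rev_right
  have i2 := i1.rev_left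
  have n : zl φ r 1 * xs φ s r.rev θ * xs φ s.rev r.rev 1 ∈ Sx m φ :=
    mul_mem (mul_mem (zl_mem_Sx hp r 1) (xs_mem_Sx i1 θ)) (xs_mem_Sx i2 1)
  have := tv_conj hp (zl φ r 1 * xs φ s r.rev θ * xs φ s.rev r.rev 1) (v := Pi.single r.rev 1)
    (by rw [hf_single_left, Fin.rev_rev, Pi.single_eq_of_ne hr, map_zero, mul_zero])
  rw [coe_mul, coe_mul, Matrix.SpecialLinearGroup.coe_mul, Matrix.SpecialLinearGroup.coe_mul, ← mulVec_mulVec, ← mulVec_mulVec,
    xs_mulVec hp i2, xs_mulVec hp i1, zl_val hr (map_one φ), Gen.x_mulVec hr, tv_single hp hr'] at this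
  rw [pp, ← (this.trans (congrArg _ (funext fun i => ?_)))]
  · exact mul_mem (mul_mem n (zl_mem_Sx hp _ _)) (inv_mem n)
  · unfold Ind at h
    have := CharTwo.two_eq_zero (R := F)
    simp only [fv, Pi.add_apply, Pi.single_apply, Fin.rev_rev, Fin.rev_inj, map_one]; grind [Fin.rev_rev]

theorem Sx_le_S0 (hp : Pa m φ) {g : SU m φ} (h : g ∈ Sx m φ) : (g : SL m F) ∈ S0 m F :=
  (closure_le ((S0 m F).subgroupOf (SU m φ))).2 (by
    rintro _ ⟨a, b, u, i, rfl⟩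
    rw [SetLike.mem_coe, mem_subgroupOf, xs_val hp i]
    exact mul_mem (x_mem ⟨i.2.2.1, i.2.2.2⟩ _) (x_mem ⟨i.rev_right.2.2.2, i.rev_left.2.2.1⟩ _)) h

/-- `1 + u e a (fv r)*` -/
def ea (φ : F ≃+* F) (θ : F) (a r : Fin m) (u : F) : SL m F := x a r u * x a r.rev (φ θ * u)

/-- `1 + u (fv r) (e a)^T` -/
def eb (θ : F) (a r : Fin m) (u : F) : SL m F := x r a (θ * u) * x r.rev a u

theorem ea_mem (h : Ind a r) (u : F) : ea φ θ a r u ∈ S0 m F :=
  mul_mem (x_mem ⟨h.2.2.1, h.2.2.2⟩ _) (x_mem ⟨h.2.2.1, h.rev_right.2.2.2⟩ _)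

theorem eb_mem (h : Ind a r) (u : F) : eb θ a r u ∈ S0 m F :=
  mul_mem (x_mem ⟨h.2.2.2, h.2.2.1⟩ _) (x_mem ⟨h.rev_right.2.2.2, h.2.2.1⟩ _)

theorem Gen.ea_val (h : Ind a r) (u : F) : ((ea φ θ a r u : SL m F) : Matrix (Fin m) (Fin m) F) =
    1 + vecMulVec (u • Pi.single a 1) (ad φ (fv θ r)) := by
  rw [ea, Matrix.SpecialLinearGroup.coe_mul, x_val h.1, x_val h.2.1, add_mul, mul_add, mul_add, one_mul, one_mul, mul_one,
    single_mul_single_of_ne _ _ _ _ h.1.symm, add_zero]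
  ext k l
  unfold Ind at h
  simp only [Matrix.add_apply, single_apply, vecMulVec_apply, ad, fv, Pi.smul_apply, Pi.add_apply, Pi.single_apply,
    Fin.rev_inj, map_add, apply_ite φ, map_one, map_zero, smul_eq_mul]
  grind [Fin.rev_rev]

theorem Gen.eb_val (h : Ind a r) (u : F) : ((eb θ a r u : SL m F) : Matrix (Fin m) (Fin m) F) =
    1 + vecMulVec (u • fv θ r) (ad φ (Pi.single a.rev 1)) := by
  rw [eb, Matrix.SpecialLinearGroup.coe_mul, x_val h.1.symm, x_val h.2.1.symm, add_mul, mul_add, mul_add, one_mul, one_mul,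
    mul_one, single_mul_single_of_ne _ _ _ _ h.2.1, add_zero]
  ext k l
  unfold Ind at h
  simp only [Matrix.add_apply, single_apply, vecMulVec_apply, ad, fv, Pi.smul_apply, Pi.add_apply, Pi.single_apply,
    Fin.rev_inj, map_add, apply_ite φ, map_one, map_zero, smul_eq_mul]
  grind [Fin.rev_rev]

theorem Gen.oa (ho : o.rev = o) (h : Ind a r) : a ≠ o ∧ a ≠ r ∧ a ≠ r.rev := ⟨(Gen.mid ho h.2.2.1).1.symm, h.1, h.2.1⟩

theorem Gen.pp_e (hp : Pa m φ) (hθ : θ + φ θ = 1) (h : Ind r s) (h1 : Ind a r) (h2 : Ind a s) :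
    ((pp φ θ r s : SL m F) : Matrix (Fin m) (Fin m) F) *ᵥ Pi.single a 1 = Pi.single a 1 := by
  rw [pp, Gen.tv_mulVec hp (Gen.ww hθ h), hf_add_right, Gen.ef h1.1 h1.2.1, Gen.ef h2.1 h2.2.1, add_zero, zero_smul,
    add_zero]

theorem Gen.pp_f (hp : Pa m φ) (hθ : θ + φ θ = 1) (h : Ind r s) :
    ((pp φ θ r s : SL m F) : Matrix (Fin m) (Fin m) F) *ᵥ fv θ s = fv θ r := by
  rw [pp, Gen.tv_mulVec hp (Gen.ww hθ h), hf_add_right, Gen.fs h.symm, Gen.ff hθ h.2.2.2, zero_add, one_smul,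
    add_comm, add_assoc, Gen.self, add_zero]

theorem Gen.std_x (i j : Fin m) (u : F) : std φ true (x i j u) = x j.rev i.rev (φ u) := by
  change fld φ (gr (x i j u)) = _
  rw [gr_x, fld_x]

theorem gg_ea (hp : Pa m φ) (hθ : θ + φ θ = 1) (ho : o.rev = o) (h : Ind a r) (u : F) :
    (gg φ θ o r : SL m F) * ea φ θ a r u * (gg φ θ o r : SL m F)⁻¹ = x a o u :=
  Gen.conj_vv hp _ (Gen.ea_val h u) (by
    rw [mulVec_smul, Gen.gg_e hp hθ ho h.2.2.2 (Gen.oa ho h), gg_f hp hθ ho h.2.2.2, Gen.x_vv (Gen.oa ho h).1, ho])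

theorem gg_eb (hp : Pa m φ) (hθ : θ + φ θ = 1) (ho : o.rev = o) (h : Ind a r) (u : F) :
    (gg φ θ o r : SL m F) * eb θ a r u * (gg φ θ o r : SL m F)⁻¹ = x o a u :=
  Gen.conj_vv hp _ (Gen.eb_val h u) (by
    rw [mulVec_smul, Gen.gg_e hp hθ ho h.2.2.2 (Gen.oa ho h.rev_left), gg_f hp hθ ho h.2.2.2,
      Gen.x_vv (Gen.oa ho h).1.symm])

theorem gg_x (hp : Pa m φ) (hθ : θ + φ θ = 1) (ho : o.rev = o) (hr : r ≠ r.rev) {i j : Fin m}
    (hi : i ≠ o ∧ i ≠ r ∧ i ≠ r.rev) (hj : j ≠ o ∧ j ≠ r ∧ j ≠ r.rev) (u : F) :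
    Commute (gg φ θ o r : SL m F) (x i j u) := by
  by_cases e : i = j
  · rw [e, x_self]; exact Commute.one_right _
  exact mul_inv_eq_iff_eq_mul.1 (Gen.conj_vv hp _ (Gen.x_vv e u) (by
    rw [mulVec_smul, Gen.gg_e hp hθ ho hr hi, Gen.gg_e hp hθ ho hr (by grind [Fin.rev_rev]), Gen.x_vv e]))

theorem pp_ea (hp : Pa m φ) (hθ : θ + φ θ = 1) (h : Ind3 a r s) (u : F) :
    (pp φ θ r s : SL m F) * ea φ θ a s u * (pp φ θ r s : SL m F)⁻¹ = ea φ θ a r u :=
  Gen.conj_vv hp _ (Gen.ea_val h.2.2 u) (by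
    rw [mulVec_smul, Gen.pp_e hp hθ h.2.1 h.1 h.2.2, Gen.pp_f hp hθ h.2.1, Gen.ea_val h.1])

theorem pp_eb (hp : Pa m φ) (hθ : θ + φ θ = 1) (h : Ind3 a r s) (u : F) :
    (pp φ θ r s : SL m F) * eb θ a s u * (pp φ θ r s : SL m F)⁻¹ = eb θ a r u :=
  Gen.conj_vv hp _ (Gen.eb_val h.2.2 u) (by
    rw [mulVec_smul, Gen.pp_e hp hθ h.2.1 h.1.rev_left h.2.2.rev_left, Gen.pp_f hp hθ h.2.1, Gen.eb_val h.1])

theorem std_ea (hp : Pa m φ) (h : Ind a r) (u : F) :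
    std φ true (ea φ θ a r u) = eb θ a.rev r (φ u) := by
  rw [ea, map_mul, Gen.std_x, Gen.std_x, Fin.rev_rev, map_mul, hp.ff, eb]
  exact (x_comm h.rev_left.2.1.symm h.rev_left.1 _ _).eq

theorem std_eb (hp : Pa m φ) (h : Ind a r) (u : F) :
    std φ true (eb θ a r u) = ea φ θ a.rev r (φ u) := by
  rw [eb, map_mul, Gen.std_x, Gen.std_x, Fin.rev_rev, map_mul, ea]
  exact (x_comm h.rev_left.1 h.rev_left.2.1.symm _ _).eq

theorem Gen.rel {G : Type*} [Group G] {X A B C D T : G} (h1 : Commute C B) (h : A * B * A⁻¹ * B⁻¹ = T)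
    (h2 : Commute T B) (h3 : Commute T A) (h4 : Commute T C) :
    X * A * (C * B) * D = X * B * (A * C) * (T * D) := by
  calc _ = X * (T * (B * (A * C))) * D := by rw [h1.eq, ← h]; group
    _ = _ := by rw [(h2.mul_right (h3.mul_right h4)).eq]; group

/-- conjugate `us_val` by `gg`; both sides are `ea a r c * eb a' r (φ c) * x a a' d'` -/
theorem gg_us (hp : Pa m φ) (hθ : θ + φ θ = 1) (ho : o.rev = o) (h : Ind a r) {c d : F}
    (hd : d + φ d = c * φ c) : ∃ e, φ e = e ∧ us φ o a c d = gg φ θ o r *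
      (xs φ a r c * xs φ a r.rev (φ θ * c) * zl φ a e) * (gg φ θ o r)⁻¹ := by
  have t := CharTwo.two_eq_zero (R := F)
  have e : φ (φ θ * c * φ c + d) = φ θ * c * φ c + d := by
    rw [map_add, map_mul, map_mul, hp.ff, hp.ff]
    linear_combination (c * φ c) * hθ + hd + (c * φ c - φ θ * c * φ c - d) * t
  refine ⟨_, e, Subtype.ext ?_⟩
  have g := gg_x hp hθ ho h.2.2.2 (Gen.oa ho h) (Gen.oa ho h.rev_left) d
  rw [us_val hp ho h.2.2.1 hd, ← gg_ea hp hθ ho h, ← gg_eb hp hθ ho h.rev_left, ← mul_inv_eq_iff_eq_mul.2 g.eq,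
    conj_mul, conj_mul, coe_mul, coe_mul, coe_inv, coe_mul, coe_mul, xs_val hp h, xs_val hp h.rev_right,
    zl_val h.2.2.1 e, x_add, Fin.rev_rev, map_mul, hp.ff, ea, eb]
  have i := h.rev_left
  rw [Gen.rel (x_comm i.1.symm i.2.1 _ _) (x_tri h.2.1 i.2.1.symm h.2.2.1 _ _) (x_comm h.2.2.1 i.2.1 _ _)
    (x_comm h.2.1 h.2.2.1.symm _ _) (x_comm h.2.2.1 i.1 _ _)]

end CL.UM
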