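import Cfsg.Agent.INV.UM.Bas
import Cfsg.Agent.INV.SC.Lift
import Cfsg.Agent.FUS.Lm.Mat

/-!
Steinberg relations from the relations between the short roots.
-/

set_option autoImplicit false
set_option linter.unusedSectionVars false
set_option linter.unusedVariables false

namespace CL.UM

open Matrix Subgroup CL.SC
open scoped commutatorElement

variable {m : ℕ} [NeZero m] {F : Type*} [Field F] [Finite F] [CharP F 2] {φ : F ≃+* F}

variable {G : Type*} [Group G] [Finite G]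

/-- relations on the pairs `Ind a b` -/
structure Sr (y : Fin m → Fin m → F → G) : Prop where
  add : ∀ a b, Ind a b → ∀ u v, y a b (u + v) = y a b u * y a b v
  comm : ∀ a b c d, Ind a b → Ind c d → a ≠ d → b ≠ c → ∀ u v, Commute (y a b u) (y c d v)
  tri : ∀ a b c, Ind3 a b c → ∀ u v, ⁅y a b u, y b c v⁆ = y a c (u * v)

variable {y : Fin m → Fin m → F → G}

set_option maxHeartbeats 200000

namespace Stb

variable {X : Type*} [Group X] {A B C D E Y Z P R : X}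

theorem cm (h : Commute A B) (h' : Commute A C) : Commute A ⁅B, C⁆ :=
  ((h.mul_right h').mul_right h.inv_right).mul_right h'.inv_right

theorem lg (hA : A * A = 1) (hE : E * E = 1) (ab : Commute A B) (ad : Commute A D) (de : Commute D E)
    (h1 : ⁅A, C⁆ = D) (h2 : ⁅C, B⁆ = E) : ⁅D, B⁆ = ⁅A, E⁆ := by
  have e1 : A * C * A⁻¹ = D * C := by rw [← h1, commutatorElement_def, inv_mul_cancel_right]
  have e2 : B * C * B⁻¹ = E * C := by
    rw [← inv_eq_of_mul_eq_one_right hE, ← h2, commutatorElement_def]; group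
  have e3 : ⁅A, E⁆ = ⁅B, D⁆ := by
    have : B * (A * C * A⁻¹) * B⁻¹ = A * (B * C * B⁻¹) * A⁻¹ := by
      calc _ = B * A * C * (B * A)⁻¹ := by group
        _ = _ := by rw [← ab.eq]; group
    rw [e1, e2] at this
    calc ⁅A, E⁆ = A * (E * C) * A⁻¹ * (A * C * A⁻¹)⁻¹ * E⁻¹ := by rw [commutatorElement_def]; group
      _ = B * D * B⁻¹ * (B * C * B⁻¹) * C⁻¹ * (E * D)⁻¹ := by rw [← this, e1]; group
      _ = _ := by rw [e2, ← de.eq, commutatorElement_def]; group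
  have e4 : A * ⁅A, E⁆ * A⁻¹ = ⁅A, E⁆⁻¹ := by
    rw [commutatorElement_inv, commutatorElement_def, commutatorElement_def, ← mul_assoc, ← mul_assoc, ← mul_assoc, hA,
      one_mul, inv_eq_of_mul_eq_one_right hA]
  rw [← commutatorElement_inv, ← e3, ← e4, e3, (cm ab ad).eq, mul_inv_cancel_right]

theorem t1 (h1 : ⁅A, Y⁆ = Z) (h2 : ⁅Y, C⁆ = P) (h3 : ⁅A, P⁆ = R) (ca : Commute C A) (pz : Commute P Z)
    (pr : Commute P R) : ⁅Z, C⁆ = R := by
  have e2 : C * Y * C⁻¹ = P⁻¹ * Y := by rw [← h2, commutatorElement_def]; group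
  have e3 : A * P⁻¹ * A⁻¹ = P⁻¹ * R⁻¹ := by rw [← h3, commutatorElement_def]; group
  have e : C * Z * C⁻¹ = R⁻¹ * Z := by
    calc _ = (C * A * C⁻¹) * (C * Y * C⁻¹) * (C * A * C⁻¹)⁻¹ * (C * Y * C⁻¹)⁻¹ := by
          rw [← h1, commutatorElement_def]; group
      _ = (A * P⁻¹ * A⁻¹) * ⁅A, Y⁆ * P := by rw [ca.eq, e2, commutatorElement_def]; group
      _ = _ := by rw [e3, h1, mul_assoc, ← pz.eq, (pr.inv_left.inv_right).eq]; group
  calc _ = Z * (C * Z * C⁻¹)⁻¹ := by rw [commutatorElement_def]; group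
    _ = _ := by rw [e]; group

theorem t2 (h1 : ⁅A, Y⁆ = Z) (h2 : ⁅C, A⁆ = P) (h3 : ⁅P, Y⁆ = R) (cy : Commute C Y) (pz : Commute P Z)
    (rz : Commute R Z) : ⁅C, Z⁆ = R := by
  have e2 : C * A * C⁻¹ = P * A := by rw [← h2, commutatorElement_def]; group
  have e : C * Z * C⁻¹ = R * Z := by
    calc _ = (C * A * C⁻¹) * (C * Y * C⁻¹) * (C * A * C⁻¹)⁻¹ * (C * Y * C⁻¹)⁻¹ := by
          rw [← h1, commutatorElement_def]; group
      _ = P * ⁅A, Y⁆ * P⁻¹ * ⁅P, Y⁆ := by rw [cy.eq, e2, commutatorElement_def, commutatorElement_def]; group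
      _ = _ := by rw [h1, h3, pz.eq, rz.eq]; group
  rw [commutatorElement_def, e, mul_inv_cancel_right]

theorem ad (h : Commute A ⁅B, Y⁆) (h' : Commute ⁅B, Y⁆ ⁅A, Y⁆) : ⁅A * B, Y⁆ = ⁅A, Y⁆ * ⁅B, Y⁆ := by
  calc _ = A * ⁅B, Y⁆ * A⁻¹ * ⁅A, Y⁆ := by simp only [commutatorElement_def]; group
    _ = _ := by rw [h.eq, mul_inv_cancel_right, h'.eq]

theorem sq (h : Sr y) {a b : Fin m} (i : Ind a b) (u : F) : y a b u * y a b u = 1 := by
  rw [← h.add a b i, CharTwo.add_self_eq_zero]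
  exact mul_eq_left.1 ((h.add a b i 0 0).symm.trans (by rw [add_zero]))

end Stb

/-- All `y` are involutions (`add`).  `A = y a c u`, `C = y c b s`, `B = y b a' v`,
`D = [A, C] = y a b (u s)`, `E = [C, B] = y c a' (s v)`.  `A` commutes with `B` and `D`, and `D` with
`E`.  Conjugate `A C A⁻¹ = D C` by `B`, where `B C B⁻¹ = E C`: `A E A⁻¹ D = B D B⁻¹ E`, so
`T = [A, E] = [B, D]`.  `A` commutes with `T = (A E) ^ 2` and inverts it, so `T = T⁻¹ = [D, B]`. -/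
theorem Sr.long (hp : Pa m φ) (h : Sr y) {a b c : Fin m} (h3 : Ind3 a b c) (u s v : F) :
    ⁅y a b (u * s), y b a.rev v⁆ = ⁅y a c u, y c a.rev (s * v)⁆ := by
  obtain ⟨ab, bc, ac⟩ := h3
  exact Stb.lg (Stb.sq h ac u) (Stb.sq h ac.symm.rev_right _)
    (h.comm _ _ _ _ ac ab.symm.rev_right ab.2.2.1 bc.1.symm _ _) (h.comm _ _ _ _ ac ab ab.1 ac.1.symm _ _)
    (h.comm _ _ _ _ ab ac.symm.rev_right ab.2.2.1 bc.1 _ _) (h.tri a c b ⟨ac, bc.symm, ab⟩ u s)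
    (h.tri c b a.rev ⟨bc.symm, ab.symm.rev_right, ac.symm.rev_right⟩ s v)

namespace Stb

theorem weq (hp : Pa m φ) (h : Sr y) {a b c : Fin m} (ab : Ind a b) (ac : Ind a c) (r s : F) :
    ⁅y a b r, y b a.rev s⁆ = ⁅y a c (r * s), y c a.rev 1⁆ := by
  have k : ∀ {b c : Fin m}, Ind3 a b c → ∀ r s : F, ⁅y a b r, y b a.rev s⁆ = ⁅y a c (r * s), y c a.rev 1⁆ :=
    fun i r s => by rw [h.long hp ⟨i.2.2, i.2.1.symm, i.1⟩, mul_one]
  by_cases bc : Ind b c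
  · exact k ⟨ab, bc, ac⟩ r s
  obtain ⟨d, -, i⟩ := ab.third hp
  rw [k i, k ⟨i.2.2, by unfold Ind3 Ind at *; grind [Fin.rev_rev], ac⟩, mul_one]

theorem c1 (hp : Pa m φ) (h : Sr y) {a b e f : Fin m} (ab : Ind a b) (ef : Ind e f) (h1 : e ≠ a.rev) (h2 : f ≠ a)
    (r s w : F) : Commute (y e f w) ⁅y a b r, y b a.rev s⁆ := by
  obtain ⟨c, ac, ce, cf⟩ : ∃ c, Ind a c ∧ c ≠ e ∧ c ≠ f := by
    obtain ⟨c, l, k⟩ := exists_ind hp a e
    have := l.ne_rev l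
    have := ab.2.2.1
    by_cases e : c = f
    · exact ⟨c.rev, by unfold Ind; grind [Fin.rev_rev]⟩
    · exact ⟨c, by unfold Ind; grind [Fin.rev_rev]⟩
  rw [weq hp h ab ac]
  exact cm (h.comm _ _ _ _ ef ac ce.symm h2 _ _) (h.comm _ _ _ _ ef ac.symm.rev_right h1 cf.symm _ _)

theorem c2 (hp : Pa m φ) (h : Sr y) {a b e f : Fin m} (ab : Ind a b) (ef : Ind e f) (h1 : e ≠ a.rev)
    (r s u v : F) : Commute ⁅y a b r, y b a.rev s⁆ ⁅y e f u, y f e.rev v⁆ := by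
  obtain ⟨c, l, k⟩ := exists_ind hp a e
  have ec : Ind e c := ⟨k.2.2.1.symm, by grind [Fin.rev_rev], ef.2.2.1, l.ne_rev l⟩
  rw [weq hp h ef ec]
  exact cm (c1 hp h ab ec h1 k.1 _ _ _).symm (c1 hp h ab ec.symm.rev_right k.2.1 (by grind [Fin.rev_rev]) _ _ _).symm

end Stb

/-- Define `z a u = [y a b u, y b a' 1]`; by `long` (twice, through a third pair) it equals
`[y a b r, y b a' s]` for all `b` and `r s = u`.  It commutes with `y e f` if `e ≠ a'`, `f ≠ a`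
(choose `b ≠ e, f` outside the pair of `a`), so with `z e = [y e d, y d e']` for `e ≠ a'` (`d` in a
third pair), and is additive.  `[z a u, y a' c v] = y a c (u v)`: `X = y a b u`, `Y = y b a' 1`,
`C = y a' c v`, `b` in a third pair; conjugate `X Y X⁻¹ = z Y` by `C` as in `long`.  Similarly
`[y c a v, z a u] = y c a' (v u)`. -/
theorem Sr.ext (hp : Pa m φ) (h : Sr y) : ∃ z : Fin m → Fin m → F → G,
    (∀ a b, Ind a b → z a b = y a b) ∧
    (∀ a b, Ind a b → ∀ u, z a a.rev u = ⁅y a b u, y b a.rev 1⁆) ∧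
    (∀ i j, i ≠ i.rev → j ≠ j.rev → i ≠ j → ∀ u v, z i j (u + v) = z i j u * z i j v) ∧
    (∀ i j k l, i ≠ i.rev → j ≠ j.rev → k ≠ k.rev → l ≠ l.rev → i ≠ j → k ≠ l → i ≠ l → j ≠ k →
      ∀ u v, Commute (z i j u) (z k l v)) ∧
    ∀ i j k, i ≠ i.rev → j ≠ j.rev → k ≠ k.rev → i ≠ j → j ≠ k → i ≠ k →
      ∀ u v, ⁅z i j u, z j k v⁆ = z i k (u * v) := by
  classical
  choose β lβ hβ using fun a : Fin m => exists_ind hp a a
  have iβ : ∀ {a : Fin m}, a ≠ a.rev → Ind a (β a) := fun {a} ha =>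
    ⟨(hβ a).1.symm, fun k => (hβ a).2.1 (Fin.rev_eq_iff.1 k.symm), ha,
      (lβ a).ne_rev (lβ a)⟩
  let z : Fin m → Fin m → F → G := fun i j =>
    if j = i.rev then fun u => ⁅y i (β i) u, y (β i) i.rev 1⁆ else y i j
  have z1 : ∀ {a b : Fin m}, Ind a b → z a b = y a b := fun i => if_neg i.symm.2.1
  have z2 : ∀ {a b : Fin m}, Ind a b → ∀ u, z a a.rev u = ⁅y a b u, y b a.rev 1⁆ := fun i u => by
    simp only [z, if_true]
    rw [Stb.weq hp h (iβ i.2.2.1) i, mul_one]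
  have cs : ∀ {i j : Fin m}, i ≠ i.rev → j ≠ j.rev → i ≠ j → j = i.rev ∨ Ind i j := fun hi hj ij =>
    or_iff_not_imp_left.2 fun k => ⟨ij, by grind [Fin.rev_rev], hi, hj⟩
  refine ⟨z, fun _ _ => z1, fun _ _ => z2, fun i j hi hj ij u v => ?_,
    fun i j k l hi hj hk hl ij kl il jk u v => ?_, fun i j k hi hj hk ij jk ik u v => ?_⟩
  · obtain rfl | e := cs hi hj ij
    · have e := iβ hi
      rw [z2 e, z2 e, z2 e, h.add _ _ e]
      exact Stb.ad (Stb.c1 hp h e e hi e.1.symm _ _ _) (Stb.c2 hp h e e hi _ _ _ _)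
    · rw [z1 e, h.add _ _ e]
  · obtain rfl | e := cs hi hj ij <;> obtain rfl | e' := cs hk hl kl
    · rw [z2 (iβ hi), z2 (iβ hk)]; exact Stb.c2 hp h (iβ hi) (iβ hk) jk.symm _ _ _ _
    · rw [z2 (iβ hi), z1 e']; exact (Stb.c1 hp h (iβ hi) e' jk.symm il.symm _ _ _).symm
    · rw [z2 (iβ hk), z1 e]; exact Stb.c1 hp h (iβ hk) e il jk _ _ _
    · rw [z1 e, z1 e']; exact h.comm _ _ _ _ e e' il jk _ _
  · obtain rfl | e := cs hi hj ij
    · have ik' : Ind i k := ⟨ik, by grind [Fin.rev_rev], hi, hk⟩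
      obtain ⟨b, -, -, kb, ib⟩ := ik'.third hp
      rw [z2 ib, z1 ik', z1 ik'.rev_left]
      exact Stb.t1 rfl (h.tri b i.rev k ⟨ib.symm.rev_right, ik'.rev_left, kb.symm⟩ 1 v)
        ((h.tri i b k ⟨ib, kb.symm, ik'⟩ u _).trans (by rw [one_mul]))
        (h.comm _ _ _ _ ik'.rev_left ib ib.rev_left.1 ik.symm _ _)
        (Stb.c1 hp h ib kb.symm ib.symm.2.1 ik.symm _ _ _) (h.comm _ _ _ _ kb.symm ik' kb.1.symm ik.symm _ _)
    obtain rfl | e' := cs hj hk jk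
    · obtain ⟨b, -, -, jb, ib⟩ := e.third hp
      rw [z2 jb, z1 e, z1 e.rev_right]
      exact Stb.t2 rfl (h.tri i j b ⟨e, jb, ib⟩ u v)
        ((h.tri i b j.rev ⟨ib, jb.symm.rev_right, e.rev_right⟩ _ 1).trans (by rw [mul_one]))
        (h.comm _ _ _ _ e jb.symm.rev_right e.2.1 jb.1 _ _) (Stb.c1 hp h jb ib e.2.1 jb.1.symm _ _ _)
        (Stb.c1 hp h jb e.rev_right e.2.1 hj.symm _ _ _)
    obtain rfl | e'' := cs hi hk ik
    · rw [z1 e, z1 e', z2 e, Stb.weq hp h e e]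
    · rw [z1 e, z1 e', z1 e'', h.tri _ _ _ ⟨e, e', e''⟩]

theorem x_mem_S0 {i j : Fin m} (hi : i ≠ i.rev) (hj : j ≠ j.rev) (u : F) : x i j u ∈ S0 m F :=
  x_mem ⟨hi, hj⟩ u

theorem Stb.eL_x {n : ℕ} (e : Fin n ↪ Fin m) {i j : Fin n} (h : i ≠ j) (u : F) :
    CL.Lm.eL e (x i j u) = x (e i) (e j) u := Subtype.ext (by
  change CL.Chev.Phan.embM e (x i j u : SL n F).1 = _
  rw [x_val h, x_val (e.injective.ne h)]
  refine (CL.Chev.Phan.eq_embM e (fun a b => ?_) fun r hr c => ?_).symm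
  · simp [one_apply, single_apply]
  · have : ∀ i, e i ≠ r := fun i k => hr ⟨i, k⟩
    simp [this])

/-- `S0` is the image of `SL n F`, `n` the number of non-middle indices, under the injective block
embedding along an embedding `e : Fin n → Fin m` (`Matrix.fromBlocks`, `reindex`; or
`1 + submatrix`-extension), which maps `x i j u` to `x (e i) (e j) u`; `exists_hom_of_rel`. -/
theorem exists_hom_S0 (hp : Pa m φ) (z : Fin m → Fin m → F → G)
    (h1 : ∀ i j, i ≠ i.rev → j ≠ j.rev → i ≠ j → ∀ u v, z i j (u + v) = z i j u * z i j v)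
    (h2 : ∀ i j k l, i ≠ i.rev → j ≠ j.rev → k ≠ k.rev → l ≠ l.rev → i ≠ j → k ≠ l → i ≠ l → j ≠ k →
      ∀ u v, Commute (z i j u) (z k l v))
    (h3 : ∀ i j k, i ≠ i.rev → j ≠ j.rev → k ≠ k.rev → i ≠ j → j ≠ k → i ≠ k →
      ∀ u v, ⁅z i j u, z j k v⁆ = z i k (u * v)) :
    ∃ π : S0 m F →* G, ∀ i j (hi : i ≠ i.rev) (hj : j ≠ j.rev), i ≠ j → ∀ u,
      π ⟨x i j u, x_mem_S0 hi hj u⟩ = z i j u := by
  classical
  let s : Finset (Fin m) := Finset.univ.filter fun i => i ≠ i.rev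
  have h3' : 3 ≤ s.card := by
    obtain ⟨i, j, l0, li, lj, ei, ej⟩ := exists_lo3 hp
    refine Finset.two_lt_card_iff.2 ⟨0, i, j, by simpa [s] using l0.ne_rev l0, by simpa [s] using li.ne_rev li,
      by simpa [s] using lj.ne_rev lj, ?_, ?_, ?_⟩ <;> rw [Ne, Fin.ext_iff] <;> simp [ei, ej]
  have : NeZero s.card := ⟨by omega⟩
  let e : Fin s.card ↪ Fin m := (s.orderEmbOfFin rfl).toEmbedding
  have e1 : ∀ i, e i ≠ (e i).rev := fun i => (Finset.mem_filter.1 (s.orderEmbOfFin_mem rfl i)).2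
  have e2 : ∀ {i}, i ≠ i.rev → ∃ j, e j = i := fun {i} hi =>
    (s.range_orderEmbOfFin rfl).ge (by simpa [s] using hi)
  have n := fun {i j} (h : i ≠ j) => e.injective.ne h
  obtain ⟨π, hπ⟩ := exists_hom_of_rel h3' (fun i j => z (e i) (e j)) (fun i j h => h1 _ _ (e1 i) (e1 j) (n h))
    (fun i j k l a b c d => h2 _ _ _ _ (e1 i) (e1 j) (e1 k) (e1 l) (n a) (n b) (n c) (n d))
    fun i j k a b c => h3 _ _ _ (e1 i) (e1 j) (e1 k) (n a) (n b) (n c)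
  have le : S0 m F ≤ (CL.Lm.eL (K := F) e).range := Pat_le fun i j a ij k => by
    obtain ⟨i, rfl⟩ := e2 k.1
    obtain ⟨j, rfl⟩ := e2 k.2
    exact ⟨_, Stb.eL_x e (fun k => ij (congrArg e k)) a⟩
  refine ⟨π.comp ((MonoidHom.ofInjective (CL.Lm.eL_inj e)).symm.toMonoidHom.comp (inclusion le)),
    fun i j hi hj ij u => ?_⟩
  obtain ⟨i, rfl⟩ := e2 hi
  obtain ⟨j, rfl⟩ := e2 hj
  have ij' : i ≠ j := fun k => ij (congrArg e k)
  refine Eq.trans (congrArg π (CL.Lm.eL_inj e ?_)) (hπ i j ij' u)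
  exact (MonoidHom.apply_ofInjective_symm (CL.Lm.eL_inj e) _).trans (Stb.eL_x e ij' u).symm

theorem Sr.hom (hp : Pa m φ) (h : Sr y) : ∃ π : S0 m F →* G, ∀ a b (hab : Ind a b) u,
    π ⟨x a b u, x_mem_S0 hab.2.2.1 hab.2.2.2 u⟩ = y a b u := by
  obtain ⟨z, k, -, h1, h2, h3⟩ := h.ext hp
  obtain ⟨π, hπ⟩ := exists_hom_S0 hp z h1 h2 h3
  exact ⟨π, fun a b i u => by rw [hπ a b i.2.2.1 i.2.2.2 i.1, k a b i]⟩

/-- `x a a' u = [x a b u, x b a' 1]` -/
theorem S0_ext (hp : Pa m φ) {X : Type*} [Group X] {f g : S0 m F →* X}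
    (h : ∀ a b (hab : Ind a b) u, f ⟨x a b u, x_mem_S0 hab.2.2.1 hab.2.2.2 u⟩ =
      g ⟨x a b u, x_mem_S0 hab.2.2.1 hab.2.2.2 u⟩) : f = g := by
  refine MonoidHom.ext fun ⟨k, hk⟩ => ?_
  obtain ⟨k, e, rfl⟩ : k ∈ (f.eqLocus g).map (S0 m F).subtype := Pat_le (fun i j u ij ⟨hi, hj⟩ => by
    refine ⟨⟨_, x_mem_S0 hi hj u⟩, ?_, rfl⟩
    by_cases e : j = i.rev
    · subst e
      obtain ⟨b, l, k⟩ := exists_ind hp i i
      have ib : Ind i b := ⟨k.1.symm, by grind [Fin.rev_rev], hi, l.ne_rev l⟩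
      have k1 : (⟨_, x_mem_S0 ib.2.2.1 ib.2.2.2 u⟩ : S0 m F) ∈ f.eqLocus g := h i b ib u
      have k2 : (⟨_, x_mem_S0 ib.2.2.2 hj 1⟩ : S0 m F) ∈ f.eqLocus g := h b i.rev ib.symm.rev_right 1
      have := mul_mem (mul_mem (mul_mem k1 k2) (inv_mem k1)) (inv_mem k2)
      refine (congrArg (· ∈ f.eqLocus g) (Subtype.ext ?_)).mp this
      exact (x_tri ib.1 k.2.1 hi u 1).trans (by rw [mul_one])
    · exact h i j ⟨ij, by grind [Fin.rev_rev], hi, hj⟩ u) hk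
  exact e

theorem std_mem_S0 {g : SL m F} (h : g ∈ S0 m F) : std φ true g ∈ S0 m F :=
  std_mem_Pat (fun i j k => by grind [Fin.rev_rev]) φ true h

end CL.UM
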