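import Cfsg.Agent.INV.UM.Base
import Cfsg.Agent.INV.UM.Gen
import Cfsg.Agent.INV.UM.Stb

/-!
The field case: construction of the linear group.
-/

set_option autoImplicit false
set_option linter.unusedSectionVars false
set_option linter.unusedVariables false

namespace CL.UM

open Matrix Subgroup CL.SC
open scoped commutatorElement

variable {m : ℕ} [NeZero m] {F : Type*} [Field F] [Finite F] [CharP F 2] {φ : F ≃+* F}
variable {G : Type*} [Group G] [Finite G] {ρ : SU m φ →* G} {t : G}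

variable {y : Fin m → Fin m → F → G} {ε : Bool} {θ : F} {o : Fin m}

namespace Fe

theorem ne_rev_comm {a b : Fin m} (h : a ≠ b.rev) : b ≠ a.rev :=
  fun e => h (by rw [e, Fin.rev_rev])

theorem comm_left {K : Type*} [Group K] {a b c : K} (h1 : Commute a c) (h2 : Commute b c) :
    Commute ⁅a, b⁆ c := by
  rw [commutatorElement_def]
  exact ((h1.mul_left h2).mul_left h1.inv_left).mul_left h2.inv_left

/-- `i` lies outside the pair of `r` -/
def Out (r i : Fin m) : Prop := i ≠ r ∧ i ≠ r.rev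

theorem Out.rev {r i : Fin m} (h : Out r i) : Out r i.rev :=
  ⟨(ne_rev_comm h.2).symm, fun e => h.1 (Fin.rev_injective e)⟩

theorem out_mid {r i : Fin m} (hr : r ≠ r.rev) (hi : i = i.rev) : Out r i := by
  refine ⟨fun e => hr (e ▸ hi), fun e => hr ?_⟩
  rw [e, Fin.rev_rev] at hi
  exact hi.symm

theorem exists_out (hp : Pa m φ) (a b : Fin m) : ∃ r : Fin m, r ≠ r.rev ∧ Out r a ∧ Out r b := by
  obtain ⟨c, hc, h1, h2, h3, h4⟩ := exists_ind hp a b
  exact ⟨c, hc.ne_rev hc, ⟨h1.symm, ne_rev_comm h2⟩, ⟨h3.symm, ne_rev_comm h4⟩⟩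

theorem exists_ind1 (hp : Pa m φ) {a : Fin m} (ha : a ≠ a.rev) : ∃ r, Ind a r := by
  obtain ⟨r, hr, h1, -⟩ := exists_out hp a a
  exact ⟨r, h1.1, h1.2, ha, hr⟩

/-- the graph of the transported homomorphism -/
def R (π : S0 m F →* G) (c : SL m F) (n : G) (g : SL m F) (w : G) : Prop :=
  ∃ s : S0 m F, g = c * (s : SL m F) * c⁻¹ ∧ w = n * π s * n⁻¹

variable {π : S0 m F →* G} {c g g' : SL m F} {n w w' : G}

theorem R.one : R π c n 1 1 := ⟨1, by simp, by simp⟩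

theorem R.mul (h : R π c n g w) (h' : R π c n g' w') : R π c n (g * g') (w * w') := by
  obtain ⟨s, rfl, rfl⟩ := h
  obtain ⟨s', rfl, rfl⟩ := h'
  exact ⟨s * s', by rw [Subgroup.coe_mul]; group, by rw [map_mul]; group⟩

theorem R.inv (h : R π c n g w) : R π c n g⁻¹ w⁻¹ := by
  obtain ⟨s, rfl, rfl⟩ := h
  exact ⟨s⁻¹, by rw [Subgroup.coe_inv]; group, by rw [map_inv]; group⟩

theorem R.uq (h : R π c n g w) (h' : R π c n g w') : w = w' := by
  obtain ⟨s, e, rfl⟩ := h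
  obtain ⟨s', e', rfl⟩ := h'
  have : s = s' := Subtype.ext (mul_left_cancel (mul_right_cancel (e.symm.trans e')))
  rw [this]

end Fe

/-- `gg_eq`, `lng` (for `r` and `r'`) -/
theorem Co.gg_comm (hp : Pa m φ) (h : Co ρ t ε y) (hθ : θ + φ θ = 1) (ho : o.rev = o) {a b r : Fin m}
    (h3 : Ind3 a b r) (u : F) : Commute (ρ (gg φ θ o r)) (y a b u) := by
  obtain ⟨hab, hbr, har⟩ := h3
  have hr : r ≠ r.rev := har.2.2.2
  have h1 := h.lng a b r hab hr (Fe.ne_rev_comm har.2.1) hbr.1.symm u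
  have h2 := h.lng a b r.rev hab (by rw [Fin.rev_rev]; exact hr.symm)
    (fun e => har.1 (Fin.rev_injective e).symm) hbr.2.1.symm u
  rw [gg_eq hp hθ ho hr, map_mul, map_mul, map_inv]
  exact (((h1.2 o _ _ ho).mul_right (h2.1 1)).mul_right (h1.2 o _ _ ho).inv_right).symm

/-- If `Cmp a b c d` use `cmp`.  Otherwise `c = a'` or `d = b'`; write `y c d v = t y d' c' (φ v) t⁻¹`
(`flp`).  `c = a'`, `d` outside the pair of `b`: `tri0` for `d', a, b` (conjugate by `t`).  `d = b'`, `c`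
outside the pair of `a`: `tri0` for `a, b, c'`.  In the remaining cases `(c, d) = (a', b), (a', b'), (a, b')`
write `y a b u = [y a e u, y e b 1]` with `e` in a third pair (`Ind.third`); both factors commute
with `y c d v` by the previous cases. -/
theorem Co.sr (hp : Pa m φ) (h : Co ρ t true y) : Sr y := by
  have hA : ∀ a b d, Ind3 a b d → ∀ u v, Commute (y a b u) (y a.rev d v) := by
    intro a b d h3 u v
    have e := h.flp d.rev a h3.2.2.symm.rev_left (φ v)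
    rw [Fin.rev_rev, hp.ff] at e
    rw [e]
    have c := h.tri0 d.rev a b ⟨h3.2.2.symm.rev_left, h3.1, h3.2.1.symm.rev_left⟩ (φ v) u
    have c2 := c.conj t
    have e2 : t * (t * y a b u * t⁻¹) * t⁻¹ = y a b u := by
      have : t * (t * y a b u * t⁻¹) * t⁻¹ = (t * t) * y a b u * (t * t)⁻¹ := by group
      rw [this, h.toSt.tt]; group
    rw [e2] at c2
    exact c2.symm
  have hB : ∀ a b c, Ind3 a b c → ∀ u v, Commute (y a b u) (y c b.rev v) := by
    intro a b c h3 u v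
    have e := h.flp b c.rev h3.2.1.rev_right (φ v)
    rw [Fin.rev_rev, hp.ff] at e
    rw [e]
    exact h.tri0 a b c.rev ⟨h3.1, h3.2.1.rev_right, h3.2.2.rev_right⟩ u (φ v)
  have hC : ∀ a b c d, Ind a b → Ind c d → a ≠ d → b ≠ c →
      ¬ ((c = a ∨ c = a.rev) ∧ (d = b ∨ d = b.rev)) → ∀ u v, Commute (y a b u) (y c d v) := by
    intro a b c d hab hcd h1 h2 h3 u v
    by_cases e1 : c = a.rev
    · subst e1
      refine hA a b d ⟨hab, ?_, ?_⟩ u v
      · refine ⟨fun e => h3 ⟨Or.inr rfl, Or.inl e.symm⟩,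
          fun e => h3 ⟨Or.inr rfl, Or.inr (by rw [e, Fin.rev_rev])⟩, hab.2.2.2, hcd.2.2.2⟩
      · have := hcd.rev_left
        rwa [Fin.rev_rev] at this
    by_cases e2 : d = b.rev
    · subst e2
      refine hB a b c ⟨hab, ?_, ?_⟩ u v
      · have := hcd.rev_right
        rw [Fin.rev_rev] at this
        exact this.symm
      · exact ⟨fun e => h3 ⟨Or.inl e.symm, Or.inr rfl⟩, Fe.ne_rev_comm e1, hab.2.2.1, hcd.2.2.1⟩
    exact (h.cmp a b c d hab hcd ⟨Fe.ne_rev_comm e1, h1, h2, Fe.ne_rev_comm e2⟩ u v).1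
  refine ⟨h.add, fun a b c d hab hcd h1 h2 u v => ?_, h.tri⟩
  by_cases h3 : (c = a ∨ c = a.rev) ∧ (d = b ∨ d = b.rev)
  · obtain ⟨e, -, -, hbe, hae⟩ := hab.third hp
    have hce : Ind c e := by
      rcases h3.1 with rfl | rfl
      · exact hae
      · exact hae.rev_left
    have hde : Ind d e := by
      rcases h3.2 with rfl | rfl
      · exact hbe
      · exact hbe.rev_left
    have e1 := h.tri a e b ⟨hae, hbe.symm, hab⟩ u 1
    rw [mul_one] at e1
    rw [← e1]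
    refine Fe.comm_left (hC a e c d hae hcd h1 hce.1.symm ?_ u v)
      (hC e b c d hbe.symm hcd hde.1.symm h2 ?_ 1 v)
    · rintro ⟨-, e | e⟩
      · exact hde.1 e
      · exact hde.2.1 e
    · rintro ⟨e | e, -⟩
      · exact hce.1 e
      · exact hce.2.1 e
  · exact hC a b c d hab hcd h1 h2 h3 u v

/-- the homomorphism on `S0` -/
structure Z0 (ρ : SU m φ →* G) (t : G) (y : Fin m → Fin m → F → G) (π : S0 m F →* G) : Prop
    extends Co ρ t true y where
  val : ∀ a b (hab : Ind a b) u, π ⟨x a b u, x_mem_S0 hab.2.2.1 hab.2.2.2 u⟩ = y a b u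

variable {π : S0 m F →* G}

/-- `S0_ext`, `flp` -/
theorem Z0.act (hp : Pa m φ) (h : Z0 ρ t y π) (g : S0 m F) :
    t * π g * t⁻¹ = π ⟨std φ true g, std_mem_S0 g.2⟩ := by
  have := S0_ext hp (f := (MulAut.conj t).toMonoidHom.comp π)
    (g := π.comp (((std φ true : MulAut (SL m F)).toMonoidHom.comp (S0 m F).subtype).codRestrict
      (S0 m F) fun g => std_mem_S0 g.2)) (fun a b hab u => by
      have hba : Ind b.rev a.rev := hab.symm.rev_left.rev_right
      have e := h.flp a b hab u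
      change t * π _ * t⁻¹ = π _
      rw [h.val a b hab u]
      refine e.symm.trans ((h.val _ _ hba (φ u)).symm.trans (congrArg π (Subtype.ext ?_)))
      exact (Bas.std_x a b u).symm)
  exact DFunLike.congr_fun this g

/-- closure induction, `xs_val`, `flp`, `diag` -/
theorem Z0.emb (hp : Pa m φ) (h : Z0 ρ t y π) {g : SU m φ} (hg : g ∈ Sx m φ) :
    π ⟨g, Sx_le_S0 hp hg⟩ = ρ g := by
  induction hg using closure_induction with
  | mem g hg =>
    obtain ⟨a, b, u, hab, rfl⟩ := hg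
    have hba : Ind b.rev a.rev := hab.symm.rev_left.rev_right
    have e := h.flp a b hab u
    rw [← h.diag a b hab u]
    change _ = y a b u * cond true (t * y a b u * t⁻¹) (y a b u)
    rw [← e, ← h.val a b hab u, ← h.val _ _ hba (φ u), ← map_mul]
    exact congrArg π (Subtype.ext (xs_val hp hab u))
  | one => rw [map_one]; exact map_one π
  | mul a b ha hb iha ihb => rw [map_mul, ← iha, ← ihb, ← map_mul]; rfl
  | inv a ha iha => rw [map_inv, ← iha, ← map_inv]; rfl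

/-- `gg_comm`; `x i i' u = [x i e u, x e i' 1]` with `e` in a third pair -/
theorem Z0.gg_x (hp : Pa m φ) (h : Z0 ρ t y π) (hθ : θ + φ θ = 1) (ho : o.rev = o) {i j r : Fin m}
    (hi : Ind i r) (hj : Ind j r) (u : F) :
    Commute (ρ (gg φ θ o r)) (π ⟨x i j u, x_mem_S0 hi.2.2.1 hj.2.2.1 u⟩) := by
  have key : ∀ i j (hi : Ind i r) (hj : Ind j r), Ind i j → ∀ u,
      Commute (ρ (gg φ θ o r)) (π ⟨x i j u, x_mem_S0 hi.2.2.1 hj.2.2.1 u⟩) := by
    intro i j hi hj hij u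
    have := h.toCo.gg_comm hp hθ ho ⟨hij, hj, hi⟩ u
    rwa [← h.val i j hij u] at this
  by_cases e1 : i = j
  · subst e1
    have : (⟨x i i u, x_mem_S0 hi.2.2.1 hj.2.2.1 u⟩ : S0 m F) = 1 := Subtype.ext (x_self i u)
    rw [this, map_one]
    exact Commute.one_right _
  by_cases e2 : i = j.rev
  · obtain ⟨e, -, -, hre, hje⟩ := hj.third hp
    have hie : Ind i e := by rw [e2]; exact hje.rev_left
    have : (⟨x i j u, x_mem_S0 hi.2.2.1 hj.2.2.1 u⟩ : S0 m F) =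
        ⁅(⟨x i e u, x_mem_S0 hi.2.2.1 hre.symm.2.2.1 u⟩ : S0 m F),
          (⟨x e j 1, x_mem_S0 hre.symm.2.2.1 hj.2.2.1 1⟩ : S0 m F)⁆ := by
      apply Subtype.ext
      have := x_tri hie.1 hje.1.symm e1 u 1
      rw [mul_one] at this
      exact this.symm
    rw [this, map_commutatorElement]
    exact (Fe.comm_left (key i e hi hre.symm hie u).symm (key e j hre.symm hj hje.symm 1).symm).symm
  · exact key i j hi hj ⟨e1, e2, hi.2.2.1, hj.2.2.1⟩ u

theorem Fe.ind_gen (hp : Pa m φ) (h : Z0 ρ t y π) (hθ : θ + φ θ = 1) (ho : o.rev = o) {a : Fin m}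
    (E : ∀ r, Ind a r → S0 m F)
    (hc : ∀ r s (h3 : Ind3 a r s), Commute (ρ (gg φ θ o r)) (π (E s h3.2.2)))
    (he : ∀ r s (h3 : Ind3 a r s), (pp φ θ r s : SL m F) * (E s h3.2.2 : SL m F) *
      (pp φ θ r s : SL m F)⁻¹ = E r h3.1) {r s : Fin m} (hr : Ind a r) (hs : Ind a s) :
    ρ (gg φ θ o r) * π (E r hr) * (ρ (gg φ θ o r))⁻¹ =
      ρ (gg φ θ o s) * π (E s hs) * (ρ (gg φ θ o s))⁻¹ := by
  have key : ∀ r s (hr : Ind a r) (hs : Ind a s), Ind r s →
      ρ (gg φ θ o r) * π (E r hr) * (ρ (gg φ θ o r))⁻¹ =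
        ρ (gg φ θ o s) * π (E s hs) * (ρ (gg φ θ o s))⁻¹ := by
    intro r s hr hs hrs
    have h3 : Ind3 a r s := ⟨hr, hrs, hs⟩
    have hm := pp_mem hp hθ hrs
    have e1 : E r hr = ⟨_, Sx_le_S0 hp hm⟩ * E s hs * (⟨_, Sx_le_S0 hp hm⟩ : S0 m F)⁻¹ :=
      Subtype.ext (he r s h3).symm
    have c : ρ (gg φ θ o r) * π (E s hs) * (ρ (gg φ θ o r))⁻¹ = π (E s hs) := by
      rw [(hc r s h3).eq, mul_inv_cancel_right]
    rw [gg_gg hp hθ ho hrs, e1, map_mul, map_mul, map_inv, h.emb hp hm, map_mul, map_mul]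
    conv_lhs => rw [← c]
    group
  by_cases e1 : r = s
  · subst e1; rfl
  by_cases e2 : r = s.rev
  · obtain ⟨e, -, -, hse, hae⟩ := hs.third hp
    have hre : Ind r e := by rw [e2]; exact hse.rev_left
    rw [key r e hr hae hre, key s e hs hae hse]
  · exact key r s hr hs ⟨e1, e2, hr.2.2.2, hs.2.2.2⟩

/-- For `Ind3 a r s`: `gg_gg`, `ρ (gg r)` commutes with `π (ea a s u)` (`gg_x`), `ρ pp = π pp`
(`pp_mem`, `emb`), `pp_ea`.  If `s = r'` pass through a third pair. -/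
theorem Z0.ea_ind (hp : Pa m φ) (h : Z0 ρ t y π) (hθ : θ + φ θ = 1) (ho : o.rev = o) {a r s : Fin m}
    (hr : Ind a r) (hs : Ind a s) (u : F) :
    ρ (gg φ θ o r) * π ⟨ea φ θ a r u, ea_mem hr u⟩ * (ρ (gg φ θ o r))⁻¹ =
      ρ (gg φ θ o s) * π ⟨ea φ θ a s u, ea_mem hs u⟩ * (ρ (gg φ θ o s))⁻¹ := by
  refine Fe.ind_gen hp h hθ ho (fun r hr => ⟨ea φ θ a r u, ea_mem hr u⟩) (fun r s h3 => ?_)
    (fun r s h3 => pp_ea hp hθ h3 u) hr hs
  have c1 := h.gg_x hp hθ ho h3.1 h3.2.1.symm u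
  have c2 := h.gg_x hp hθ ho h3.1 h3.2.1.symm.rev_left (φ θ * u)
  have := c1.mul_right c2
  rwa [← map_mul] at this

theorem Z0.eb_ind (hp : Pa m φ) (h : Z0 ρ t y π) (hθ : θ + φ θ = 1) (ho : o.rev = o) {a r s : Fin m}
    (hr : Ind a r) (hs : Ind a s) (u : F) :
    ρ (gg φ θ o r) * π ⟨eb θ a r u, eb_mem hr u⟩ * (ρ (gg φ θ o r))⁻¹ =
      ρ (gg φ θ o s) * π ⟨eb θ a s u, eb_mem hs u⟩ * (ρ (gg φ θ o s))⁻¹ := by
  refine Fe.ind_gen hp h hθ ho (fun r hr => ⟨eb θ a r u, eb_mem hr u⟩) (fun r s h3 => ?_)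
    (fun r s h3 => pp_eb hp hθ h3 u) hr hs
  have c1 := h.gg_x hp hθ ho h3.2.1.symm h3.1 (θ * u)
  have c2 := h.gg_x hp hθ ho h3.2.1.symm.rev_left h3.1 u
  have := c1.mul_right c2
  rwa [← map_mul] at this

/-- `z i j u = π (x i j u)` for non-middle indices; `z a o u`, `z o a u` are the elements of `ea_ind`,
`eb_ind` (`gg_ea`, `gg_eb`, `gg_x`). -/
theorem Z0.exists_z (hp : Pa m φ) (h : Z0 ρ t y π) (hθ : θ + φ θ = 1) (ho : o.rev = o) :
    ∃ z : Fin m → Fin m → F → G,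
      (∀ i j (hi : i ≠ i.rev) (hj : j ≠ j.rev) u, z i j u = π ⟨x i j u, x_mem_S0 hi hj u⟩) ∧
      ∀ r i j, r ≠ r.rev → i ≠ j → i ≠ r → i ≠ r.rev → j ≠ r → j ≠ r.rev → ∀ u, ∃ s : S0 m F,
        x i j u = (gg φ θ o r : SL m F) * (s : SL m F) * (gg φ θ o r : SL m F)⁻¹ ∧
          z i j u = ρ (gg φ θ o r) * π s * (ρ (gg φ θ o r))⁻¹ := by
  have key : ∀ (i j : Fin m) (u : F), ∃ g : G,
      (∀ (hi : i ≠ i.rev) (hj : j ≠ j.rev), g = π ⟨x i j u, x_mem_S0 hi hj u⟩) ∧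
      ∀ r, r ≠ r.rev → i ≠ j → i ≠ r → i ≠ r.rev → j ≠ r → j ≠ r.rev → ∃ s : S0 m F,
        x i j u = (gg φ θ o r : SL m F) * (s : SL m F) * (gg φ θ o r : SL m F)⁻¹ ∧
          g = ρ (gg φ θ o r) * π s * (ρ (gg φ θ o r))⁻¹ := by
    intro i j u
    by_cases hi : i = i.rev <;> by_cases hj : j = j.rev
    · exact ⟨1, fun h' => absurd hi h', fun r _ hij => absurd (mid_unique hi.symm hj.symm) hij⟩
    · obtain rfl : o = i := mid_unique ho hi.symm
      obtain ⟨r0, hr0⟩ := Fe.exists_ind1 hp hj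
      refine ⟨ρ (gg φ θ o r0) * π ⟨eb θ j r0 u, eb_mem hr0 u⟩ * (ρ (gg φ θ o r0))⁻¹,
        fun h' => absurd hi h', fun r hr _ _ _ h1 h2 => ?_⟩
      have hjr : Ind j r := ⟨h1, h2, hj, hr⟩
      exact ⟨⟨eb θ j r u, eb_mem hjr u⟩, (gg_eb hp hθ ho hjr u).symm, h.eb_ind hp hθ ho hr0 hjr u⟩
    · obtain rfl : o = j := mid_unique ho hj.symm
      obtain ⟨r0, hr0⟩ := Fe.exists_ind1 hp hi
      refine ⟨ρ (gg φ θ o r0) * π ⟨ea φ θ i r0 u, ea_mem hr0 u⟩ * (ρ (gg φ θ o r0))⁻¹,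
        fun _ h' => absurd hj h', fun r hr _ h1 h2 _ _ => ?_⟩
      have hir : Ind i r := ⟨h1, h2, hi, hr⟩
      exact ⟨⟨ea φ θ i r u, ea_mem hir u⟩, (gg_ea hp hθ ho hir u).symm, h.ea_ind hp hθ ho hr0 hir u⟩
    · refine ⟨π ⟨x i j u, x_mem_S0 hi hj u⟩, fun _ _ => rfl, fun r hr _ h1 h2 h3 h4 =>
        ⟨⟨x i j u, x_mem_S0 hi hj u⟩, ?_, ?_⟩⟩
      · have c := CL.UM.gg_x hp hθ ho hr (i := i) (j := j)
          ⟨fun e => hi (by rw [e, ho]), h1, h2⟩ ⟨fun e => hj (by rw [e, ho]), h3, h4⟩ u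
        change _ = _ * x i j u * _
        rw [c.eq, mul_inv_cancel_right]
      · have c := h.gg_x hp hθ ho (i := i) (j := j) ⟨h1, h2, hi, hr⟩ ⟨h3, h4, hj, hr⟩ u
        rw [c.eq, mul_inv_cancel_right]
  choose z hz1 hz2 using key
  exact ⟨z, fun i j hi hj u => hz1 i j u hi hj, fun r i j hr h0 h1 h2 h3 h4 u =>
    hz2 i j u r hr h0 h1 h2 h3 h4⟩

/-- `exists_hom_of_rel` for `z`.  A relation involving only indices from at most two pairs and `o`
follows by choosing `r` in a third pair (`exists_ind`); one without `o` holds in `S0`.  There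
remain `z i o`, `z k l` and `z o i`, `z k l` with `Ind3 i k l`: write `z k l v = [z k i' v, z i' l 1]`.
The last claim: `S0_ext`, and closure induction on `g`. -/
theorem Z0.odd (hp : Pa m φ) (h : Z0 ρ t y π) (hθ : θ + φ θ = 1) (ho : o.rev = o) :
    ∃ π' : SL m F →* G, (∀ g : S0 m F, π' g = π g) ∧ ∀ r, r ≠ r.rev →
      ∀ g ∈ Pat F fun i j => i ≠ r ∧ i ≠ r.rev ∧ j ≠ r ∧ j ≠ r.rev, ∃ s : S0 m F,
        g = (gg φ θ o r : SL m F) * (s : SL m F) * (gg φ θ o r : SL m F)⁻¹ ∧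
          π' g = ρ (gg φ θ o r) * π s * (ρ (gg φ θ o r))⁻¹ := by
  obtain ⟨z, hz1, hz2⟩ := h.exists_z hp hθ ho
  have g0 : ∀ i j, i ≠ i.rev → j ≠ j.rev → ∀ u, Fe.R π 1 1 (x i j u) (z i j u) :=
    fun i j hi hj u => ⟨⟨x i j u, x_mem_S0 hi hj u⟩, by simp, by rw [hz1 i j hi hj u]; simp⟩
  have g1 : ∀ r i j, r ≠ r.rev → i ≠ j → Fe.Out r i → Fe.Out r j → ∀ u,
      Fe.R π (gg φ θ o r : SL m F) (ρ (gg φ θ o r)) (x i j u) (z i j u) :=
    fun r i j hr hij hi hj u => hz2 r i j hr hij hi.1 hi.2 hj.1 hj.2 u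
  have hadd : ∀ i j, i ≠ j → ∀ a b, z i j (a + b) = z i j a * z i j b := by
    intro i j hij a b
    obtain ⟨r, hr, hi, hj⟩ := Fe.exists_out hp i j
    have := (g1 r i j hr hij hi hj a).mul (g1 r i j hr hij hi hj b)
    rw [← x_add] at this
    exact (g1 r i j hr hij hi hj (a + b)).uq this
  have htri : ∀ i j k, i ≠ j → j ≠ k → i ≠ k → ∀ a b,
      z i j a * z j k b * (z i j a)⁻¹ * (z j k b)⁻¹ = z i k (a * b) := by
    intro i j k hij hjk hik a b
    have fin : ∀ c n, Fe.R π c n (x i j a) (z i j a) → Fe.R π c n (x j k b) (z j k b) →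
        Fe.R π c n (x i k (a * b)) (z i k (a * b)) →
        z i j a * z j k b * (z i j a)⁻¹ * (z j k b)⁻¹ = z i k (a * b) := by
      intro c n h1 h2 h3
      have := ((h1.mul h2).mul h1.inv).mul h2.inv
      rw [x_tri hij hjk hik] at this
      exact this.uq h3
    have fin' : ∀ r, r ≠ r.rev → Fe.Out r i → Fe.Out r j → Fe.Out r k →
        z i j a * z j k b * (z i j a)⁻¹ * (z j k b)⁻¹ = z i k (a * b) := fun r hr hi hj hk =>
      fin _ _ (g1 r i j hr hij hi hj a) (g1 r j k hr hjk hj hk b) (g1 r i k hr hik hi hk _)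
    by_cases hi : i = i.rev
    · obtain ⟨r, hr, h1, h2⟩ := Fe.exists_out hp j k
      exact fin' r hr (Fe.out_mid hr hi) h1 h2
    by_cases hj : j = j.rev
    · obtain ⟨r, hr, h1, h2⟩ := Fe.exists_out hp i k
      exact fin' r hr h1 (Fe.out_mid hr hj) h2
    by_cases hk : k = k.rev
    · obtain ⟨r, hr, h1, h2⟩ := Fe.exists_out hp i j
      exact fin' r hr h1 h2 (Fe.out_mid hr hk)
    exact fin _ _ (g0 i j hi hj a) (g0 j k hj hk b) (g0 i k hi hk _)
  have cfin : ∀ i j k l, i ≠ l → j ≠ k → ∀ a b c n, Fe.R π c n (x i j a) (z i j a) →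
      Fe.R π c n (x k l b) (z k l b) → Commute (z i j a) (z k l b) := by
    intro i j k l hil hjk a b c n h1 h2
    have := h1.mul h2
    rw [(x_comm hil hjk a b).eq] at this
    exact this.uq (h2.mul h1)
  have c2 : ∀ r i j k l, r ≠ r.rev → i ≠ j → k ≠ l → i ≠ l → j ≠ k → Fe.Out r i → Fe.Out r j →
      Fe.Out r k → Fe.Out r l → ∀ a b, Commute (z i j a) (z k l b) :=
    fun r i j k l hr hij hkl hil hjk hi hj hk hl a b =>
      cfin i j k l hil hjk a b _ _ (g1 r i j hr hij hi hj a) (g1 r k l hr hkl hk hl b)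
  have aux : ∀ i j k l, i ≠ j → k ≠ l → i ≠ l → j ≠ k → (i = i.rev ∨ j = j.rev) → ∀ a b,
      Commute (z i j a) (z k l b) := by
    intro i j k l hij hkl hil hjk hm a b
    obtain ⟨p, hp0, hp1, hp2⟩ : ∃ p : Fin m, p ≠ p.rev ∧ (i ≠ p.rev ∧ j ≠ p.rev) ∧
        ∀ r, r ≠ r.rev → Fe.Out r p → Fe.Out r i ∧ Fe.Out r j := by
      rcases hm with hm | hm
      · have hj : j ≠ j.rev := fun e => hij (mid_unique hm.symm e.symm)
        refine ⟨j, hj, ⟨fun e => hij ?_, hj⟩, fun r hr h1 => ⟨Fe.out_mid hr hm, h1⟩⟩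
        exact Fin.rev_injective (hm.symm.trans e)
      · have hi : i ≠ i.rev := fun e => hij (mid_unique e.symm hm.symm)
        refine ⟨i, hi, ⟨hi, fun e => hij ?_⟩, fun r hr h1 => ⟨h1, Fe.out_mid hr hm⟩⟩
        exact (Fin.rev_injective (hm.symm.trans e)).symm
    obtain ⟨r1, hr1, o1, o2⟩ := Fe.exists_out hp p k
    obtain ⟨r2, hr2, o3, o4⟩ := Fe.exists_out hp p l
    by_cases hk : k = p.rev
    · exact c2 r2 i j k l hr2 hij hkl hil hjk (hp2 r2 hr2 o3).1 (hp2 r2 hr2 o3).2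
        (by rw [hk]; exact o3.rev) o4 a b
    by_cases hl : l = p.rev
    · exact c2 r1 i j k l hr1 hij hkl hil hjk (hp2 r1 hr1 o1).1 (hp2 r1 hr1 o1).2 o2
        (by rw [hl]; exact o1.rev) a b
    have e := htri k p.rev l hk (Ne.symm hl) hkl b 1
    rw [mul_one] at e
    rw [← e]
    have d1 := c2 r1 i j k p.rev hr1 hij hk hp1.1 hjk (hp2 r1 hr1 o1).1 (hp2 r1 hr1 o1).2 o2
      o1.rev a b
    have d2 := c2 r2 i j p.rev l hr2 hij (Ne.symm hl) hil hp1.2 (hp2 r2 hr2 o3).1 (hp2 r2 hr2 o3).2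
      o3.rev o4 a 1
    exact ((d1.mul_right d2).mul_right d1.inv_right).mul_right d2.inv_right
  have hcomm : ∀ i j k l, i ≠ j → k ≠ l → i ≠ l → j ≠ k → ∀ a b, Commute (z i j a) (z k l b) := by
    intro i j k l hij hkl hil hjk a b
    by_cases h1 : i = i.rev ∨ j = j.rev
    · exact aux i j k l hij hkl hil hjk h1 a b
    by_cases h2 : k = k.rev ∨ l = l.rev
    · exact (aux k l i j hkl hij hjk.symm hil.symm h2 b a).symm
    rw [not_or] at h1 h2
    exact cfin i j k l hil hjk a b _ _ (g0 i j h1.1 h1.2 a) (g0 k l h2.1 h2.2 b)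
  obtain ⟨π', hπ⟩ := exists_hom_of_rel hp.three z hadd hcomm htri
  refine ⟨π', fun g => ?_, fun r hr g hg => ?_⟩
  · have := S0_ext hp (f := π'.comp (S0 m F).subtype) (g := π) (fun a b hab u => by
      change π' (x a b u) = _
      rw [hπ a b hab.1, hz1 a b hab.2.2.1 hab.2.2.2])
    exact DFunLike.congr_fun this g
  · change Fe.R π (gg φ θ o r : SL m F) (ρ (gg φ θ o r)) g (π' g)
    induction hg using closure_induction with
    | mem g hg =>
      obtain ⟨i, j, a, hs, rfl⟩ := hg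
      by_cases hij : i = j
      · subst hij
        rw [x_self, map_one]
        exact Fe.R.one
      · rw [hπ i j hij]
        exact g1 r i j hr hij ⟨hs.1, hs.2.1⟩ ⟨hs.2.2.1, hs.2.2.2⟩ a
    | one => rw [map_one]; exact Fe.R.one
    | mul a b _ _ iha ihb => rw [map_mul]; exact iha.mul ihb
    | inv a _ iha => rw [map_inv]; exact iha.inv

/-- Even `m`: `S0 = ⊤` (`closure_x`), `Sx = ⊤` (`gen_top`).  Odd `m`: `odd`; `emb` by `hom_ext'`,
`us_val`, `gg_us`, `zl_mem_Sx`; `act` by `hom_ext`, `gg_ea`, `gg_eb`, `std_ea`, `std_eb`. -/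
theorem Z0.ext (hp : Pa m φ) (h : Z0 ρ t y π) :
    ∃ π' : SL m F →* G, Ac π' t (std φ true) ∧ ∀ a : SU m φ, π' a = ρ a := by
  by_cases hm : ∃ o : Fin m, o.rev = o
  · obtain ⟨o, ho⟩ := hm
    obtain ⟨θ, hθ⟩ := hp.th
    obtain ⟨π', h1, h2⟩ := h.odd hp hθ ho
    have hx : ∀ g : SU m φ, g ∈ Sx m φ → π' g = ρ g := fun g hg =>
      (h1 ⟨g, Sx_le_S0 hp hg⟩).trans (h.emb hp hg)
    refine ⟨π', fun g => ?_, fun g => ?_⟩
    · have := hom_ext (f := (MulAut.conj t).toMonoidHom.comp π')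
        (g := π'.comp (std φ true : MulAut (SL m F)).toMonoidHom) (fun i j u hij => by
        obtain ⟨r, hr, hi, hj⟩ := Fe.exists_out hp i j
        obtain ⟨s, e1, e2⟩ := h2 r hr (x i j u) (x_mem ⟨hi.1, hi.2, hj.1, hj.2⟩ u)
        have k1 : Fe.R π (gg φ θ o r : SL m F) (ρ (gg φ θ o r)) (x j.rev i.rev (φ u))
            (π' (x j.rev i.rev (φ u))) :=
          h2 r hr _ (x_mem ⟨hj.rev.1, hj.rev.2, hi.rev.1, hi.rev.2⟩ (φ u))
        have k2 : Fe.R π (gg φ θ o r : SL m F) (ρ (gg φ θ o r)) (x j.rev i.rev (φ u))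
            (t * π' (x i j u) * t⁻¹) := by
          refine ⟨⟨std φ true s, std_mem_S0 s.2⟩, ?_, ?_⟩
          · have hg : std φ true (gg φ θ o r : SL m F) = gg φ θ o r := (gg φ θ o r).2
            rw [← Bas.std_x, e1, map_mul, map_mul, map_inv, hg]
          · rw [e2, ← h.act hp s]
            have c := h.tc (gg φ θ o r)
            calc t * (ρ (gg φ θ o r) * π s * (ρ (gg φ θ o r))⁻¹) * t⁻¹
                = (t * ρ (gg φ θ o r)) * π s * (t * ρ (gg φ θ o r))⁻¹ := by group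
              _ = _ := by rw [c.eq]; group
        change t * π' (x i j u) * t⁻¹ = π' (std φ true (x i j u))
        rw [Bas.std_x]
        exact k2.uq k1)
      exact DFunLike.congr_fun this g
    · have := hom_ext' hp (f := π'.comp (SU m φ).subtype) (g := ρ)
        (fun a b u hab => hx _ (xs_mem_Sx hab u)) (fun o' a c d ho' ha hd => by
        obtain rfl : o = o' := mid_unique ho ho'
        obtain ⟨r, har⟩ := Fe.exists_ind1 hp ha
        have hr := har.2.2.2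
        obtain ⟨e, -, he⟩ := gg_us hp hθ ho har hd
        have hw : xs φ a r c * xs φ a r.rev (φ θ * c) * zl φ a e ∈ Sx m φ :=
          mul_mem (mul_mem (xs_mem_Sx har c) (xs_mem_Sx har.rev_right _)) (zl_mem_Sx hp a e)
        have oa : Fe.Out r a := ⟨har.1, har.2.1⟩
        have oo : Fe.Out r o := Fe.out_mid hr ho.symm
        have k1 : Fe.R π (gg φ θ o r : SL m F) (ρ (gg φ θ o r)) (us φ o a c d)
            (π' (us φ o a c d)) := by
          refine h2 r hr _ ?_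
          rw [us_val hp ho ha hd]
          exact mul_mem (mul_mem (x_mem ⟨oa.1, oa.2, oo.1, oo.2⟩ _)
            (x_mem ⟨oo.1, oo.2, oa.rev.1, oa.rev.2⟩ _)) (x_mem ⟨oa.1, oa.2, oa.rev.1, oa.rev.2⟩ _)
        have k2 : Fe.R π (gg φ θ o r : SL m F) (ρ (gg φ θ o r)) (us φ o a c d)
            (ρ (us φ o a c d)) := by
          refine ⟨⟨_, Sx_le_S0 hp hw⟩, ?_, ?_⟩
          · rw [he]; rfl
          · rw [h.emb hp hw, he, map_mul, map_mul, map_inv]
        exact k1.uq k2)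
      exact DFunLike.congr_fun this g
  · have hm' : ∀ o : Fin m, o ≠ o.rev := fun o e => hm ⟨o, e.symm⟩
    have hall : ∀ g : SL m F, g ∈ S0 m F := by
      intro g
      have : (⊤ : Subgroup (SL m F)) ≤ S0 m F := by
        rw [← closure_x, closure_le]
        rintro _ ⟨i, j, a, rfl⟩
        exact x_mem_S0 (hm' i) (hm' j) a
      exact this (mem_top g)
    have hs : Sx m φ = ⊤ := gen_top hp le_rfl fun o _ _ _ ho => absurd ho.symm (hm' o)
    refine ⟨π.comp ((MonoidHom.id _).codRestrict (S0 m F) hall), fun g => h.act hp ⟨g, hall g⟩,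
      fun a => h.emb hp (g := a) (by rw [hs]; exact mem_top a)⟩

/-- `Sr.hom`, `ext`; `normal_SL`, `zl_ne_one` -/
theorem Co.fld (hp : Pa m φ) (h3 : St3 ρ t) (h : Co ρ t true y) : ∃ π, Fld ρ t π := by
  obtain ⟨π0, h0⟩ := (h.sr hp).hom hp
  obtain ⟨π, h1, h2⟩ := Z0.ext hp (⟨h, h0⟩ : Z0 ρ t y π0)
  refine ⟨π, h3, ?_, h1, h2⟩
  rcases normal_SL hp.three π.ker with hk | hk
  · exact hk
  · exfalso
    refine zl_ne_one hp (h.fr.eq_one (qs hp) (two_of_sq (zl_sq 0 1)) ?_)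
    rw [← h2, ← MonoidHom.mem_ker, hk]
    exact mem_top _

end CL.UM
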