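import Cfsg.Agent.INV.UM.Base

/-!
Components under the torus; the action of the Levi root elements.
-/

set_option autoImplicit false
set_option linter.unusedSectionVars false
set_option linter.unusedVariables false

namespace CL.UM

open Matrix Subgroup CL.SC
open scoped commutatorElement

variable {m : ℕ} [NeZero m] {F : Type*} [Field F] [Finite F] [CharP F 2] {φ : F ≃+* F}
variable {G : Type*} [Group G] [Finite G] {ρ : SU m φ →* G} {t : G}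

variable {W : Subgroup G} {i j p r : Fin m}

theorem HR.nm {T : Type*} [Group T] [Finite T] (hc : ∀ y ∈ W, ∀ y' ∈ W, Commute y y') (θ : T →* G)
    (hn : ∀ g, θ g ∈ normalizer (W : Set G)) : ∃ N : W →* G, (∀ y, N y ∈ W) ∧
      (∀ g (y y' : W), (y' : G) = θ g * y * (θ g)⁻¹ → N y' = N y) ∧ (∀ g y, Commute (θ g) (N y)) ∧
      ∀ (y : W) (P : G → ℕ → Prop), P 1 0 → (∀ g z n, P z n → P (θ g * y * (θ g)⁻¹ * z) (n + 1)) →
        P (N y) (Nat.card T) := by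
  classical
  let _ : CommGroup W := { (inferInstance : Group W) with mul_comm := fun a b => Subtype.ext (hc _ a.2 _ b.2) }
  have := Fintype.ofFinite T
  let c : T → W →* W := fun g => MonoidHom.mk' (fun y => ⟨θ g * y * (θ g)⁻¹, (mem_normalizer_iff.1 (hn g) _).1 y.2⟩)
    fun a b => Subtype.ext (by simp only [Subgroup.coe_mul]; group)
  have cm : ∀ g g' y, c g (c g' y) = c (g * g') y := fun g g' y => Subtype.ext (by
    change θ g * (θ g' * y * (θ g')⁻¹) * (θ g)⁻¹ = θ (g * g') * y * (θ (g * g'))⁻¹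
    rw [map_mul]; group)
  let N : W →* W := MonoidHom.mk' (fun y => ∏ g, c g y) fun a b => by simp only [map_mul, Finset.prod_mul_distrib]
  have hN : ∀ y, N y = ∏ g, c g y := fun _ => rfl
  refine ⟨W.subtype.comp N, fun y => (N y).2, fun g y y' e => ?_, fun g y => ?_, fun y P h0 h1 => ?_⟩
  · have : y' = c g y := Subtype.ext e
    refine congrArg Subtype.val ?_
    change N y' = N y
    rw [this, hN, hN]
    simp only [cm]
    exact Fintype.prod_equiv (Equiv.mulRight g) _ _ fun _ => rfl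
  · have : c g (N y) = N y := by
      rw [hN, map_prod]
      simp only [cm]
      exact Fintype.prod_equiv (Equiv.mulLeft g) _ _ fun _ => rfl
    exact mul_inv_eq_iff_eq_mul.1 (congrArg Subtype.val this)
  · have : ∀ s : Finset T, P ((∏ g ∈ s, c g y : W) : G) s.card := fun s => by
      induction s using Finset.induction_on with
      | empty => exact h0
      | insert g s hg ih =>
        rw [Finset.prod_insert hg, Finset.card_insert_of_notMem hg]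
        exact h1 g _ _ ih
    rw [Nat.card_eq_fintype_card]
    exact this Finset.univ

theorem HR.nH (hp : Pa m φ) {g : SU m φ} (hg : g ∈ H1 m φ) : g ∈ normalizer (AA m φ : Set (SU m φ)) := by
  obtain ⟨d, hd, rfl⟩ := (mem_H1 hp).1 hg
  exact (dh_norm hp hd.1).1

theorem HR.dH {d : Fin m → F} (hd : D1 φ d) : dh φ d ∈ H1 m φ := subset_closure ⟨d, hd, rfl⟩

theorem HR.invA {a : SU m φ} (ha : a ∈ AA m φ) : a⁻¹ = a := inv_eq_of_mul_eq_one_right (el_AA a ha)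

theorem HR.inj (hp : Pa m φ) (h : Ab ρ t W) {a b : SU m φ} (ha : a ∈ AA m φ) (hb : b ∈ AA m φ)
    (e : ρ a = ρ b) : a = b := h.toSt.injA hp (AA_le_UU ha) (AA_le_UU hb) e

/-- two elements of `W` with the same translation -/
theorem HR.same (h : Ab ρ t W) {y y' : G} (hy : y ∈ W) (hy' : y' ∈ W) {a : SU m φ} (h1 : Lm ρ t y a)
    (h2 : Lm ρ t y' a) : ∃ b ∈ AA m φ, y = y' * ρ b := by
  obtain ⟨b, hb, e⟩ := h.ker _ (mul_mem (inv_mem hy') hy) (Lm.commute (el_AA a h1.1 ▸ h2.inv.mul h1))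
  exact ⟨b, hb, by rw [e, mul_inv_cancel_left]⟩

theorem HR.add0 {η : F → F} (ha : ∀ u v, η (u + v) = η u + η v) {c : F} (hc : c ≠ 1)
    (h : ∀ u, η (c * u) = η u) (u : F) : η u = 0 := by
  have h1 : c + 1 ≠ 0 := fun e => hc (by rw [← CharTwo.neg_eq 1]; exact eq_neg_of_add_eq_zero_left e)
  rw [← mul_inv_cancel_left₀ h1 u, add_mul, ha, h, one_mul, CharTwo.add_self_eq_zero]

theorem HR.phi {d : Fin m → F} (hd : D1 φ d) (i : Fin m) : φ (d i) = (d i)⁻¹ :=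
  (eq_inv_of_mul_eq_one_right (hd.norm i))

/-- the product of the conjugates of `y` under `ρ(T)` -/
theorem Ab.avg (hp : Pa m φ) (h : Ab ρ t W) {T : Subgroup (SU m φ)} (hT : T ≤ H1 m φ) {a : SU m φ}
    (ha : a ∈ AA m φ) (hc : ∀ g ∈ T, Commute g a) :
    ∃ y ∈ W, Lm ρ t y a ∧ ∀ g ∈ T, Commute (ρ g) y := by
  obtain ⟨N, h1, -, h3, h4⟩ := HR.nm h.comm (ρ.comp T.subtype) fun g => h.norm hp (HR.nH hp (hT g.2))
  obtain ⟨y, hy, hl⟩ := h.sur a ha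
  refine ⟨N ⟨y, hy⟩, h1 _, ?_, fun g hg => h3 ⟨g, hg⟩ _⟩
  have := h4 ⟨y, hy⟩ (fun z n => Lm ρ t z (a ^ n)) (by rw [pow_zero]; exact lm_one) fun g z n hz => by
    have := (hl.conj h.toSt (HR.nH hp (hT g.2))).mul hz
    rwa [(hc g g.2).eq, mul_inv_cancel_right, ← pow_succ'] at this
  obtain ⟨k, hk⟩ := (H1_odd hp).of_dvd_nat (card_dvd_of_le hT)
  rwa [hk, pow_succ, pow_mul, pow_two, el_AA a ha, one_pow, one_mul] at this

theorem Ab.Xh_le (hp : Pa m φ) (h : Ab ρ t W) (a b : Fin m) : Xh ρ W a b ≤ W := commutator_le.2 fun c hc n ⟨g, hg, e⟩ => by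
  rw [commutatorElement_def, mul_assoc, mul_assoc, ← mul_assoc n, ← e]
  exact mul_mem hc.1 ((mem_normalizer_iff.1 (h.norm hp (HR.nH hp hg)) _).1 (inv_mem hc.1))

theorem Ab.Xh_cent (hp : Pa m φ) (h : Ab ρ t W) {a b : Fin m} {y : G} (hy : y ∈ Xh ρ W a b)
    {g : SU m φ} (hg : g ∈ H2 φ a b) : Commute (ρ g) y := by
  have : Xh ρ W a b ≤ centralizer {ρ g} := commutator_le.2 fun c hc n ⟨g', hg', e⟩ => by
    have h1 : c ∈ centralizer ({ρ g} : Set G) :=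
      mem_centralizer_singleton_iff.2 (mem_centralizer_iff.1 hc.2 _ (mem_map_of_mem ρ hg)).symm
    have h2 : n ∈ centralizer ({ρ g} : Set G) :=
      mem_centralizer_singleton_iff.2 (e ▸ ((H1_comm hp hg' (H2_le a b hg)).map ρ).eq)
    rw [commutatorElement_def]
    exact mul_mem (mul_mem (mul_mem h1 h2) (inv_mem h1)) (inv_mem h2)
  exact (mem_centralizer_singleton_iff.1 (this hy)).symm

theorem Xh_norm {n : G} {a b : Fin m} (h1 : n ∈ normalizer (W : Set G))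
    (h2 : ∀ g ∈ H1 m φ, Commute n (ρ g)) : n ∈ normalizer (Xh ρ W a b : Set G) := mem_norm_of_le fun y hy => by
  have : Xh ρ W a b ≤ (Xh ρ W a b).comap (MulAut.conj n).toMonoidHom := commutator_le.2 fun c hc k ⟨g, hg, e⟩ => by
    rw [mem_comap, map_commutatorElement]
    refine commutator_mem_commutator ⟨(mem_normalizer_iff.1 h1 _).1 hc.1, mem_centralizer_iff.2 ?_⟩ ⟨g, hg, ?_⟩
    · rintro _ ⟨g', hg', rfl⟩
      have e1 := (h2 g' (H2_le a b hg')).symm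
      have e2 : Commute (ρ g') c := mem_centralizer_iff.1 hc.2 _ (mem_map_of_mem ρ hg')
      exact (e1.mul_right e2).mul_right e1.inv_right
    · change ρ g = n * k * n⁻¹
      rw [← e, (h2 g hg).eq, mul_inv_cancel_right]
  exact this hy

theorem HR.Xn (hp : Pa m φ) (h : Ab ρ t W) (a b : Fin m) {d : Fin m → F} (hd : D1 φ d) :
    ρ (dh φ d) ∈ normalizer (Xh ρ W a b : Set G) :=
  Xh_norm (h.norm hp (HR.nH hp (HR.dH hd))) fun g hg => (H1_comm hp (HR.dH hd) hg).map ρ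

theorem HR.Xc (hp : Pa m φ) (h : Ab ρ t W) {d : Fin m → F} (hd : D1 φ d) (e : d i = d j) {y : G}
    (hy : y ∈ Xh ρ W i j.rev) : ρ (dh φ d) * y * (ρ (dh φ d))⁻¹ = y := by
  rw [(h.Xh_cent hp hy (g := dh φ d) (subset_closure ⟨d, hd, by rw [hd.2, e], rfl⟩)).eq, mul_inv_cancel_right]

theorem HR.xs_fix (hp : Pa m φ) (hi : Lo i) (hj : Lo j) (hij : i ≠ j) (u : F) :
    ∀ g ∈ H2 φ i j.rev, Commute g (xs φ i j.rev u) := fun g hg => by
  obtain ⟨d, hd, e, rfl⟩ := (mem_H2 hp).1 hg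
  have := dh_xs hp hd.1 (Ind.of_lo hi hj hij).2 u
  rw [e, mul_comm (d j.rev), mul_inv_cancel_right₀ (hd.1.ne _)] at this
  exact mul_inv_eq_iff_eq_mul.1 this

/-- a generator `[y, ρ η]` translates by `[a, η]`, `a` fixed by `H2 i j` (`fix_H2`, `en_dh`) -/
theorem Ab.Xh_lam (hp : Pa m φ) (h : Ab ρ t W) (hi : Lo i) (hj : Lo j) (hij : i ≠ j) {y : G}
    (hy : y ∈ Xh ρ W i j.rev) : ∃ u, Lm ρ t y (xs φ i j.rev u) := by
  have hI := (Ind.of_lo hi hj hij).2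
  let K : Subgroup G :=
    { carrier := {y | ∃ u, Lm ρ t y (xs φ i j.rev u)}
      one_mem' := ⟨0, by rw [xs_zero]; exact lm_one⟩
      mul_mem' := fun ⟨u, hu⟩ ⟨v, hv⟩ => ⟨u + v, by rw [xs_add hp hI]; exact hu.mul hv⟩
      inv_mem' := fun ⟨u, hu⟩ => ⟨u, hu.inv⟩ }
  refine (commutator_le.2 ?_ : Xh ρ W i j.rev ≤ K) hy
  rintro c hc _ ⟨g, hg, rfl⟩
  obtain ⟨a, ha⟩ := h.lam c hc.1
  have hf : ∀ g ∈ H2 φ i j, Commute g a := fun g hg => by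
    have h1 := ha.conj h.toSt (HR.nH hp (H2_le i j hg))
    rw [mem_centralizer_iff.1 hc.2 _ (mem_map_of_mem ρ (by rw [H2_rev]; exact hg)), mul_inv_cancel_right] at h1
    exact mul_inv_eq_iff_eq_mul.1 (h1.unique hp h.toSt ha)
  have h1 := ha.mul (ha.inv.conj h.toSt (HR.nH hp hg))
  obtain ⟨d, hd, rfl⟩ := (mem_H1 hp).1 hg
  obtain ⟨u, hu⟩ := (mem_Xs hp hI).1 ((mem_Xs_en hp hi hj hij).2 ⟨h1.1, fun r s hr hs h2 h3 => by
    rw [en_mul ha.1 ((mem_normalizer_iff.1 (HR.nH hp hg) _).1 ha.1) hr hs, en_dh hp hd.1]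
    by_cases e : r = s
    · rw [← e, mul_comm (d r), mul_assoc, hd.norm, mul_one, CharTwo.add_self_eq_zero]
    · rw [(fix_H2 hp hi hj hij ha.1).1 hf r s hr hs e h2 h3, mul_zero, zero_mul, add_zero]⟩)
  refine ⟨u, ?_⟩
  rw [← hu, commutatorElement_def, mul_assoc, mul_assoc, ← mul_assoc (ρ _)]
  exact h1

theorem HR.comm (hp : Pa m φ) (hi : Lo i) (hj : Lo j) (hij : i ≠ j) (u : F) :
    ∃ g ∈ H1 m φ, ∃ u', xs φ i j.rev u = ⁅g, xs φ i j.rev u'⁆ := by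
  obtain ⟨d, hd, hne, -⟩ := Wey.sep0' hp hi hj hij
  exact ⟨_, HR.dH hd, xs_eq_comm hp (Ind.of_lo hi hj hij).2 hd.1 (by rw [hd.2]; exact hne) u⟩

/-- `avg`, `xs_eq_comm` -/
theorem Ab.Xh_sur (hp : Pa m φ) (h : Ab ρ t W) (hi : Lo i) (hj : Lo j) (hij : i ≠ j) (u : F) :
    ∃ y ∈ Xh ρ W i j.rev, Lm ρ t y (xs φ i j.rev u) := by
  obtain ⟨g, hg, u', e⟩ := HR.comm hp hi hj hij u
  have ha := xs_mem_AA hp hi hj hij u'
  obtain ⟨c, hc, hl, hf⟩ := h.avg hp (H2_le i j.rev) ha (HR.xs_fix hp hi hj hij u')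
  refine ⟨⁅ρ g, c⁆, ?_, ?_⟩
  · rw [Xh, Subgroup.commutator_comm]
    refine commutator_mem_commutator (mem_map_of_mem ρ hg) ⟨hc, mem_centralizer_iff.2 ?_⟩
    rintro _ ⟨g', hg', rfl⟩
    exact hf g' hg'
  · rw [e, commutatorElement_def, commutatorElement_def, HR.invA ha]
    exact (hl.conj h.toSt (HR.nH hp hg)).mul hl.inv

theorem Ab.Xh_mem (hp : Pa m φ) (h : Ab ρ t W) (hi : Lo i) (hj : Lo j) (hij : i ≠ j) (u : F) :
    ρ (xs φ i j.rev u) ∈ Xh ρ W i j.rev := by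
  obtain ⟨g, hg, u', e⟩ := HR.comm hp hi hj hij u
  rw [e, map_commutatorElement, Xh, Subgroup.commutator_comm]
  refine commutator_mem_commutator (mem_map_of_mem ρ hg)
    ⟨h.le (mem_map_of_mem ρ (xs_mem_AA hp hi hj hij u')), mem_centralizer_iff.2 ?_⟩
  rintro _ ⟨g', hg', rfl⟩
  exact (HR.xs_fix hp hi hj hij u' g' hg').map ρ

/-- The map `N y = ∏_{η ∈ H1} ρ η y (ρ η)⁻¹` is an endomorphism of `W` killing `Xh`.  For `y = ρ a`,
`a` fixed by `H2 i j`, the diagonal entries of `N a` are those of `a` (`H1_odd`). -/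
theorem Ab.Xh_ker (hp : Pa m φ) (h : Ab ρ t W) (hi : Lo i) (hj : Lo j) (hij : i ≠ j) {a : SU m φ}
    (ha : a ∈ AA m φ) (hy : ρ a ∈ Xh ρ W i j.rev) : a ∈ Xs φ i j.rev := by
  obtain ⟨N, -, h2, -, h4⟩ := HR.nm h.comm (ρ.comp (H1 m φ).subtype) fun g => h.norm hp (HR.nH hp g.2)
  have hk : Xh ρ W i j.rev ≤ N.ker.map W.subtype := commutator_le.2 fun c hc n ⟨g, hg, e⟩ => by
    have hm : n * c⁻¹ * n⁻¹ ∈ W := e ▸ (mem_normalizer_iff.1 (h.norm hp (HR.nH hp hg)) _).1 (inv_mem hc.1)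
    refine ⟨⟨c, hc.1⟩ * ⟨_, hm⟩, ?_, (by group : c * (n * c⁻¹ * n⁻¹) = c * n * c⁻¹ * n⁻¹)⟩
    rw [SetLike.mem_coe, MonoidHom.mem_ker, map_mul, h2 ⟨g, hg⟩ ⟨c, hc.1⟩⁻¹ ⟨_, hm⟩ (by subst e; rfl), ← map_mul,
      mul_inv_cancel, map_one]
  obtain ⟨z, hz, e⟩ := hk hy
  have hn := fun g (hg : g ∈ H1 m φ) => (mem_normalizer_iff.1 (HR.nH hp hg) _).1 ha
  have hf : ∀ g ∈ H2 φ i j, Commute g a := fun g hg => by
    have h1 := h.Xh_cent hp hy (g := g) (by rw [H2_rev]; exact hg)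
    exact mul_inv_eq_iff_eq_mul.1 (HR.inj hp h (hn g (H2_le i j hg)) ha (by
      rw [map_mul, map_mul, map_inv, h1.eq, mul_inv_cancel_right]))
  refine (mem_Xs_en hp hi hj hij).2 ⟨ha, fun r s hr hs h5 h6 => ?_⟩
  by_cases e' : r = s
  · subst e'
    obtain ⟨b, hb, e1, e2⟩ := h4 z (fun z n => ∃ b ∈ AA m φ, z = ρ b ∧ en b r r = n * en a r r)
      ⟨1, one_mem _, (map_one ρ).symm, by rw [en_one hr hr, Nat.cast_zero, zero_mul]⟩ (by
        rintro g _ n ⟨b, hb, rfl, e2⟩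
        refine ⟨g * a * (g : SU m φ)⁻¹ * b, mul_mem (hn g g.2) hb, ?_, ?_⟩
        · rw [map_mul, map_mul, map_mul, map_inv, ← e]; rfl
        · obtain ⟨d, hd, e3⟩ := (mem_H1 hp).1 g.2
          rw [en_mul (hn g g.2) hb hr hr, e2, e3, en_dh hp hd.1, mul_comm (d r), mul_assoc, hd.norm]
          push_cast; ring)
    rw [(MonoidHom.mem_ker.1 hz), ← map_one ρ] at e1
    rw [← HR.inj hp h (one_mem _) hb e1, en_one hr hr] at e2
    obtain ⟨k, hk⟩ := H1_odd hp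
    rw [hk] at e2
    push_cast at e2
    rwa [CharTwo.two_eq_zero, zero_mul, zero_add, one_mul, eq_comm] at e2
  · exact (fix_H2 hp hi hj hij ha).1 hf r s hr hs e' h5 h6

/-- `y ↦ ρ η y (ρ η)⁻¹ y⁻¹` is an injective endomorphism of the finite abelian group `Xh` -/
theorem Ab.Xh_fpf (hp : Pa m φ) (h : Ab ρ t W) (hi : Lo i) (hj : Lo j) (hij : i ≠ j) {d : Fin m → F}
    (hd : D1 φ d) (hne : d i ≠ d j) {y : G} (hy : y ∈ Xh ρ W i j.rev) :
    ∃ y' ∈ Xh ρ W i j.rev, y = ρ (dh φ d) * y' * (ρ (dh φ d))⁻¹ * y'⁻¹ := by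
  have hI := (Ind.of_lo hi hj hij).2
  have hn := mem_normalizer_iff.1 (HR.Xn hp h i j.rev hd)
  have k : ∀ u v : F, dh φ d * xs φ i j.rev u * (dh φ d)⁻¹ = xs φ i j.rev u → u = 0 := fun u v e => by
    rw [dh_xs hp hd.1 hI, hd.2] at e
    have e1 := xs_inj hp hI e
    by_contra h0
    rw [mul_inv_eq_iff_eq_mul₀ (hd.1.ne _), mul_comm] at e1
    exact hne (mul_left_cancel₀ h0 e1)
  have fix : ∀ z ∈ Xh ρ W i j.rev, ρ (dh φ d) * z * (ρ (dh φ d))⁻¹ = z → z = 1 := fun z hz e => by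
    obtain ⟨u, hu⟩ := h.Xh_lam hp hi hj hij hz
    have h1 := hu.conj h.toSt (HR.nH hp (HR.dH hd))
    rw [e] at h1
    rw [k u u (h1.unique hp h.toSt hu), xs_zero] at hu
    obtain ⟨a, ha, rfl⟩ := h.ker z (h.Xh_le hp _ _ hz) hu.commute
    obtain ⟨v, rfl⟩ := (mem_Xs hp hI).1 (h.Xh_ker hp hi hj hij ha hz)
    rw [k v v (HR.inj hp h ((mem_normalizer_iff.1 (HR.nH hp (HR.dH hd)) _).1 ha) ha (by
      rw [map_mul, map_mul, map_inv, e])), xs_zero, map_one]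
  let f : Xh ρ W i j.rev → Xh ρ W i j.rev := fun z =>
    ⟨ρ (dh φ d) * z * (ρ (dh φ d))⁻¹ * (z : G)⁻¹, mul_mem ((hn _).1 z.2) (inv_mem z.2)⟩
  have hf : Function.Injective f := fun z z' e => by
    have e1 : ρ (dh φ d) * z * (ρ (dh φ d))⁻¹ * (z : G)⁻¹ = ρ (dh φ d) * z' * (ρ (dh φ d))⁻¹ * (z' : G)⁻¹ :=
      congrArg Subtype.val e
    have := fix _ (mul_mem (inv_mem z'.2) z.2) (by
      calc _ = (ρ (dh φ d) * z' * (ρ (dh φ d))⁻¹)⁻¹ * (ρ (dh φ d) * z * (ρ (dh φ d))⁻¹ * (z : G)⁻¹) * z := by group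
        _ = _ := by rw [e1]; group)
    exact Subtype.ext (inv_mul_eq_one.1 this).symm
  obtain ⟨z, hz⟩ := Finite.injective_iff_surjective.1 hf ⟨y, hy⟩
  exact ⟨z, z.2, (congrArg Subtype.val hz).symm⟩

/-- the weight lemma: `f` is additive on `X = Xh i j'` with `f (η y η⁻¹) = d r * f y * φ (d s)` for
the `d` in a set containing a separating element -/
theorem Ab.wt (hp : Pa m φ) (h : Ab ρ t W) (hi : Lo i) (hj : Lo j) (hij : i ≠ j) (f : G → F)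
    (hf : ∀ y ∈ Xh ρ W i j.rev, ∀ y' ∈ Xh ρ W i j.rev, f (y * y') = f y + f y') {d : Fin m → F}
    (hd : D1 φ d) {r s : Fin m}
    (he : ∀ y ∈ Xh ρ W i j.rev, f (ρ (dh φ d) * y * (ρ (dh φ d))⁻¹) = d r * f y * φ (d s))
    (hs : (d r = d s ∧ d i ≠ d j) ∨ (d i = d j ∧ d r ≠ d s)) : ∀ y ∈ Xh ρ W i j.rev, f y = 0 := fun y hy => by
  rcases hs with ⟨e, hne⟩ | ⟨e, hne⟩
  · have f1 : f 1 = 0 := by
      have := hf 1 (one_mem _) 1 (one_mem _)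
      rwa [one_mul, CharTwo.add_self_eq_zero] at this
    obtain ⟨z, hz, rfl⟩ := h.Xh_fpf hp hi hj hij hd hne hy
    rw [hf _ ((mem_normalizer_iff.1 (HR.Xn hp h i j.rev hd) _).1 hz) _ (inv_mem hz), he z hz, e, mul_comm (d s),
      mul_assoc, hd.norm, mul_one, ← hf _ hz _ (inv_mem hz), mul_inv_cancel, f1]
  · have := he y hy
    rw [HR.Xc hp h hd e hy, HR.phi hd, eq_mul_inv_iff_mul_eq₀ (hd.1.ne _), mul_comm] at this
    by_contra h0
    exact hne (mul_right_cancel₀ h0 this).symm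

/-- the commutators of the Levi root elements `xs p r u` with `X`, modulo `X'` -/
theorem HR.frame (hp : Pa m φ) (h : Ab ρ t W) {X X' : Subgroup G} (hX : X ≤ W) (hX' : X' ≤ W)
    (hq : Lo p) (hr : Lo r) (hpr : p ≠ r) (good : Fin m → Fin m → Prop)
    (hk : ∀ a ∈ AA m φ, ρ a ∈ X' → ∀ c e, Lo c → Lo e → good c e → en a c e = 0)
    (hd : ∀ d, D1 φ d → ρ (dh φ d) ∈ normalizer (X : Set G) ∧ ρ (dh φ d) ∈ normalizer (X' : Set G))
    (hn : ∀ u, ∀ z ∈ X', Commute (ρ (xs φ p r u)) z)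
    (hex : ∀ u, ∀ y ∈ X, ∃ a ∈ AA m φ, ∃ z ∈ X', ⁅ρ (xs φ p r u), y⁆ = z * ρ a) :
    ∃ Θ : F → G → SU m φ, (∀ u, ∀ y ∈ X, Θ u y ∈ AA m φ ∧ ∃ z ∈ X', ⁅ρ (xs φ p r u), y⁆ = z * ρ (Θ u y)) ∧
      ∀ c e, Lo c → Lo e → good c e →
        (∀ u, ∀ y ∈ X, ∀ y' ∈ X, en (Θ u (y * y')) c e = en (Θ u y) c e + en (Θ u y') c e) ∧
        (∀ u d, D1 φ d → ∀ y ∈ X, en (Θ (d p * u * (d r)⁻¹) (ρ (dh φ d) * y * (ρ (dh φ d))⁻¹)) c e =
          d c * en (Θ u y) c e * φ (d e)) ∧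
        ∀ u u', ∀ y ∈ X, en (Θ (u + u') y) c e =
          en (xs φ p r u * Θ u' y * (xs φ p r u)⁻¹) c e + en (Θ u y) c e := by
  classical
  choose! Θ h1 h2 using hex
  have hI := (Ind.of_lo hq hr hpr).1
  have hL := fun u => Lv_norm hp (xs_mem_Lv (φ := φ) hq hr hpr u)
  have hA : ∀ a ∈ AA m φ, ρ a ∈ W := fun a ha => h.le (mem_map_of_mem ρ ha)
  let R : G → SU m φ → Prop := fun y a => a ∈ AA m φ ∧ ∃ z ∈ X', y = z * ρ a
  have R0 : ∀ u, ∀ y ∈ X, R ⁅ρ (xs φ p r u), y⁆ (Θ u y) := fun u y hy => ⟨h1 u y hy, h2 u y hy⟩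
  have Rm : ∀ y a y' a', R y a → R y' a' → R (y * y') (a * a') := by
    rintro _ a _ a' ⟨ha, z, hz, rfl⟩ ⟨ha', z', hz', rfl⟩
    refine ⟨mul_mem ha ha', z * z', mul_mem hz hz', ?_⟩
    rw [map_mul, mul_assoc, ← mul_assoc (ρ a), (h.comm _ (hA a ha) _ (hX' hz')).eq]; group
  have Rc : ∀ l ∈ normalizer (AA m φ : Set (SU m φ)), (∀ z ∈ X', ρ l * z * (ρ l)⁻¹ ∈ X') → ∀ y a, R y a →
      R (ρ l * y * (ρ l)⁻¹) (l * a * l⁻¹) := by
    rintro l hl h3 _ a ⟨ha, z, hz, rfl⟩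
    exact ⟨(mem_normalizer_iff.1 hl _).1 ha, _, h3 z hz, by rw [map_mul, map_mul, map_inv]; group⟩
  refine ⟨Θ, R0, fun c e hc he hg => ?_⟩
  have Ru : ∀ y a a', R y a → R y a' → en a c e = en a' c e := by
    rintro _ a a' ⟨ha, z, hz, rfl⟩ ⟨ha', z', hz', e1⟩
    have := hk (a * a') (mul_mem ha ha') (by
      have : ρ (a * a') = z⁻¹ * z' := by
        rw [map_mul, eq_inv_mul_iff_mul_eq, ← mul_assoc, e1, mul_assoc, ← map_mul, el_AA a' ha', map_one, mul_one]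
      rw [this]; exact mul_mem (inv_mem hz) hz') c e hc he hg
    rwa [en_mul ha ha' hc he, CharTwo.add_eq_zero] at this
  refine ⟨fun u y hy y' hy' => ?_, fun u d hd' y hy => ?_, fun u u' y hy => ?_⟩
  · rw [← en_mul (h1 u y hy) (h1 u y' hy') hc he]
    refine Ru _ _ _ (R0 u _ (mul_mem hy hy')) ?_
    have e1 : ⁅ρ (xs φ p r u), y * y'⁆ = ⁅ρ (xs φ p r u), y⁆ * ⁅ρ (xs φ p r u), y'⁆ := by
      have h3 : ⁅ρ (xs φ p r u), y'⁆ ∈ W := by
        obtain ⟨z, hz, e2⟩ := h2 u y' hy'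
        rw [e2]; exact mul_mem (hX' hz) (hA _ (h1 u y' hy'))
      calc _ = ρ (xs φ p r u) * y * (ρ (xs φ p r u))⁻¹ * (⁅ρ (xs φ p r u), y'⁆ * y⁻¹) := by
            simp only [commutatorElement_def]; group
        _ = _ := by rw [(h.comm _ h3 _ (inv_mem (hX hy))).eq, ← mul_assoc, ← commutatorElement_def]
    rw [e1]
    exact Rm _ _ _ _ (R0 u y hy) (R0 u y' hy')
  · rw [← en_dh hp hd'.1]
    refine Ru _ _ _ (R0 _ _ ((mem_normalizer_iff.1 (hd d hd').1 _).1 hy)) ?_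
    rw [← dh_xs hp hd'.1 hI, map_mul, map_mul, map_inv, ← conjugate_commutatorElement]
    exact Rc _ (HR.nH hp (HR.dH hd')) (fun z hz => (mem_normalizer_iff.1 (hd d hd').2 _).1 hz) _ _ (R0 u y hy)
  · rw [← en_mul ((mem_normalizer_iff.1 (hL u) _).1 (h1 u' y hy)) (h1 u y hy) hc he]
    refine Ru _ _ _ (R0 _ _ hy) ?_
    have e1 : ⁅ρ (xs φ p r (u + u')), y⁆ =
        ρ (xs φ p r u) * ⁅ρ (xs φ p r u'), y⁆ * (ρ (xs φ p r u))⁻¹ * ⁅ρ (xs φ p r u), y⁆ := by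
      rw [xs_add hp hI, map_mul]; simp only [commutatorElement_def]; group
    rw [e1]
    exact Rm _ _ _ _ (Rc _ (hL u) (fun z hz => by rw [(hn u z hz).eq, mul_inv_cancel_right]; exact hz) _ _
      (R0 u' y hy)) (R0 u y hy)

theorem HR.frame0 (hp : Pa m φ) (h : Ab ρ t W) (hi : Lo i) (hj : Lo j) (hq : Lo p) (hr : Lo r)
    (hij : i ≠ j) (hpr : p ≠ r) (h1 : r ≠ i) (h2 : r ≠ j) :
    ∃ E : F → G → Fin m → Fin m → F,
      (∀ u, ∀ y ∈ Xh ρ W i j.rev, (∀ c e, Lo c → Lo e → E u y c e = 0) → Commute (ρ (xs φ p r u)) y) ∧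
      ∀ c e, Lo c → Lo e → (∀ u, ∀ y ∈ Xh ρ W i j.rev, φ (E u y c e) = E u y e c) ∧
        (∀ u d, D1 φ d → d p = d r → (d c = d e ∧ d i ≠ d j) ∨ (d i = d j ∧ d c ≠ d e) →
          ∀ y ∈ Xh ρ W i j.rev, E u y c e = 0) ∧
        (∀ u d, D1 φ d → d i = d j → ∀ y ∈ Xh ρ W i j.rev,
          E (d p * u * (d r)⁻¹) y c e = d c * E u y c e * φ (d e)) ∧
        ∀ u u', ∀ y ∈ Xh ρ W i j.rev, e ≠ p →
          E (u + u') y c e = E u' y c e + (if c = p then u * E u' y r e else 0) + E u y c e := by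
  obtain ⟨Θ, h3, h4⟩ := HR.frame hp h (X := Xh ρ W i j.rev) (X' := ⊥) (h.Xh_le hp _ _) bot_le hq hr hpr (fun _ _ => True)
    (fun a ha e c e' hc he _ => by rw [HR.inj hp h ha (one_mem _) ((mem_bot.1 e).trans (map_one ρ).symm), en_one hc he])
    (fun d hd => ⟨HR.Xn hp h _ _ hd, mem_norm_of_le fun y hy => by rw [mem_bot.1 hy, mul_one, mul_inv_cancel]; exact one_mem _⟩)
    (fun u z hz => by rw [mem_bot.1 hz]; exact Commute.one_right _)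
    (fun u y hy => by
      obtain ⟨v, hv⟩ := h.Xh_lam hp hi hj hij hy
      have hL := Lv_norm hp (xs_mem_Lv (φ := φ) hq hr hpr u)
      have h5 := hv.conj h.toSt hL
      rw [(xs_cmp hp (Ind.of_lo hq hr hpr).1 (Ind.of_lo hi hj hij).2
        ⟨hq.ne_rev hi, hq.ne_rev hj, h1, by rwa [Fin.rev_rev]⟩ u v).eq, mul_inv_cancel_right] at h5
      have hW := h.Xh_le hp _ _ hy
      obtain ⟨b, hb, e⟩ := HR.same h ((mem_normalizer_iff.1 (h.norm hp hL) _).1 hW) hW h5 hv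
      exact ⟨b, hb, 1, one_mem _, by
        rw [commutatorElement_def, e, (hv.2.1 b hb).eq, mul_inv_cancel_right, one_mul]⟩)
  refine ⟨fun u y c e => en (Θ u y) c e, fun u y hy h5 => ?_, fun c e hc he => ?_⟩
  · obtain ⟨ha, z, hz, e⟩ := h3 u y hy
    rw [mem_bot.1 hz, one_mul, AA_ext ha (one_mem _) fun c e hc he => (h5 c e hc he).trans (en_one hc he).symm,
      map_one] at e
    exact commutatorElement_eq_one_iff_commute.1 e
  obtain ⟨a1, a2, a3⟩ := h4 c e hc he trivial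
  refine ⟨fun u y hy => en_herm (h3 u y hy).1 hc he, fun u d hd e1 hs => ?_, fun u d hd e1 y hy => ?_,
    fun u u' y hy e1 => ?_⟩
  · refine h.wt hp hi hj hij (fun y => en (Θ u y) c e) (a1 u) hd (fun y hy => ?_) hs
    have := a2 u d hd y hy
    rwa [e1, mul_comm (d r), mul_inv_cancel_right₀ (hd.1.ne _)] at this
  · have := a2 u d hd y hy
    rwa [HR.Xc hp h hd e1 hy] at this
  · beta_reduce
    rw [a3 u u' y hy, en_xs_conj hp hq hr hpr u (h3 u' y hy).1 hc he, if_neg e1, if_neg fun k : c = p ∧ e = p => e1 k.2, add_zero,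
      add_zero]

theorem HR.ne1 {d : Fin m → F} (hd : D1 φ d) (h : d p ≠ d r) : d p * (d r)⁻¹ ≠ 1 := fun e =>
  h ((mul_inv_eq_one₀ (hd.1.ne _)).1 e)

/-- `n u = ρ (xs i r u)`, `[n u, y] = ρ (Θ u y)`, `Θ u y ∈ AA` (`ker`), additive in `y`.  Entries other
than `(i, j), (j, i), (r, j), (j, r)` vanish: `wt` with `sep4` for `i, r, j` (`d i = d r`, so `dh d`
commutes with `n u`).  `Θ (u + u') = Θ u' ^ (xs i r u) * Θ u`.  With `η' u = en (Θ u) r j`,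
`η u = en (Θ u) i j`: `η (u + u') = η u + η u' + u η' u'` (`en_xs_conj`), so `u η' u' = u' η' u`,
`η' u = u η' 1`.  Take `d i = d j ≠ d r` (`sep1`), which centralises `y`:
`η' (d i / d r * u) = d r / d j * η' u` gives `η' = 0`; `η` is additive and
`η (d i / d r * u) = η u`, so `η = 0`. -/
theorem Ab.hr1 (hp : Pa m φ) (h : Ab ρ t W) (hi : Lo i) (hj : Lo j) (hr : Lo r) (hij : i ≠ j)
    (h1 : r ≠ i) (h2 : r ≠ j) (u : F) {y : G} (hy : y ∈ Xh ρ W i j.rev) :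
    Commute (ρ (xs φ i r u)) y := by
  obtain ⟨E, a0, a1⟩ := HR.frame0 hp h hi hj hi hr hij h1.symm h1 h2
  obtain ⟨d, hd, e1, e2⟩ := sep1 hp (Wey.i3 hi hj hr hij h2.symm h1.symm)
  have b1 := fun u u' => (a1 i j hi hj).2.2.2 u u' y hy hij.symm
  simp only [if_true] at b1
  have b2 : ∀ u, E u y r j = u * E 1 y r j := fun u => by
    have e3 := b1 u 1
    rw [add_comm u, b1 1 u] at e3
    linear_combination e3
  have b3 : E 1 y r j = 0 := by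
    have e3 := (a1 r j hr hj).2.2.1 1 d hd e1 y hy
    rw [b2, HR.phi hd, e1] at e3
    by_contra h0
    have h3 := hd.1.ne j
    have h4 := hd.1.ne r
    have e4 : (d j + d r) ^ 2 = 0 := by
      rw [CharTwo.add_sq, CharTwo.add_eq_zero]
      field_simp at e3
      linear_combination e3
    exact e2 (CharTwo.add_eq_zero.1 (pow_eq_zero_iff two_ne_zero |>.1 e4))
  have b4 : ∀ u, E u y r j = 0 := fun u => by rw [b2, b3, mul_zero]
  have b5 : E u y i j = 0 := HR.add0 (η := fun u => E u y i j)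
    (fun u v => by simp only [b1, b4, mul_zero, add_zero, add_comm]) (HR.ne1 hd (e1 ▸ e2 : d i ≠ d r)) (fun u => by
      have := (a1 i j hi hj).2.2.1 u d hd e1 y hy
      rwa [mul_right_comm (d i) u, mul_right_comm (d i) (E u y i j), ← e1, hd.norm, one_mul] at this) u
  refine a0 u y hy fun c e hc he => ?_
  by_cases k1 : c = i ∧ e = j
  · rw [k1.1, k1.2, b5]
  by_cases k2 : c = j ∧ e = i
  · rw [k2.1, k2.2, ← (a1 i j hi hj).1 u y hy, b5, map_zero]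
  by_cases k3 : c = r ∧ e = j
  · rw [k3.1, k3.2, b4]
  by_cases k4 : c = j ∧ e = r
  · rw [k4.1, k4.2, ← (a1 r j hr hj).1 u y hy, b4, map_zero]
  obtain ⟨d', hd', e3, e4⟩ := sep4 hp hi hr hj hc he h1.symm hij h2 k1 k2 k3 k4
  exact (a1 c e hc he).2.1 u d' hd' e3 (by rw [e3]; exact e4) y hy

/-- `n u = ρ (xs p i u)`.  `[n u, y] = y'' ρ a` with `y'' ∈ Xh p j'` (`Xh_sur`), `a ∈ AA` unique modulo
`Xs p j'` (`Xh_ker`).  For `(r, s) ≠ (p, j), (j, p)` the entry `f u y = en a r s` is well defined,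
additive in `y`.  It vanishes by `wt`, `sep4` for `p, i, j` unless `(r, s) = (i, j)` or `(j, i)`.
There `f` is additive in `u` (`[n (u + u'), y] = n u [n u', y] (n u)⁻¹ [n u, y]`, `hr1`,
`en_xs_conj`) and `f (d p / d i * u) y = f u y` for `d i = d j ≠ d p`.  `mem_Xs_en`. -/
theorem Ab.hr2 (hp : Pa m φ) (h : Ab ρ t W) (hi : Lo i) (hj : Lo j) (hr : Lo p) (hij : i ≠ j)
    (h1 : p ≠ i) (h2 : p ≠ j) (u : F) {y : G} (hy : y ∈ Xh ρ W i j.rev) :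
    ⁅ρ (xs φ p i u), y⁆ ∈ Xh ρ W p j.rev := by
  have hI := (Ind.of_lo hr hj h2).2
  obtain ⟨Θ, h3, h4⟩ := HR.frame hp h (h.Xh_le hp i j.rev) (h.Xh_le hp p j.rev) hr hi h1
    (fun c e => ¬ (c = p ∧ e = j) ∧ ¬ (c = j ∧ e = p))
    (fun a ha e c e' hc he k => ((mem_Xs_en hp hr hj h2).1 (h.Xh_ker hp hr hj h2 ha e)).2 c e' hc he k.1 k.2)
    (fun d hd => ⟨HR.Xn hp h _ _ hd, HR.Xn hp h _ _ hd⟩)
    (fun u z hz => h.hr1 hp hr hj hi h2 h1.symm hij u hz)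
    (fun u y hy => by
      obtain ⟨v, hv⟩ := h.Xh_lam hp hi hj hij hy
      have hL := Lv_norm hp (xs_mem_Lv (φ := φ) hr hi h1 u)
      have h5 := (hv.conj h.toSt hL).mul hv.inv
      have e := xs_tri hp (a := p) (b := i) (c := j.rev) ⟨(Ind.of_lo hr hi h1).1, (Ind.of_lo hi hj hij).2, hI⟩ u v
      rw [commutatorElement_def, HR.invA hv.1] at e
      rw [e] at h5
      obtain ⟨z, hz, hl⟩ := h.Xh_sur hp hr hj h2 (u * v)
      have hW := h.Xh_le hp _ _ hy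
      obtain ⟨b, hb, e⟩ := HR.same h (mul_mem ((mem_normalizer_iff.1 (h.norm hp hL) _).1 hW) (inv_mem hW))
        (h.Xh_le hp _ _ hz) h5 hl
      exact ⟨b, hb, z, hz, e⟩)
  obtain ⟨d, hd, e1, e2⟩ := sep1 hp (Wey.i3 hi hj hr hij h2.symm h1.symm)
  obtain ⟨-, a2, a3⟩ := h4 i j hi hj ⟨fun k => h1 k.1.symm, fun k => hij k.1⟩
  have b5 : en (Θ u y) i j = 0 := HR.add0 (η := fun u => en (Θ u y) i j)
    (fun u v => by
      rw [a3 u v y hy, en_xs_conj hp hr hi h1 u (h3 v y hy).1 hi hj, if_neg h1.symm, if_neg h2.symm,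
        if_neg fun k => h1 k.1.symm, add_zero, add_zero, add_zero, add_comm])
    (HR.ne1 hd (e1 ▸ e2.symm : d p ≠ d i)) (fun u => by
      have := a2 u d hd y hy
      rwa [HR.Xc hp h hd e1 hy, mul_right_comm (d p) u, mul_right_comm (d i), ← e1, hd.norm, one_mul] at this) u
  obtain ⟨ha, z, hz, e⟩ := h3 u y hy
  obtain ⟨v, hv⟩ := (mem_Xs hp hI).1 ((mem_Xs_en hp hr hj h2).2 ⟨ha, fun c e hc he k1 k2 => by
    by_cases k3 : c = i ∧ e = j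
    · rw [k3.1, k3.2, b5]
    by_cases k4 : c = j ∧ e = i
    · rw [k4.1, k4.2, ← en_herm ha hi hj, b5, map_zero]
    obtain ⟨d', hd', e3, e4⟩ := sep4 hp hr hi hj hc he h1 h2 hij k1 k2 k3 k4
    obtain ⟨a1, a2, -⟩ := h4 c e hc he ⟨k1, k2⟩
    refine h.wt hp hi hj hij (fun y => en (Θ u y) c e) (a1 u) hd' (fun y hy => ?_) e4 y hy
    have := a2 u d' hd' y hy
    rwa [e3, mul_comm (d' i), mul_inv_cancel_right₀ (hd'.1.ne _)] at this⟩)
  rw [e, hv]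
  exact mul_mem hz (h.Xh_mem hp hr hj h2 v)

theorem Xh_symm (ρ : SU m φ →* G) (W : Subgroup G) (a b : Fin m) :
    Xh ρ W b.rev a.rev = Xh ρ W a b := by rw [Xh, Xh, H2_rev, H2_symm, H2_rev]

theorem HR.sep5 (hp : Pa m φ) (hi : Lo i) (hj : Lo j) (hq : Lo p) (hr : Lo r) (hij : i ≠ j) (hpr : p ≠ r)
    (h1 : r ≠ i) (h2 : r ≠ j) (h3 : p ≠ i) (h4 : p ≠ j) {c e : Fin m} (hc : Lo c) (he : Lo e)
    (k1 : ¬ (c = i ∧ e = j)) (k2 : ¬ (c = j ∧ e = i)) : ∃ d : Fin m → F, D1 φ d ∧ d p = d r ∧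
      ((d c = d e ∧ d i ≠ d j) ∨ (d i = d j ∧ d c ≠ d e)) := by
  by_cases k3 : c = e ∨ (c = p ∧ e = r) ∨ (c = r ∧ e = p)
  · obtain ⟨d, hd, e1, e2⟩ := Wey.sep0' hp hi hj hij
    have e3 : d p = d r := by rw [e2 p hq h3 h4, e2 r hr h1 h2]
    refine ⟨d, hd, e3, Or.inl ⟨?_, e1⟩⟩
    rcases k3 with k | k | k
    · rw [k]
    · rw [k.1, k.2, e3]
    · rw [k.1, k.2, e3]
  by_cases k4 : (c ≠ p ∧ c ≠ r ∧ c ≠ i ∧ c ≠ j) ∧ (e ≠ p ∧ e ≠ r ∧ e ≠ i ∧ e ≠ j)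
  · obtain ⟨d, hd, e1, e2⟩ := Wey.sep0' hp hc he fun k => k3 (Or.inl k)
    obtain ⟨⟨c1, c2, c3, c4⟩, c5, c6, c7, c8⟩ := k4
    exact ⟨d, hd, by rw [e2 p hq c1.symm c5.symm, e2 r hr c2.symm c6.symm],
      Or.inr ⟨by rw [e2 i hi c3.symm c7.symm, e2 j hj c4.symm c8.symm], e1⟩⟩
  obtain ⟨ω, w1, w2⟩ := hp.om
  have w0 : ω ≠ 0 := left_ne_zero_of_mul_eq_one w1
  have w3 : ω⁻¹ ≠ 1 := fun k => w2 (inv_eq_one.1 k)
  have w4 : ω ≠ ω⁻¹ := fun k => w2 (by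
    have : (ω + 1) ^ 2 = 0 := by rw [CharTwo.add_sq, sq, one_pow, CharTwo.add_eq_zero]; nth_rw 2 [k]; exact mul_inv_cancel₀ w0
    exact CharTwo.add_eq_zero.1 (pow_eq_zero_iff two_ne_zero |>.1 this))
  have I1 := (Ind.of_lo hq hi h3).1
  have I2 := (Ind.of_lo hr hj h2).1
  have o : ∀ {a b l : Fin m}, Lo a → Lo b → Lo l → l ≠ a → l ≠ b → hd φ a b ω l = 1 := fun ha hb hl e1 e2 =>
    Wey.hd_o e1 (hl.ne_rev ha) e2 (hl.ne_rev hb) ω
  have vp : (hd φ p i ω * hd φ r j ω) p = ω := by rw [Pi.mul_apply, Wey.hd_a, o hr hj hq hpr h4, mul_one]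
  have vr : (hd φ p i ω * hd φ r j ω) r = ω := by rw [Pi.mul_apply, Wey.hd_a, o hq hi hr hpr.symm h1, one_mul]
  have vi : (hd φ p i ω * hd φ r j ω) i = ω⁻¹ := by rw [Pi.mul_apply, Wey.hd_b I1, o hr hj hi h1.symm hij, mul_one]
  have vj : (hd φ p i ω * hd φ r j ω) j = ω⁻¹ := by
    rw [Pi.mul_apply, Wey.hd_b I2, o hq hi hj h4.symm hij.symm, one_mul]
  have v : ∀ l, Lo l → ((l = p ∨ l = r) ∧ (hd φ p i ω * hd φ r j ω) l = ω) ∨
      ((l = i ∨ l = j) ∧ (hd φ p i ω * hd φ r j ω) l = ω⁻¹) ∨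
      ((l ≠ p ∧ l ≠ r ∧ l ≠ i ∧ l ≠ j) ∧ (hd φ p i ω * hd φ r j ω) l = 1) := fun l hl => by
    by_cases c1 : l = p
    · exact Or.inl ⟨Or.inl c1, c1 ▸ vp⟩
    by_cases c2 : l = r
    · exact Or.inl ⟨Or.inr c2, c2 ▸ vr⟩
    by_cases c3 : l = i
    · exact Or.inr (Or.inl ⟨Or.inl c3, c3 ▸ vi⟩)
    by_cases c4 : l = j
    · exact Or.inr (Or.inl ⟨Or.inr c4, c4 ▸ vj⟩)
    exact Or.inr (Or.inr ⟨⟨c1, c2, c3, c4⟩, by rw [Pi.mul_apply, o hq hi hl c1 c3, o hr hj hl c2 c4, mul_one]⟩)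
  refine ⟨_, (d1_hd hp I1 w1).mul (d1_hd hp I2 w1), vp.trans vr.symm, Or.inr ⟨vi.trans vj.symm, ?_⟩⟩
  rcases v c hc with ⟨c1, c2⟩ | ⟨c1, c2⟩ | ⟨c1, c2⟩ <;> rcases v e he with ⟨c3, c4⟩ | ⟨c3, c4⟩ | ⟨c3, c4⟩ <;> rw [c2, c4]
  · exact fun _ => k3 (by rcases c1 with c1 | c1 <;> rcases c3 with c3 | c3 <;> simp only [c1, c3, true_or, or_true, and_self])
  · exact w4
  · exact w2
  · exact w4.symm
  · refine fun _ => ?_
    rcases c1 with c1 | c1 <;> rcases c3 with c3 | c3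
    · exact k3 (Or.inl (c1.trans c3.symm))
    · exact k1 ⟨c1, c3⟩
    · exact k2 ⟨c1, c3⟩
    · exact k3 (Or.inl (c1.trans c3.symm))
  · exact w3
  · exact w2.symm
  · exact w3.symm
  · exact fun _ => k4 ⟨c1, c3⟩

/-- `p = i`, `p = j`: `hr1`, `Xh_symm`.  Otherwise, as in `hr1`, `[n u, y] = ρ (Θ u y)` is additive in
`y` and equivariant for `d p = d r`.  An entry `(c, e)` other than `(i, j), (j, i)` vanishes by
`wt`: if `c = e` or `{c, e} = {p, r}` take `d = hd i j ω`; if `c, e ∉ {p, r, i, j}` take `hd c e ω`;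
otherwise `d = hd p i ω * hd r j ω` (`ω` at `p, r`, `ω⁻¹` at `i, j`, `1` elsewhere).  The entry
`(i, j)` is additive in `u` and invariant under `u ↦ ω ω u` (`d = hd p r ω` centralises `y`). -/
theorem Ab.hr0 (hp : Pa m φ) (h : Ab ρ t W) (hi : Lo i) (hj : Lo j) (hq : Lo p) (hr : Lo r)
    (hij : i ≠ j) (hpr : p ≠ r) (h1 : r ≠ i) (h2 : r ≠ j) (u : F) {y : G}
    (hy : y ∈ Xh ρ W i j.rev) : Commute (ρ (xs φ p r u)) y := by
  by_cases h3 : p = i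
  · exact h3 ▸ h.hr1 hp hi hj hr hij h1 h2 u hy
  by_cases h4 : p = j
  · rw [← Xh_symm, Fin.rev_rev] at hy
    exact h4 ▸ h.hr1 hp hj hi hr hij.symm h2 h1 u hy
  obtain ⟨E, a0, a1⟩ := HR.frame0 hp h hi hj hq hr hij hpr h1 h2
  obtain ⟨d, hd, e1, e2⟩ := Wey.sep0' hp hq hr hpr
  have e3 : d i = d j := by rw [e2 i hi (Ne.symm h3) h1.symm, e2 j hj (Ne.symm h4) h2.symm]
  have b5 : E u y i j = 0 := HR.add0 (η := fun u => E u y i j)
    (fun u v => by rw [(a1 i j hi hj).2.2.2 u v y hy (Ne.symm h4), if_neg (Ne.symm h3), add_zero, add_comm])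
    (HR.ne1 hd e1) (fun u => by
      have := (a1 i j hi hj).2.2.1 u d hd e3 y hy
      rwa [mul_right_comm (d p) u, mul_right_comm (d i) (E u y i j), ← e3, hd.norm, one_mul] at this) u
  refine a0 u y hy fun c e hc he => ?_
  by_cases k1 : c = i ∧ e = j
  · rw [k1.1, k1.2, b5]
  by_cases k2 : c = j ∧ e = i
  · rw [k2.1, k2.2, ← (a1 i j hi hj).1 u y hy, b5, map_zero]
  obtain ⟨d', hd', e3, e4⟩ := HR.sep5 hp hi hj hq hr hij hpr h1 h2 h3 h4 hc he k1 k2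
  exact (a1 c e hc he).2.1 u d' hd' e3 e4 y hy

/-- For `y ∈ Xh 1 2'` translating by `xs 1 2' 1` and `n = ρ (xs 0 1 1)`, `c = n y n⁻¹ y⁻¹ ∈ Xh 0 2'`
commutes with `n` (`hr2`, `hr1`); `n n = 1` gives `c c = 1`, and `c` translates by `xs 0 2' 1 ≠ 1`.
The set of `a` such that the elements translating by `a` are involutions is an `Lv`-invariant
group; `irr`. -/
theorem Ab.el (hp : Pa m φ) (h : Ab ρ t W) : El W := by
  obtain ⟨i, j, h0, hi, hj, ei, ej⟩ := exists_lo3 hp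
  have n1 : (0 : Fin m) ≠ i := fun e => by rw [← e, Fin.val_zero] at ei; omega
  have n2 : (0 : Fin m) ≠ j := fun e => by rw [← e, Fin.val_zero] at ej; omega
  have n3 : i ≠ j := fun e => by rw [e] at ei; omega
  have hI := (Ind.of_lo h0 hj n2).2
  let K : Subgroup (SU m φ) :=
    { carrier := {a | ∃ y ∈ W, Lm ρ t y a ∧ y * y = 1}
      one_mem' := ⟨1, one_mem _, lm_one, one_mul _⟩
      mul_mem' := fun ⟨y, hy, h1, h2⟩ ⟨z, hz, h3, h4⟩ => ⟨y * z, mul_mem hy hz, h1.mul h3, by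
        rw [mul_assoc, ← mul_assoc z, ← (h.comm y hy z hz).eq, mul_assoc, h4, mul_one, h2]⟩
      inv_mem' := fun ⟨y, hy, h1, h2⟩ => ⟨y, hy, by rwa [HR.invA h1.1], h2⟩ }
  have hK := (irr hp (K := K) (fun a ⟨y, _, h1, _⟩ => h1.1) fun l hl a ⟨y, hy, h1, h2⟩ =>
    ⟨_, (mem_normalizer_iff.1 (h.norm hp (Lv_norm hp hl)) _).1 hy, h1.conj h.toSt (Lv_norm hp hl), by
      rw [conj_mul, h2, mul_one, mul_inv_cancel]⟩).resolve_left fun e => by
    obtain ⟨y, hy, hl⟩ := h.Xh_sur hp hi hj n3 1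
    have c1 := h.hr2 hp hi hj h0 n3 n1 n2 1 hy
    have c2 := h.hr1 hp h0 hj hi n2 n1.symm n3 1 c1
    have c3 : ρ (xs φ 0 i 1) * ρ (xs φ 0 i 1) = 1 := by rw [← map_mul, xs_sq hp (Ind.of_lo h0 hi n1).1, map_one]
    have h5 := (hl.conj h.toSt (Lv_norm hp (xs_mem_Lv (φ := φ) h0 hi n1 1))).mul hl.inv
    have e1 := xs_tri hp (a := 0) (b := i) (c := j.rev) ⟨(Ind.of_lo h0 hi n1).1, (Ind.of_lo hi hj n3).2, hI⟩ 1 1
    rw [commutatorElement_def, HR.invA hl.1] at e1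
    rw [e1, ← commutatorElement_def] at h5
    have : xs φ 0 j.rev (1 * 1) ∈ K := ⟨_, h.Xh_le hp _ _ c1, h5, by
      calc _ = ρ (xs φ 0 i 1) * ⁅ρ (xs φ 0 i 1), y⁆ * (ρ (xs φ 0 i 1))⁻¹ * ⁅ρ (xs φ 0 i 1), y⁆ := by
            rw [c2.eq, mul_inv_cancel_right]
        _ = ⁅ρ (xs φ 0 i 1) * ρ (xs φ 0 i 1), y⁆ := by simp only [commutatorElement_def]; group
        _ = 1 := by rw [c3, commutatorElement_one_left]⟩
    rw [e, mem_bot, ← xs_zero 0 j.rev, one_mul] at this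
    exact one_ne_zero (xs_inj hp hI this)
  intro y hy
  obtain ⟨a, ha⟩ := h.lam y hy
  obtain ⟨z, hz, h1, h2⟩ : a ∈ K := hK ▸ ha.1
  obtain ⟨b, hb, rfl⟩ := HR.same h hy hz ha h1
  rw [mul_assoc, ← mul_assoc (ρ b), ← (h1.2.1 b hb).eq, mul_assoc, ← map_mul, el_AA b hb, map_one, mul_one, h2]

theorem HR.lm_eq (h : St ρ t) {y : G} {a : SU m φ} (hl : Lm ρ t y a) : y * t * y⁻¹ * t⁻¹ = ρ a := by
  rw [hl.2.2, (h.tc a).eq, mul_inv_cancel_right]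

theorem Ab.dbl (hp : Pa m φ) (h : Ab ρ t W) : Dbl t (Ar ρ) W := ⟨h.le, h.el hp, fun y hy => (h.lam y hy).elim fun a ha => HR.lm_eq h.toSt ha ▸ mem_map_of_mem ρ ha.1, h.ker,
    fun _ ⟨a, ha, e⟩ => (h.sur a ha).elim fun y hy => ⟨y, hy.1, e ▸ HR.lm_eq h.toSt hy.2⟩⟩

/-- `y ∈ B` has `Lm y a`.  By `max`, `y = p ρ g` (then `g g = 1`, `QW_inv`, `y ∈ W`) or `y = p t ρ g`,
and then `y y = 1` gives `a = g g = tv (nv g)`.  Let `y1 ∈ B` translate by `b` as in `exists_rk3`;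
`y1 ∈ W`; if `y ∉ W` then `y y1 ∉ W`. -/
theorem Ab.uq (hp : Pa m φ) (h : Ab ρ t W) {B : Subgroup G} (hB : Dbl t (Ar ρ) B) : B = W := by
  have l1 : ∀ y ∈ B, ∀ a ∈ AA m φ, y * t * y⁻¹ * t⁻¹ = ρ a → Lm ρ t y a := fun y hy a ha e =>
    ⟨ha, fun b hb => hB.sq.comm hy (hB.le (mem_map_of_mem ρ hb)), by
      rw [(h.tc a).eq, ← e, inv_mul_cancel_right]⟩
  have l2 : ∀ y ∈ B, ∀ a, Lm ρ t y a → y ∈ W ∨ ∃ v ∈ Wv m F, a = tv φ v := fun y hy a ha => by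
    have hs := hB.sq y hy
    obtain ⟨p, hpW, g, hg, e | e⟩ := h.max y a (two_of_sq hs) ha
    · left
      rw [e, mul_assoc, ← mul_assoc (ρ g), ← (h.cq p hpW g hg).eq, mul_assoc, ← mul_assoc, h.el hp p hpW, one_mul,
        ← map_mul, ← map_one ρ] at hs
      rw [e]
      exact mul_mem hpW (h.le (mem_map_of_mem ρ (QW_inv hp hg
        (h.toSt.injA hp (QW_le_UU (mul_mem hg hg)) (one_mem _) hs))))
    · right
      obtain ⟨a', ha'⟩ := h.lam p hpW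
      have e1 := (ha'.mul h.toSt.lm_t).mul (h.toSt.lm_QW hp hg)
      rw [← e, mul_one, mul_one] at e1
      refine ⟨nv g, nv_mem g, ?_⟩
      rw [ha.unique hp h.toSt e1, ← QW_sq hp hg, ← HR.invA ha'.1]
      refine inv_eq_of_mul_eq_one_right (h.toSt.injA hp (mul_mem (AA_le_UU ha'.1) (QW_le_UU (mul_mem hg hg)))
        (one_mem _) ?_)
      rw [map_mul, map_mul, map_one, ← HR.lm_eq h.toSt ha', inv_eq_of_mul_eq_one_right (h.el hp p hpW),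
        inv_eq_of_mul_eq_one_right h.toSt.tt, ← hs, e]
      have c : Commute (p * t) (ρ g) := (h.cq p hpW g hg).mul_left (h.tc g)
      rw [mul_assoc (p * t) (ρ g), ← mul_assoc (ρ g), ← c.eq]; group
  obtain ⟨b, hb, h3⟩ := exists_rk3 hp
  obtain ⟨y1, hy1, e1⟩ := hB.sur _ (mem_map_of_mem ρ hb)
  have m1 := l1 y1 hy1 b hb e1
  have w1 : y1 ∈ W := (l2 y1 hy1 b m1).resolve_right fun ⟨v, hv, e⟩ =>
    h3 0 (zero_mem _) v hv (by rw [tv_zero, mul_one, e])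
  have hle : B ≤ W := fun y hy => by
    obtain ⟨a, ha, e⟩ := hB.lam y hy
    have m2 := l1 y hy a ha e.symm
    refine (l2 y hy a m2).elim id fun ⟨v, hv, e2⟩ => ?_
    exact (mul_mem_cancel_left w1).1 ((l2 _ (mul_mem hy1 hy) _ (m1.mul m2)).resolve_right fun ⟨w, hw, e3⟩ =>
      h3 v hv w hw (by rw [← e2, e3]))
  exact eq_of_le_of_card_ge hle (by rw [card_dbl hB h.toSt.tA, card_dbl (h.dbl hp) h.toSt.tA])

theorem Ab.st3 (hp : Pa m φ) (h : Ab ρ t W) : St3 ρ t := by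
  have e : W = Hat t (Ar ρ) := le_antisymm (le_Hat (h.dbl hp)) (iSup₂_le fun B hB => (h.uq hp hB).le)
  exact { toAb := e ▸ h, dbl := e ▸ h.dbl hp, uq := fun B hB => (h.uq hp hB).trans e }

theorem Ab.Xh_dbl (hp : Pa m φ) (h : Ab ρ t W) (hi : Lo i) (hj : Lo j) (hij : i ≠ j) :
    Dbl t ((Xs φ i j.rev).map ρ) (Xh ρ W i j.rev) := by
  have hI := (Ind.of_lo hi hj hij).2
  refine ⟨?_, (h.el hp).mono (h.Xh_le hp _ _), fun y hy => ?_, fun y hy hc => ?_, ?_⟩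
  · rintro _ ⟨a, ha, rfl⟩
    obtain ⟨u, rfl⟩ := (mem_Xs hp hI).1 ha
    exact h.Xh_mem hp hi hj hij u
  · obtain ⟨u, hu⟩ := h.Xh_lam hp hi hj hij hy
    rw [HR.lm_eq h.toSt hu]
    exact mem_map_of_mem ρ ((mem_Xs hp hI).2 ⟨u, rfl⟩)
  · obtain ⟨a, ha, rfl⟩ := h.ker y (h.Xh_le hp _ _ hy) hc
    exact mem_map_of_mem ρ (h.Xh_ker hp hi hj hij ha hy)
  · rintro _ ⟨a, ha, rfl⟩
    obtain ⟨u, rfl⟩ := (mem_Xs hp hI).1 ha
    obtain ⟨y, hy, hl⟩ := h.Xh_sur hp hi hj hij u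
    exact ⟨y, hy, HR.lm_eq h.toSt hl⟩

end CL.UM
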