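import Cfsg.Agent.INV.UM.W1
import Cfsg.Agent.INV.SC.IC1
import Cfsg.Agent.INV.SC.IC2

/-!
The wreathed case: the normaliser of the product of the block groups; fusion (compare INV/SC/IC1, IC2; cm, cm_conj, odd_cent_of_small, fusion_of_weak are defined there).
-/

set_option autoImplicit false
set_option linter.unusedSectionVars false
set_option linter.unusedVariables false

namespace CL.UM

open Matrix Subgroup CL.SC
open scoped commutatorElement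

variable {m : ℕ} [NeZero m] {F : Type*} [Field F] [Finite F] [CharP F 2] {φ : F ≃+* F}
variable {G : Type*} [Group G] [Finite G] {ρ π : SU m φ →* G} {t : G} {S : Sylow 2 G}

namespace UI1

theorem tu2 (h : t * t = 1) (a : SU m φ) : t * tu t π a * t⁻¹ = π a :=
  DFunLike.congr_fun (tu_tu (π := π) h) a

theorem one_At {a : SU m φ} (ha : a ∈ AA m φ) : π a ∈ At t π := mem_sup_left ⟨a, ha, rfl⟩

theorem two_At {a : SU m φ} (ha : a ∈ AA m φ) : tu t π a ∈ At t π := mem_sup_right ⟨a, ha, rfl⟩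

theorem twoA {a : SU m φ} (ha : a ∈ AA m φ) : Two a := two_of_sq (el_AA a ha)

theorem im_one : im (1 : MulAut (SU m φ)) = {1} := by
  ext g
  exact ⟨by rintro ⟨a, -, rfl⟩; simp, fun e => ⟨1, one_mem _, by simpa using e⟩⟩

theorem im_le {α : MulAut (SU m φ)} (h : NA α) {g : SU m φ} (hg : g ∈ im α) : g ∈ AA m φ := by
  obtain ⟨a, ha, rfl⟩ := hg
  exact mul_mem (h a ha) (inv_mem ha)

theorem lt_qa (hp : Pa m φ) : qq F ^ (2 * (m / 2) - 2) < qa m F := by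
  refine Nat.pow_lt_pow_right hp.q2 ?_
  have := hp.k3
  generalize m / 2 = k at *
  have : 2 * k ≤ k * k := Nat.mul_le_mul_right k (by omega)
  omega

theorem zA (hp : Pa m φ) : zl φ 0 1 ∈ AA m φ := zl_mem_AA (Hm.lo0 hp) 1

theorem pu_A (hp : Pa m φ) (h : Wa ρ t π) {y : G} (hy : y ∈ At t π) :
    (y ∈ π.range → y ∈ Ar π) ∧ (y ∈ (tu t π).range → y ∈ Ar (tu t π)) :=
  ⟨h.pq_inf (qs hp) el_AA.pgroup hy, h.swap.pq_inf (qs hp) el_AA.pgroup (by rwa [pq_swap h.tt])⟩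

end UI1

open UI1


theorem Wa.t_At (h : Wa ρ t π) : t ∈ normalizer (At t π : Set G) := by
  refine mem_norm_of_le fun e he => ?_
  obtain ⟨a, ha, b, hb, rfl⟩ := h.mem_pq.1 he
  rw [h.t_conj]
  exact mul_mem (one_At hb) (two_At ha)

theorem Wa.norm_of (h : Wa ρ t π) {y : G} {α β : MulAut (SU m φ)} (h1 : Au π y α)
    (h2 : Au (tu t π) y β) (a1 : NA α) (a2 : NA β) : y ∈ normalizer (At t π : Set G) := by
  refine mem_norm_of_le fun e he => ?_
  obtain ⟨a, ha, b, hb, rfl⟩ := h.mem_pq.1 he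
  rw [← conj_mul, h1, h2]
  exact mul_mem (one_At (a1 a ha)) (two_At (a2 b hb))

theorem Wa.na (hp : Pa m φ) (h : Wa ρ t π) {y : G} (hn : y ∈ normalizer (At t π : Set G))
    {α : MulAut (SU m φ)} (h1 : Au π y α) : NA α := by
  intro a ha
  have k := h.pq_inf (qs hp) el_AA.pgroup ((mem_normalizer_iff.1 hn _).1 (one_At ha))
    ⟨_, (h1 a).symm⟩
  rw [h1] at k
  exact (h.frπ.mem_map (qs hp) el_AA.pgroup ((twoA ha).map α.toMonoidHom)).1 k

/-- an element exchanging the factors has at least `qa > q ^ (2 k - 2)` commutators -/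
theorem Wa.small_M0 (hp : Pa m φ) (h : Wa ρ t π) {y : G} (hM : y ∈ Mw t π)
    (hn : y ∈ normalizer (At t π : Set G)) (hc : (cm (At t π) y).ncard ≤ qq F ^ (2 * (m / 2) - 2)) :
    y ∈ M0 t π := by
  by_contra h0
  obtain ⟨α, -, a1, -⟩ := h.sw (qs hp) (lf hp) hM h0
  refine ((lt_qa hp).trans_le ((card_AA hp).ge.trans (Set.ncard_le_ncard_of_injOn
    (s := (AA m φ : Set (SU m φ))) (t := cm (At t π) y) (fun a => y * π a * y⁻¹ * (π a)⁻¹)
    (fun a ha => ⟨_, one_At ha, rfl⟩) (fun a ha b hb e => ?_) (Set.toFinite _)))).not_ge hc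
  simp only [a1, ← map_inv, ← (h.comm _ _).eq] at e
  exact inv_injective (h.inj (qs hp) (twoA ha).inv ((twoA ha).map α.toMonoidHom) (twoA hb).inv
    ((twoA hb).map α.toMonoidHom) e).1

theorem Wa.card_cm (hp : Pa m φ) (h : Wa ρ t π) {y : G} {α β : MulAut (SU m φ)} (h1 : Au π y α)
    (h2 : Au (tu t π) y β) (a1 : NA α) (a2 : NA β) :
    (cm (At t π) y).ncard = (im α).ncard * (im β).ncard := by
  rw [← Set.ncard_prod, ← (show Set.InjOn (fun p : SU m φ × SU m φ => π p.1 * tu t π p.2) (im α ×ˢ im β) from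
    fun p h1 q h2 e => Prod.ext_iff.2 (h.inj (qs hp) (twoA (im_le a1 h1.1)) (twoA (im_le a2 h1.2))
      (twoA (im_le a1 h2.1)) (twoA (im_le a2 h2.2)) e)).ncard_image]
  congr 1
  ext g
  constructor
  · rintro ⟨e, he, rfl⟩
    obtain ⟨a, ha, b, hb, rfl⟩ := h.mem_pq.1 he
    exact ⟨(_, _), ⟨⟨a, ha, rfl⟩, b, hb, rfl⟩, (h.com_eq h1 h2 a b).symm⟩
  · rintro ⟨⟨_, _⟩, ⟨⟨a, ha, rfl⟩, b, hb, rfl⟩, rfl⟩
    exact ⟨_, mul_mem (one_At ha) (two_At hb), (h.com_eq h1 h2 a b).symm⟩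

/-- as `I1.aux` -/
theorem Wa.aux (hp : Pa m φ) (h : Wa ρ t π) {y d : G} (hy : y * y = 1)
    (hn : y ∈ normalizer (At t π : Set G)) (hd : Odd (orderOf d))
    (hdn : d ∈ normalizer (At t π : Set G)) (hc : Commute d (d * y * d⁻¹ * t))
    (hi : y * d * y⁻¹ = d⁻¹) {α β : MulAut (SU m φ)} (h1 : Au π (d * y * d⁻¹) α)
    (h2 : Au (tu t π) (d * y * d⁻¹) β) (hβ : ∀ a ∈ AA m φ, β a = a) :
    cm (At t π) y ⊆ Ar π := by
  have a1 := h.na hp (mul_mem (mul_mem hdn hn) (inv_mem hdn)) h1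
  have k := odd_cent_of_small (E1 := Ar π) (E2 := Ar (tu t π))
    (h.el_pq el_AA el_AA) h.tt (I1.cj_sq hy d) (Ar_tu _ _).symm
    (mem_norm_of_le (by rintro _ ⟨a, ha, rfl⟩; exact ⟨_, a1 a ha, (h1 a).symm⟩))
    (by rintro _ ⟨a, ha, rfl⟩; exact h2.commute (hβ a ha)) hd hdn hc (by
      calc _ = d * (y * d * y⁻¹) * d⁻¹ := by group
        _ = _ := by rw [hi, mul_inv_cancel, one_mul])
  rintro _ ⟨e, he, rfl⟩
  have e1 := (k _ (mul_mem ((mem_normalizer_iff.1 hn e).1 he) (inv_mem he))).eq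
  have e2 := mul_inv_eq_iff_eq_mul.2 (k e he).eq
  have e3 : y * e * y⁻¹ * e⁻¹ = d * y * d⁻¹ * (d * e * d⁻¹) * (d * y * d⁻¹)⁻¹ * (d * e * d⁻¹)⁻¹ := by
    rw [eq_mul_inv_of_mul_eq e1.symm]; group
  obtain ⟨a, ha, b, hb, rfl⟩ := h.mem_pq.1 he
  rw [e3, e2, h.com_eq h1 h2, hβ b hb, mul_inv_cancel, map_one, mul_one]
  exact ⟨_, mul_mem (a1 a ha) (inv_mem ha), rfl⟩

/-- `exists_two` for `y, t` gives `d` and `y' = d y d⁻¹ ∈ M` (`UF.le`); `small_M0`, `card_cm`,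
`im_large`: `y'` centralises one of the two block groups; `aux` -/
theorem Ws.small (hp : Pa m φ) (h : Ws ρ t π S) {y : G} (h2 : y * y = 1)
    (hn : y ∈ normalizer (At t π : Set G)) (hc : (cm (At t π) y).ncard ≤ qq F ^ (2 * (m / 2) - 2)) :
    cm (At t π) y ⊆ Ar π ∨ cm (At t π) y ⊆ Ar (tu t π) := by
  have tt := h.tt
  obtain ⟨d, d1, d2, d3, d4, -, d5⟩ := exists_two h2 tt
  have dn := zpowers_le_of_mem (mul_mem hn h.wa.t_At) d1
  have yn' := mul_mem (mul_mem dn hn) (inv_mem dn)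
  have hc' : (cm (At t π) (d * y * d⁻¹)).ncard ≤ qq F ^ (2 * (m / 2) - 2) := by
    rwa [I1.card_conj dn]
  obtain ⟨α, β, a1, a2⟩ := h.wa.au (qs hp) (lf hp) (h.wa.small_M0 hp (h.uf.le d5 (subset_closure (by simp))
    (IsConj.refl t) h.wa.t_mem (subset_closure (by simp))) yn' hc')
  by_cases e2 : ∀ a ∈ AA m φ, β a = a
  · exact Or.inl (h.wa.aux hp h2 hn d2 dn d3 d4 a1 a2 e2)
  by_cases e1 : ∀ a ∈ AA m φ, α a = a
  · have := h.wa.swap.aux hp h2 (by rwa [At_swap tt]) d2 (by rwa [At_swap tt]) d3 d4 a2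
      (by rwa [tu_tu tt]) e1
    rw [At_swap tt] at this
    exact Or.inr this
  have n1 := h.wa.na hp yn' a1
  have n2 := h.wa.swap.na hp (by rwa [At_swap tt]) a2
  rw [h.wa.card_cm hp a1 a2 n1 n2] at hc'
  have p1 := (im_large hp n1 (a1.sq (qs hp) h.wa.frπ (I1.cj_sq h2 d)) e1).2
  have p2 := (im_large hp n2 (a2.sq (qs hp) h.wa.fr2 (I1.cj_sq h2 d)) e2).2
  exfalso
  rcases le_total (im α).ncard (im β).ncard with k | k
  · exact (p1.trans_le ((pow_two _).le.trans (Nat.mul_le_mul_left _ k))).not_ge hc'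
  · exact (p2.trans_le ((pow_two _).le.trans (Nat.mul_le_mul_right _ k))).not_ge hc'

theorem UI1.img (hp : Pa m φ) (h : Ws ρ t π S) {n : G} (hn : n ∈ normalizer (At t π : Set G))
    {y : SU m φ} (h2 : y * y = 1) (hy : y ∈ normalizer (AA m φ : Set (SU m φ)))
    (hc : (im (MulAut.conj y)).ncard ≤ qq F ^ (2 * (m / 2) - 2)) :
    (∀ g ∈ im (MulAut.conj y), n * π g * n⁻¹ ∈ Ar π) ∨
      ∀ g ∈ im (MulAut.conj y), n * π g * n⁻¹ ∈ Ar (tu t π) := by
  have a2 : Au (tu t π) (π y) 1 := (h.wa.au_one y).1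
  have n1 : NA (MulAut.conj y) := fun a ha => (mem_normalizer_iff.1 hy a).1 ha
  have hN := h.wa.norm_of (au_self π y) a2 n1 fun a ha => ha
  have k : ∀ g ∈ im (MulAut.conj y), n * π g * n⁻¹ ∈ cm (At t π) (n * π y * n⁻¹) := by
    rintro _ ⟨a, ha, rfl⟩
    rw [cm_conj hn]
    exact ⟨_, ⟨π a, one_At ha, by simp⟩, rfl⟩
  exact (h.small hp (I1.cj_sq (by rw [← map_mul, h2, map_one]) n) (mul_mem (mul_mem hn hN) (inv_mem hn))
    (by rwa [I1.card_conj hn, h.wa.card_cm hp (au_self π y) a2 n1 (fun a ha => ha), im_one,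
      Set.ncard_singleton, mul_one])).imp
    (fun e g hg => e (k g hg)) fun e g hg => e (k g hg)


/-- `small` for `n π(xs p r 1) n⁻¹` (`cm_conj`, `card_cm`, `im_xs`, `Lv_norm`); `im_conn` for the
preimages of the two block groups under `tu n π` -/
theorem Ws.perm1 (hp : Pa m φ) (h : Ws ρ t π S) {n : G} (hn : n ∈ normalizer (At t π : Set G)) :
    cj n (Ar π) = Ar π ∨ cj n (Ar π) = Ar (tu t π) := by
  have fin : ∀ π' : SU m φ →* G, Fu π' → AA m φ ≤ (Ar π').comap (tu n π) → cj n (Ar π) = Ar π' :=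
    fun π' f k => by
      refine eq_of_le_of_card_ge ?_ (by
        rw [card_cj, f.card_map (qs hp) el_AA.pgroup, h.wa.frπ.card_map (qs hp) el_AA.pgroup])
      rw [← Ar_tu]
      exact map_le_iff_le_comap.2 k
  refine (im_conn hp (fun a ha h1 h2 => (h.wa.frπ.tu n).eq_one (qs hp) (twoA ha)
    (h.wa.eq_one_of_both (qs hp) (map_le_range _ _ h1) (map_le_range _ _ h2)
      (by rw [← map_mul, el_AA a ha, map_one]))) fun p r h1 h2 hne => ?_).imp
    (fin π h.wa.frπ) (fin _ h.wa.fr2)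
  exact img hp h hn (xs_sq hp (Ind.of_lo h1 h2 hne).1 1) (Lv_norm hp (xs_mem_Lv h1 h2 hne 1))
    (im_xs hp h1 h2 hne 1)

/-- the elements permuting the two block groups -/
def Pm (t : G) (π : SU m φ →* G) (n : G) : Prop :=
  (cj n (Ar π) = Ar π ∧ cj n (Ar (tu t π)) = Ar (tu t π)) ∨
    (cj n (Ar π) = Ar (tu t π) ∧ cj n (Ar (tu t π)) = Ar π)

theorem Ws.perm (hp : Pa m φ) (h : Ws ρ t π S) {n : G} (hn : n ∈ normalizer (At t π : Set G)) :
    Pm t π n := by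
  have tt := h.tt
  have k := h.swap.perm1 hp (n := n) (by rwa [At_swap tt])
  rw [tu_tu tt] at k
  have ne : cj n (Ar π) ≠ cj n (Ar (tu t π)) := fun e =>
    h.wa.frπ.z1_ne hp (h.wa.eq_one_of_both (qs hp) ⟨_, rfl⟩ (map_le_range _ _
        ((cj_inj n e).le ⟨_, zA hp, rfl⟩)) (z1_sq π))
  rcases h.perm1 hp hn with e | e <;> rcases k with e' | e'
  · exact Or.inl ⟨e, e'⟩
  · exact absurd (e.trans e'.symm) ne
  · exact absurd (e.trans e'.symm) ne
  · exact Or.inr ⟨e, e'⟩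

/-- `k1`, `mem_UU`, `cj_AA_le` -/
theorem Ws.weak (hp : Pa m φ) (h : Ws ρ t π S) {g : G} (hg : cj g (At t π) ≤ S) :
    cj g (At t π) = At t π := by
  obtain ⟨s, s', e⟩ := h.wa.k1 hp (hg.trans h.le_M) ((h.wa.el_pq el_AA el_AA).map _) (by
    rw [card_cj, h.wa.card_pq (qs hp) el_AA.pgroup el_AA.pgroup, card_AA hp, pow_two])
  rw [e] at hg ⊢
  rw [cj_AA_le hp fun a ha =>
      h.mem_UU hp (two_of_sq (el_AA.map _ a ha)) (hg (mem_sup_left ⟨a, ha, rfl⟩)),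
    cj_AA_le hp fun a ha =>
      h.swap.mem_UU hp (two_of_sq (el_AA.map _ a ha)) (hg (mem_sup_right ⟨a, ha, rfl⟩))]

theorem Ws.pm_S (hp : Pa m φ) (h : Ws ρ t π S) {s : G} (hs : s ∈ S) : Pm t π s := by
  refine h.perm hp (cj_eq_iff.1 (h.weak hp ?_))
  rintro _ ⟨j, hj, rfl⟩
  exact mul_mem (mul_mem hs (h.At_le hj)) (inv_mem hs)

theorem Ws.fus (hp : Pa m φ) (h : Ws ρ t π S) {w w' : G} (hw : w ∈ At t π) (hw' : w' ∈ At t π)
    (hc : IsConj w w') : ∃ n, Pm t π n ∧ n * w * n⁻¹ = w' := by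
  obtain ⟨g, rfl⟩ := isConj_iff.1 hc
  obtain ⟨n, hn, e⟩ := fusion_of_weak S h.At_le (fun g => h.weak hp)
    (fun j hj => (h.wa.el_pq el_AA el_AA).comm hj hw) fun j hj => (h.wa.el_pq el_AA el_AA).comm hj hw'
  exact ⟨n, h.perm hp hn, e⟩

/-- pure involutions are not fused to other elements of `G0` -/
theorem Ws.ic2 (hp : Pa m φ) (h : Ws ρ t π S) {w w' : G} (hw : Pu t π w) (h2 : w * w = 1)
    (hw' : w' ∈ G0 t π) (hc : IsConj w w') : Pu t π w' := by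
  obtain ⟨g, g0, e⟩ := h.wa.conj_At hp hw.mem h2
  obtain ⟨g', g0', e'⟩ := h.wa.conj_At hp hw' (sq_of_conj hc h2)
  obtain ⟨n, hn, q⟩ := h.fus hp e e' (((isConj_iff.2 ⟨g, rfl⟩).symm.trans hc).trans (isConj_iff.2 ⟨g', rfl⟩))
  have k : Pu t π (g' * w' * g'⁻¹) := by
    rw [← q]
    rcases h.wa.pu_conj (qs hp) (lf hp) (M0_le (h.wa.G0_le g0)) hw with p | p <;> rcases hn with hn | hn
    · exact Or.inl (map_le_range _ _ (hn.1.le (cj_mem ((pu_A hp h.wa e).1 p))))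
    · exact Or.inr (map_le_range _ _ (hn.1.le (cj_mem ((pu_A hp h.wa e).1 p))))
    · exact Or.inr (map_le_range _ _ (hn.2.le (cj_mem ((pu_A hp h.wa e).2 p))))
    · exact Or.inl (map_le_range _ _ (hn.2.le (cj_mem ((pu_A hp h.wa e).2 p))))
  simpa [mul_assoc] using h.wa.pu_conj (qs hp) (lf hp) (inv_mem (M0_le (h.wa.G0_le g0'))) k

/-- conjugate `u` to `t`; `f5`, `ic2`, `pu_comm` -/
theorem Ws.z1' (hp : Pa m φ) (h : Ws ρ t π S) {y w u : G} (hy : Pu t π y) (h2 : y * y = 1)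
    (h1 : y ≠ 1) (hc : IsConj y w) (hu : IsConj t u) : ¬ Commute w u := by
  intro c
  obtain ⟨g, rfl⟩ := isConj_iff.1 hu
  have c1 : Commute (g⁻¹ * w * g⁻¹⁻¹) t := by simpa [mul_assoc] using c.map (MulAut.conj g⁻¹)
  have c2 := hc.trans (isConj_iff.2 ⟨g⁻¹, rfl⟩)
  exact ne_one_of_conj c2 h1 (h.wa.pu_comm (qs hp) (h.ic2 hp hy h2
    (h.f5 hp (IsConj.refl t) h.wa.t_mem c1 hy.mem h2 c2) c2) (sq_of_conj c2 h2) c1)

theorem Ws.z1 (hp : Pa m φ) (h : Ws ρ t π S) {w u : G} (hc : IsConj (π (zl φ 0 1)) w)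
    (hu : IsConj t u) : ¬ Commute w u := by
  exact h.z1' hp (Or.inl ⟨_, rfl⟩) (z1_sq π) (h.wa.frπ.z1_ne hp) hc hu

end CL.UM
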