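import Cfsg.Agent.INV.SC.IC3
import Cfsg.Agent.INV.UM.IC1
import Cfsg.Agent.INV.UM.Hm

/-!
The wreathed case: the class of the transvections of a factor (copy INV/SC/IC3).
-/

set_option autoImplicit false
set_option linter.unusedSectionVars false
set_option linter.unusedVariables false

namespace CL.UM

open Matrix Subgroup CL.SC
open scoped commutatorElement

variable {m : ℕ} [NeZero m] {F : Type*} [Field F] [Finite F] [CharP F 2] {φ : F ≃+* F}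
variable {G : Type*} [Group G] [Finite G] {ρ π : SU m φ →* G} {t : G} {S : Sylow 2 G}

/-- the elements normalising the first and centralising the second block group -/
def Kc (t : G) (π : SU m φ →* G) : Subgroup G :=
  normalizer (Ar π : Set G) ⊓ centralizer (Ar (tu t π) : Set G)

namespace UI3

theorem norm_Kc {n : G} (h1 : cj n (Ar π) = Ar π) (h2 : cj n (Ar (tu t π)) = Ar (tu t π)) :
    n ∈ normalizer (Kc t π : Set G) :=
  mem_norm_of_le fun _ hy => ⟨h1 ▸ I3.nrm hy.1 n, h2 ▸ I3.cen hy.2 n⟩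

theorem mem_Kc (h : Wa ρ t π) {s : SU m φ} (hs : s ∈ normalizer (AA m φ : Set (SU m φ))) :
    π s ∈ Kc t π :=
  ⟨norm_map hs, by rintro _ ⟨b, -, rfl⟩; exact (h.comm s b).symm⟩

theorem le_z1 (hp : Pa m φ) (h : Ws ρ t π S) :
    (S : Subgroup G) ⊓ M0 t π ≤ centralizer {π (zl φ 0 1)} := fun _ hs =>
  mem_centralizer_singleton_iff.2 (h.z1_comm hp hs.1 hs.2).1

end UI3

open UI1 UI3


/-- `κ · t κ t⁻¹` conjugates `ρ (zl 0 1)` to `ρ b`, which commutes with `t`; `f2`, `inj` -/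
theorem Ws.root_Kc (hp : Pa m φ) (h : Ws ρ t π S) {κ : G} (hκ : κ ∈ Kc t π) {b : SU m φ}
    (hb : b ∈ AA m φ) (hc : κ * π (zl φ 0 1) * κ⁻¹ = π b) : IsTv b := by
  have c1 : κ * tu t π b * κ⁻¹ = tu t π b := mul_inv_eq_iff_eq_mul.2 (hκ.2 _ ⟨b, hb, rfl⟩).symm
  have c2 : κ * tu t π (zl φ 0 1) * κ⁻¹ = tu t π (zl φ 0 1) :=
    mul_inv_eq_iff_eq_mul.2 (hκ.2 _ ⟨_, zA hp, rfl⟩).symm
  have e2 : t * (π (zl φ 0 1) * tu t π b) * t⁻¹ = κ * ρ (zl φ 0 1) * κ⁻¹ := by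
    rw [h.wa.t_conj, ← h.wa.diag, ← conj_mul, hc, c2]
  have e3 : κ * (π (zl φ 0 1) * tu t π b) * κ⁻¹ = ρ b := by rw [← conj_mul, hc, c1, h.wa.diag]
  obtain ⟨r, r', hr, hr', e⟩ := h.f2 hp (IsConj.refl t) h.wa.t_mem (h.wa.tc b).symm
    (((I3.cj κ _).trans (isConj_iff.2 ⟨t, e2⟩).symm).trans (isConj_iff.2 ⟨κ, e3⟩))
  rw [← h.wa.diag] at e
  exact (h.wa.inj (qs hp) (twoA hb) (twoA hb) (two_of_sq hr.sq) (two_of_sq hr'.sq) e).1 ▸ hr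

theorem Ws.odd_Kc (hp : Pa m φ) (h : Ws ρ t π S) :
    Odd (((S : Subgroup G) ⊓ Kc t π).relIndex (Kc t π)) := by
  set N0 := normalizer (Ar π : Set G) ⊓ normalizer (Ar (tu t π) : Set G)
  have h1 : (S : Subgroup G) ≤ normalizer (N0 : Set G) := fun s hs => mem_norm_of_le fun y hy => by
    rcases h.pm_S hp hs with ⟨e1, e2⟩ | ⟨e1, e2⟩
    exacts [⟨e1 ▸ I3.nrm hy.1 s, e2 ▸ I3.nrm hy.2 s⟩, ⟨e2 ▸ I3.nrm hy.2 s, e1 ▸ I3.nrm hy.1 s⟩]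
  have h2 : Kc t π ≤ N0 := inf_le_inf le_rfl (centralizer_le_normalizer _)
  have := odd_relIndex_inf inf_le_right (odd_relIndex_inf h1 (odd_relIndex_sylow S h1) le_normalizer le_rfl) h2
    fun n hn => norm_Kc (cj_eq_iff.2 hn.1) (cj_eq_iff.2 hn.2)
  rwa [inf_assoc, inf_eq_right.2 h2] at this

theorem Ws.odd_orbit (hp : Pa m φ) (h : Ws ρ t π S) :
    Odd {y | ∃ κ ∈ Kc t π, y = κ * π (zl φ 0 1) * κ⁻¹}.ncard := by
  rw [I3.orb]
  refine (h.odd_Kc hp).of_dvd_nat (relIndex_dvd_of_le_left _ fun s hs => mem_centralizer_singleton_iff.2 ?_)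
  have h1 := h.z_comm hp hs.1
  have h2 : Commute s (tu t π (zl φ 0 1)) := (hs.2.2 _ ⟨_, zA hp, rfl⟩).symm
  rw [← h.wa.diag] at h1
  simpa using (h1.mul_right h2.inv_right).eq

/-- as `Ws.root_A0`, with `UU_norm`, `cent_UU`, `exists_dh_zl`, `dh_norm` -/
theorem Ws.root_AA (hp : Pa m φ) (h : Ws ρ t π S) {a : SU m φ} (ha : a ∈ AA m φ)
    (hc : IsConj (π (zl φ 0 1)) (π a)) : IsTv a := by
  have a1 := ne_one_of_conj hc (h.wa.frπ.z1_ne hp)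
  obtain ⟨n, hn, e⟩ := h.fus hp (one_At (zA hp)) (one_At ha) hc
  obtain ⟨e1, e2⟩ := hn.resolve_right fun k => a1 (h.wa.eq_one_of_both (qs hp) ⟨a, rfl⟩
    (map_le_range _ _ (k.1.le (e ▸ cj_mem ⟨_, zA hp, rfl⟩))) (by rw [← map_mul, el_AA a ha, map_one]))
  have hK := norm_Kc e1 e2
  have hU : ∀ u ∈ UU m φ, π u ∈ Kc t π := fun u hu => mem_Kc h.wa (UU_norm hp hu)
  obtain ⟨_, ⟨κ, hκ, rfl⟩, hy⟩ := exists_fixed (pgroup_UU.map π) (O := {y | ∃ κ ∈ Kc t π, y = κ * π a * κ⁻¹}) (by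
    have := h.odd_orbit hp
    rw [← Set.ncard_image_of_injective _ (MulAut.conj n).injective] at this
    convert this using 2
    ext y
    refine ⟨fun ⟨κ, hκ, e3⟩ => ⟨_, ⟨_, (mem_normalizer_iff''.1 hK κ).1 hκ, rfl⟩, ?_⟩, ?_⟩
    · rw [e3, ← e, MulAut.conj_apply]; group
    · rintro ⟨_, ⟨κ, hκ, rfl⟩, rfl⟩
      exact ⟨_, (mem_normalizer_iff.1 hK κ).1 hκ, by rw [← e, MulAut.conj_apply]; group⟩) (by
    rintro _ ⟨u, hu, rfl⟩ _ ⟨κ, hκ, rfl⟩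
    exact ⟨_, mul_mem (hU u hu) hκ, by group⟩)
  obtain ⟨b, hb, e3⟩ := (mem_normalizer_iff.1 hκ.1 _).1 ⟨a, ha, rfl⟩
  obtain ⟨c, c0, rfl⟩ := cent_UU hp (twoA hb) fun u hu =>
    h.wa.frπ.commute (qs hp) (twoA hb) (e3 ▸ (hy _ ⟨u, hu, rfl⟩).symm)
  obtain ⟨d, hd, -, e4⟩ := exists_dh_zl hp c0 fun k => a1 (by
    rw [k, zl_zero, map_one] at e3
    exact conj_eq_one_iff.1 e3.symm)
  refine h.root_Kc hp (mul_mem (inv_mem hκ) (mem_Kc h.wa (dh_norm hp hd).1)) ha ?_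
  have e5 := congrArg π e4
  rw [e3, map_mul, map_mul, map_inv] at e5
  calc _ = κ⁻¹ * (π (dh φ d) * π (zl φ 0 1) * (π (dh φ d))⁻¹) * κ := by group
    _ = _ := by rw [e5]; group

theorem Ws.ic1 (hp : Pa m φ) (h : Ws ρ t π S) {w : G} (hw : w ∈ G0 t π)
    (hc : IsConj (π (zl φ 0 1)) w) : PuT t π w := by
  have k : ∀ a : SU m φ, a * a = 1 → IsConj (π (zl φ 0 1)) (π a) → IsTv a := fun a ha hc => by
    obtain ⟨g, hg⟩ := exists_conj_AA hp ha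
    have := isConj_iff.2 ⟨g, (rfl : g * a * g⁻¹ = _)⟩
    exact IsConj.trans (h.root_AA hp hg (hc.trans (π.map_isConj this))) this.symm
  have w2 := sq_of_conj hc (z1_sq π)
  rcases h.ic2 hp (Or.inl ⟨_, rfl⟩) (z1_sq π) hw hc with h1 | h1
  · obtain ⟨a, ha, rfl⟩ := h.wa.frπ.lift_inv (qs hp) h1 w2
    exact ⟨a, k a ha hc, Or.inl rfl⟩
  · obtain ⟨a, ha, rfl⟩ := h.wa.fr2.lift_inv (qs hp) h1 w2
    exact ⟨a, k a ha (hc.trans (I3.cj t _).symm), Or.inr rfl⟩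

/-- otherwise `C(z1)` contains a Sylow subgroup of `G` (`card_S`), so a conjugate of `t` -/
theorem Ws.odd_z1 (hp : Pa m φ) (h : Ws ρ t π S) :
    Odd (((S : Subgroup G) ⊓ M0 t π).relIndex (centralizer {π (zl φ 0 1)})) := by
  obtain ⟨T, h1, h2, h3, h4⟩ := exists_syl (S.isPGroup'.to_le inf_le_left) (le_z1 hp h)
  rw [← relIndex_mul_relIndex _ _ _ h2 h3]
  refine Odd.mul (Nat.not_even_iff_odd.1 fun h5 => ?_) h4
  obtain ⟨k, -, h6⟩ := conj_into S.isPGroup' le_top (odd_relIndex_sylow S le_top) h1 le_top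
  have h7 : cj k T = S := eq_of_le_of_card_ge h6 (by
    rw [card_cj, card_eq_rel h2, mul_comm]
    refine (h.card_S hp).le.trans (Nat.mul_le_mul_right _ (Nat.le_of_dvd (Nat.pos_of_ne_zero ?_) h5.two_dvd))
    exact index_ne_zero_of_finite)
  exact h.z1 hp (IsConj.refl _) (isConj_iff.2 ⟨k⁻¹, rfl⟩)
    (mem_centralizer_singleton_iff.1 (h3 (by simpa using mem_cj.1 (h7.ge h.tS)))).symm

theorem Ws.om (hp : Pa m φ) (h : Ws ρ t π S) {w : G} (hc : IsConj (π (zl φ 0 1)) w) {P : Subgroup G}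
    (hP : IsPGroup 2 P) (hw : ∀ p ∈ P, Commute p w) :
    ∃ g, g * w * g⁻¹ = π (zl φ 0 1) ∧ (∀ p ∈ P, g * p * g⁻¹ ∈ S ∧ g * p * g⁻¹ ∈ M0 t π) ∧
      ∀ p ∈ ⁅P, P⁆, g * p * g⁻¹ ∈ G0 t π := by
  obtain ⟨g, e⟩ := isConj_iff.1 hc.symm
  obtain ⟨k, hk, h1⟩ := conj_into (S.isPGroup'.to_le inf_le_left) (le_z1 hp h) (h.odd_z1 hp)
    (P := cj g P) (hP.map _) (by
      rintro _ ⟨p, hp, rfl⟩
      exact mem_centralizer_singleton_iff.2 (e ▸ commute_cj.2 (hw p hp)))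
  rw [← cj_mul'] at h1
  refine ⟨k * g, ?_, fun p hp => h1 (cj_mem hp), fun p hp' =>
    h.comm_le hp (commutator_mono h1 h1 ((map_commutator P P _).le (cj_mem hp')))⟩
  calc _ = k * (g * w * g⁻¹) * k⁻¹ := by group
    _ = _ := by rw [e, mem_centralizer_singleton_iff.1 hk, mul_inv_cancel_right]

/-- `ic2` for `v` and for `z1 ~ z1 · g v g⁻¹`; `not_pu'` -/
theorem Ws.clA (hp : Pa m φ) (h : Ws ρ t π S) {w g v : G} (hw : g * w * g⁻¹ = π (zl φ 0 1))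
    (hv : Pu t π v) (h2 : v * v = 1) (h1 : v ≠ 1) (h0 : g * v * g⁻¹ ∈ G0 t π)
    (hc : IsConj w (w * v)) : g * v * g⁻¹ ∈ π.range := by
  refine (h.ic2 hp hv h2 h0 (I3.cj g v)).resolve_right fun k => h.wa.not_pu' (qs hp) ⟨_, rfl⟩ (z1_sq π)
    (h.wa.frπ.z1_ne hp) k (sq_of_conj (I3.cj g v) h2) (ne_one_of_conj (I3.cj g v) h1)
    (h.ic2 hp (Or.inl ⟨_, rfl⟩) (z1_sq π) (mul_mem (one_G0 _) h0) ?_)
  rw [← hw, conj_mul]
  exact ((I3.cj g w).symm.trans hc).trans (I3.cj g _)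

theorem Ws.clB (hp : Pa m φ) (h : Ws ρ t π S) {g v w : G} (hv : v ∈ π.range) (hv2 : v * v = 1)
    (hv1 : v ≠ 1) (hw : w ∈ (tu t π).range) (hw2 : w * w = 1) (hw1 : w ≠ 1) :
    ¬ Pu t π (g * v * g⁻¹ * (g * w * g⁻¹)) := by
  intro k
  rw [conj_mul] at k
  refine h.wa.not_pu' (qs hp) hv hv2 hv1 hw hw2 hw1 (h.ic2 hp k (sq_of_conj (I3.cj g _) ?_)
    (mul_mem (mem_sup_left hv) (mem_sup_right hw)) (I3.cj g _).symm)
  rw [mul_assoc, ← mul_assoc w, ← (h.wa.comm' hv hw).eq, mul_assoc, hw2, mul_one, hv2]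

end CL.UM
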