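import Cfsg.Agent.INV.UM.Bas
import Cfsg.Agent.INV.UM.Fr
import Cfsg.Agent.INV.SC.Std2
import Cfsg.Agent.INV.SC.K6
import Cfsg.Agent.INV.SC.Lift
import Cfsg.Agent.S2692
import Cfsg.Agent.S2164
import Cfsg.Agent.S0780
import Cfsg.Agent.S2089
import Cfsg.Agent.CLAS.UniEig
import Cfsg.Agent.SIG.PQS

/-!
Comparison with the frozen model of `SU`.
-/

set_option autoImplicit false
set_option linter.unusedSectionVars false
set_option linter.unusedVariables false

namespace CL.UM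

open Matrix Subgroup CL.SC
open scoped commutatorElement

variable {m : ℕ} [NeZero m] {F : Type*} [Field F] [Finite F] [CharP F 2] {φ : F ≃+* F}

namespace Iso

theorem inn_mv (y : GL (Fin m) F) (a : SL m F) (u : Fin m → F) :
    ((inn y a : SL m F) : Matrix (Fin m) (Fin m) F) *ᵥ ((y : Matrix (Fin m) (Fin m) F) *ᵥ u) =
      (y : Matrix (Fin m) (Fin m) F) *ᵥ ((a : Matrix (Fin m) (Fin m) F) *ᵥ u) := by
  rw [inn_val, mulVec_mulVec, mulVec_mulVec, Matrix.mul_assoc, Units.inv_mul, Matrix.mul_one]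

theorem mv_inv (y : GL (Fin m) F) (u : Fin m → F) : (y : Matrix (Fin m) (Fin m) F) *ᵥ
    (((y⁻¹ : GL (Fin m) F) : Matrix (Fin m) (Fin m) F) *ᵥ u) = u := by
  rw [mulVec_mulVec, Units.mul_inv, one_mulVec]

theorem hF (hp : Pa m φ) [Fintype F] : Fintype.card F = qq F ^ 2 := Nat.card_eq_fintype_card.symm.trans hp.card

theorem n3 (hp : Pa m φ) {q : ℕ} : ¬ (m = 3 ∧ q = 2) := fun h => by have := hp.six; omega

theorem fld_inn (σ : F ≃+* F) (y : GL (Fin m) F) (a : SL m F) :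
    fld σ (inn y a) = inn (GeneralLinearGroup.map (σ : F →+* F) y) (fld σ a) :=
  Subtype.ext (by rw [fld_val, inn_val, inn_val, fld_val, map_mul, map_mul, ← map_inv]; rfl)

/-- conjugation by an isometry -/
def iu (hp : Pa m φ) {g : GL (Fin m) F} (h : GUm φ g) : MulAut (SU m φ) where
  toFun a := ⟨inn g a, h.inn_mem hp a⟩
  invFun a := ⟨inn g⁻¹ a, h.inv.inn_mem hp a⟩
  left_inv a := Subtype.ext (by change inn g⁻¹ (inn g (a : SL m F)) = a; rw [map_inv, MulAut.inv_apply_self])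
  right_inv a := Subtype.ext (by change inn g (inn g⁻¹ (a : SL m F)) = a; rw [map_inv, MulAut.apply_inv_self])
  map_mul' a b := Subtype.ext (map_mul (inn g) (a : SL m F) b)

end Iso

open Iso

/-- `herm_one` for the matrix `J` of `rev` gives `y` with `hf u v = hermForm (y u) (y v)`
(`Pa.pow`); conjugation by `y`. -/
theorem exists_iso (hp : Pa m φ) : ∃ (y : GL (Fin m) F) (e : SU m φ ≃* Cfsg.SU m F (qq F)),
    (∀ u v, hf φ u v = Cfsg.hermForm m F (qq F) ((y : Matrix (Fin m) (Fin m) F) *ᵥ u)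
      ((y : Matrix (Fin m) (Fin m) F) *ᵥ v)) ∧
    ∀ a : SU m φ, (e a : SL m F) = inn y (a : SL m F) := by
  obtain ⟨y, hy⟩ := herm_one hp.ne hp.sq (SA.J_map (m := m) φ) (by rw [SA.J_det]; exact one_ne_zero)
  have d : y.det ≠ 0 := fun e => by
    have := congrArg Matrix.det hy
    rw [det_mul, e, mul_zero, SA.J_det] at this
    exact zero_ne_one this
  have k : ∀ u v, hf φ u v = Cfsg.hermForm m F (qq F) (y *ᵥ u) (y *ᵥ v) := fun u v => by
    have : ∀ a b : Fin m → F, Cfsg.hermForm m F (qq F) a b = (φ ∘ b) ⬝ᵥ a := fun a b =>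
      Finset.sum_congr rfl fun i _ => by rw [← hp.pow, mul_comm]; rfl
    rw [this, show φ ∘ (y *ᵥ v) = y.map φ *ᵥ (φ ∘ v) from funext fun i => RingHom.map_mulVec (φ : F →+* F) y v i,
      ← vecMul_transpose, dotProduct_mulVec, vecMul_vecMul, hy, hf_eq]
    congr 1
    funext j
    simp [vecMul, dotProduct, SA.J_apply, ad]
  let Y := GeneralLinearGroup.mkOfDetNeZero y d
  have key : ∀ a : SL m F, inn Y a ∈ Cfsg.SU m F (qq F) ↔ a ∈ SU m φ := fun a => by
    refine Iff.trans ⟨fun h u v => ?_, fun h u v => ?_⟩ (mem_SU hp).symm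
    · rw [k, k u]
      exact (congrArg₂ _ (inn_mv Y a u) (inn_mv Y a v)).symm.trans (h _ _)
    · rw [← mv_inv Y u, ← mv_inv Y v]
      exact (congrArg₂ _ (inn_mv Y a _) (inn_mv Y a _)).trans ((k _ _).symm.trans ((h _ _).trans (k _ _)))
  refine ⟨Y, ((inn Y).subgroupMap _).trans (MulEquiv.subgroupCongr (Subgroup.ext fun a => ?_)), k, fun _ => rfl⟩
  obtain ⟨a, rfl⟩ := (inn Y).surjective a
  exact (mem_map_iff_mem (inn Y).injective).trans (key a).symm

/-- `CL.Uni.commutator_SU`, `card_center_SU`, `isSimpleGroup_PSU` (CLAS/UniGen) -/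
theorem qs (hp : Pa m φ) : Qs (SU m φ) := by
  have := Fintype.ofFinite F
  obtain ⟨-, e, -⟩ := exists_iso hp
  have := Uni.isSimpleGroup_PSU (hF hp) hp.three (n3 hp)
  have s := (Sp.quotientCenterCongr e).isSimpleGroup
  have p := Sp.commutator_eq_top_of_mulEquiv e.symm (Uni.commutator_SU (hF hp) hp.three (n3 hp))
  have : Group.IsPerfect (SU m φ) := ⟨p⟩
  refine ⟨p, ?_, fun N hN => ?_, fun h => ?_⟩
  · rw [Uni.card_center_congr e, Uni.card_center_SU (hF hp) (by have := hp.six; omega)]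
    obtain ⟨n, h, e⟩ := hp.qpow
    exact Odd.of_dvd_nat (Even.add_one (e ▸ (even_two.pow_of_ne_zero h.ne'))) (Nat.gcd_dvd_right _ _)
  · refine (s.eq_bot_or_eq_top_of_normal (N.map (QuotientGroup.mk' (center _)))
      (hN.map _ (QuotientGroup.mk'_surjective _))).imp (fun h => ?_) fun h => PComp.eq_top_of_sup_center ?_
    · rwa [Subgroup.map_eq_bot_iff, QuotientGroup.ker_mk'] at h
    · rw [← QuotientGroup.ker_mk' (center _), ← comap_map_eq, h, comap_top]
  · exact not_subsingleton _ (QuotientGroup.subsingleton_iff.2 h)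

/-- the `have h` in the proof of S2089, `CL.Schur.hasSchurMultiplier_congr_left` -/
theorem mult_one (hp : Pa m φ) : Cfsg.HasCyclicSchurMultiplier (SU m φ) 1 := by
  have := Fintype.ofFinite F
  obtain ⟨-, e, -⟩ := exists_iso hp
  refine CL.Schur.hasSchurMultiplier_congr_left ?_ e.symm
  have hF := hF hp
  have h2 := hp.q2
  have h6 := hp.six
  have h7 : m = 6 → qq F ≠ 2 := fun a b => hp.ex ⟨a, by rw [hp.card, b]; rfl⟩
  generalize qq F = q at *
  by_cases h4 : 4 ≤ q
  · exact CL.SUMult.trivial_of_three hF h4 hp.three (CL.SUMult.trivial_three hF (by omega))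
  obtain rfl | rfl : q = 2 ∨ q = 3 := by omega
  · have e : CL.F4 ≃+* F := FiniteField.ringEquivOfCardEq (by rw [hF, CL.F4.card_eq]; rfl)
    exact CL.SUMult.trivial_of_five hF (.inr (by omega))
      (CL.Schur.hasSchurMultiplier_congr_left CL.SUMult.Five2.main (CL.Uni.suCongr e 5 2))
  · have e : CL.F24.F9 ≃+* F := FiniteField.ringEquivOfCardEq (by rw [hF, CL.F24.card_F9])
    exact CL.SUMult.trivial_of_five hF (.inl ⟨le_rfl, by omega⟩)
      (CL.Schur.hasSchurMultiplier_congr_left CL.SUMult.Five3.main (CL.Uni.suCongr e 5 3))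

/-- `CL.Uni.card_SU_succ` (CLAS/UniEig): the other factors are odd -/
theorem card_SU (hp : Pa m φ) :
    ∃ r, Odd r ∧ Nat.card (SU m φ) = qq F ^ (m * (m - 1) / 2) * r := by
  have := Fintype.ofFinite F
  obtain ⟨-, e, -⟩ := exists_iso hp
  obtain ⟨k, rfl⟩ := Nat.exists_eq_add_of_le' (show 1 ≤ m by have := hp.six; omega)
  refine ⟨_, ?_, (Nat.card_congr e.toEquiv).trans (Uni.card_SU_succ (hF hp) k)⟩
  obtain ⟨n, h, e⟩ := hp.qpow
  refine Finset.prod_induction _ Odd (fun _ _ => Odd.mul) odd_one fun i _ => ?_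
  have : Even (qq F ^ (i + 2)) := (e ▸ even_two.pow_of_ne_zero h.ne' : Even (qq F)).pow_of_ne_zero (by omega)
  split_ifs
  exacts [this.add_one, Nat.Even.sub_odd (Nat.one_le_pow _ _ (by have := hp.q2; omega)) this odd_one]

/-- S2164 -/
theorem isConj_of_SL (hp : Pa m φ) {a b : SU m φ} (ha : a * a = 1) (hb : b * b = 1)
    (h : IsConj (a : SL m F) (b : SL m F)) : IsConj a b := by
  have := Fintype.ofFinite F
  have := Fact.mk Nat.prime_two
  obtain ⟨y, e, -, he⟩ := exists_iso hp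
  by_cases a1 : a = 1
  · rw [a1] at h ⊢
    rw [show b = 1 from Subtype.ext (isConj_one_right.1 h)]
  have b1 : b ≠ 1 := fun c => a1 (Subtype.ext (isConj_one_left.1 (c ▸ h :)))
  have o : ∀ a : SU m φ, a * a = 1 → a ≠ 1 → orderOf (e a) = 2 := fun a h h' =>
    (e.orderOf_eq a).trans (orderOf_eq_prime (by rw [sq, h]) h')
  simpa using e.symm.toMonoidHom.map_isConj ((Cfsg.Agent.S2164.result (hF hp) hp.three _ _ (o a ha a1)
    (o b hb b1)).1.2 (by rw [he, he]; exact (inn y).toMonoidHom.map_isConj h))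

/-- S0780; `c • v (ad v)` unitary forces `φ c = c` or `v = 0`, and `c = s * φ s` -/
theorem closure_tv (hp : Pa m φ) :
    closure {a : SU m φ | ∃ v, hf φ v v = 0 ∧ a = tv φ v} = ⊤ := by
  have := Fintype.ofFinite F
  obtain ⟨y, e, hy, he⟩ := exists_iso hp
  refine eq_top_iff.2 fun a _ => ?_
  have h := (Cfsg.Agent.S0780.result (hF hp) m hp.three (n3 hp)).ge (mem_top (e a))
  rw [← e.symm_apply_apply a]
  refine mem_comap.1 ((closure_le (K := Subgroup.comap e.symm.toMonoidHom _)).2 ?_ h)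
  rintro A ⟨v, c, h1, h2⟩
  obtain ⟨a, rfl⟩ := e.surjective A
  obtain ⟨w, rfl⟩ : ∃ w, (y : Matrix (Fin m) (Fin m) F) *ᵥ w = v := ⟨_, mv_inv y v⟩
  rw [← hy] at h1
  have h3 : ∀ u, ((a : SL m F) : Matrix (Fin m) (Fin m) F) *ᵥ u = u + (c * hf φ u w) • w := fun u => by
    have := inn_mv y a u
    rw [← he, h2, Cfsg.unitaryTransvection, add_mulVec, one_mulVec, smul_mulVec, vecMulVec_mulVec,
      op_smul_eq_smul, dotProduct_comm, show _ ⬝ᵥ _ = hf φ u w from (hy u w).symm, smul_smul, ← mulVec_smul,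
      ← mulVec_add] at this
    exact (mv_inv y⁻¹ _).symm.trans ((congrArg (((y⁻¹ : GL (Fin m) F) : Matrix (Fin m) (Fin m) F) *ᵥ ·)
      this.symm).trans (mv_inv y⁻¹ _))
  obtain ⟨s, hs⟩ : ∃ s, w = 0 ∨ s * φ s = c := by
    obtain ⟨s, rfl⟩ := surjective_frobenius F 2 c
    refine ⟨s, or_iff_not_imp_left.2 fun n => ?_⟩
    obtain ⟨i, n⟩ := Function.ne_iff.1 n
    have u0 : hf φ (Pi.single i.rev 1) w ≠ 0 := by simpa [hf_single_left] using n
    generalize (Pi.single i.rev 1 : Fin m → F) = u at u0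
    have := (mem_SU hp).1 a.2 u u
    rw [h3, hf_add_left, hf_add_right, hf_add_right, hf_smul_left, hf_smul_left, hf_smul_right, hf_smul_right, h1,
      ← hf_conj hp u w, map_mul, frobenius_def, map_pow] at this
    have e : (φ s) ^ 2 = s ^ 2 := CharTwo.add_eq_zero.1 ((mul_eq_zero.1 (show (φ s ^ 2 + s ^ 2) *
      (hf φ u w * φ (hf φ u w)) = 0 by linear_combination this)).resolve_right (by simpa using u0))
    rw [frobenius_inj F 2 (show frobenius F 2 (φ s) = frobenius F 2 s from e), frobenius_def, sq]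
  have h4 : hf φ (s • w) (s • w) = 0 := by rw [hf_smul_left, hf_smul_right, h1, mul_zero, mul_zero]
  refine subset_closure ⟨s • w, h4, (e.symm_apply_apply a).trans (Subtype.ext (Subtype.ext
    (Matrix.ext_iff_mulVec.2 fun u => ?_)))⟩
  rw [h3, tv_val hp h4, add_mulVec, one_mulVec, vecMulVec_mulVec, op_smul_eq_smul, ← hf_eq, hf_smul_right,
    smul_smul]
  rcases hs with rfl | rfl
  · simp
  · congr 2; ring

/-- S2692.  With `y` as in `exists_iso`, `y⁻¹ g (σ y)` is an isometry of `hf`. -/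
theorem exists_lift (hp : Pa m φ) (β : MulAut (SU m φ ⧸ center (SU m φ))) :
    ∃ (α : MulAut (SU m φ)) (σ : F ≃+* F), Ty α σ ∧
      ∀ a : SU m φ, β (a : SU m φ ⧸ center (SU m φ)) = (α a : SU m φ) := by
  have := Fintype.ofFinite F
  have := Fact.mk Nat.prime_two
  obtain ⟨y, e, hy, he⟩ := exists_iso hp
  obtain ⟨n, h0, hq⟩ := hp.qpow
  let c := Sp.quotientCenterCongr e
  obtain ⟨δ, ψ, σ, ⟨g, hg, h1⟩, h2, h3⟩ := Cfsg.Agent.S2692.result hq h0 (hF hp) hp.three (n3 hp)
    (c.symm.trans (β.trans c))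
  let z := GeneralLinearGroup.map (σ : F →+* F) y
  have g1 : GUm φ (y⁻¹ * z) := fun u v => by
    obtain ⟨u, rfl⟩ : ∃ u', σ ∘ u' = u := ⟨σ.symm ∘ u, funext fun _ => σ.apply_symm_apply _⟩
    obtain ⟨v, rfl⟩ : ∃ u', σ ∘ u' = v := ⟨σ.symm ∘ v, funext fun _ => σ.apply_symm_apply _⟩
    have k : ∀ u, (z : Matrix (Fin m) (Fin m) F) *ᵥ (σ ∘ u) = σ ∘ ((y : Matrix (Fin m) (Fin m) F) *ᵥ u) :=
      fun u => funext fun i => (RingHom.map_mulVec (σ : F →+* F) y.1 u i).symm
    rw [hy, Units.val_mul, ← mulVec_mulVec, ← mulVec_mulVec, mv_inv, mv_inv, k, k,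
      show hf φ (σ ∘ u) (σ ∘ v) = σ (hf φ u v) by simp [hf, hp.pow], hy]
    simp [Cfsg.hermForm]
  have g2 : GUm φ (y⁻¹ * g * y) := fun u v => by
    simp only [hy, Units.val_mul, ← mulVec_mulVec, mv_inv]
    exact hg _ _
  refine ⟨iu hp g2 * iu hp g1 * fs φ σ, σ, ⟨_, g2.mul g1, fun a => by rw [map_mul]; rfl⟩,
    fun a => c.injective ?_⟩
  have := DFunLike.congr_fun h3 (QuotientGroup.mk (e a))
  rw [MulAut.mul_apply, h2 _ (e (iu hp g1 (fs φ σ a))) (by
    rw [he, he]
    change (inn y (inn (y⁻¹ * z) (fld σ a)) : SL m F).1 = (fld σ (inn y a) : SL m F).1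
    rw [← MulAut.mul_apply, ← map_mul, mul_inv_cancel_left, fld_inn]),
    h1 _ (e (iu hp g2 (iu hp g1 (fs φ σ a)))) (by
    rw [he, he, ← inn_val]
    change (inn y (inn (y⁻¹ * g * y) _) : SL m F).1 = _
    rw [← MulAut.mul_apply, ← map_mul, mul_assoc, mul_inv_cancel_left, map_mul, MulAut.mul_apply])] at this
  exact (congrArg (fun x => c (β x)) (c.symm_apply_apply a)).symm.trans this

theorem lf (hp : Pa m φ) : Lf (SU m φ) := fun β =>
  let ⟨α, _, _, h⟩ := exists_lift hp β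
  ⟨α, h⟩

theorem exists_ty (hp : Pa m φ) (α : MulAut (SU m φ)) : ∃ σ, Ty α σ :=
  let ⟨_, σ, h, e⟩ := exists_lift hp (Sp.quotientCenterCongr α)
  ⟨σ, FrA.aut_ext (qs hp) (fun a => QuotientGroup.eq.1 (e a)) ▸ h⟩

/-- `CL.Schur.exists_lift_of_trivial_of_perfect` -/
theorem exists_lift_hom (hp : Pa m φ) {X Y : Type*} [Group X] [Group Y] (γ : SU m φ →* Y)
    (ξ : X →* Y) (hs : Function.Surjective ξ) (hc : ξ.ker ≤ center X) :
    ∃ η : SU m φ →* X, ξ.comp η = γ :=
  CL.Schur.exists_lift_of_trivial_of_perfect (mult_one hp) ⟨(qs hp).perf⟩ γ ⟨hs, hc⟩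

/-- As `CL.SC.exists_st` (INV/SC/Lift): the odd core is central; `exists_lift_hom` gives a frame,
which is onto `L` as `L` is perfect (`L = range ⊔ centre`); its kernel maps into the centre. -/
theorem exists_st (hp : Pa m φ) {G : Type*} [Group G] [Finite G] (L : Subgroup G)
    (hL : Cfsg.IsStandardSubgroup L)
    (hR : ∀ R : Sylow 2 ↥(centralizer (L : Set G)),
      IsCyclic ↥(R : Subgroup ↥(centralizer (L : Set G))))
    (e : (↥L ⧸ Cfsg.oddCore ↥L) ≃* Cfsg.PSU m F (qq F)) :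
    ∃ (ρ : SU m φ →* G) (t : G), St ρ t := by
  have := Fintype.ofFinite F
  have : Group.IsPerfect L := hL.1.1
  have := Uni.isSimpleGroup_PSU (hF hp) hp.three (n3 hp)
  have hZ : Cfsg.oddCore L ≤ center L := by
    rcases hL.1.2.eq_bot_or_eq_top_of_normal ((Cfsg.oddCore L).map (QuotientGroup.mk' (center L)))
      (Subgroup.Normal.map inferInstance _ (QuotientGroup.mk'_surjective _)) with h | h
    · rwa [Subgroup.map_eq_bot_iff, QuotientGroup.ker_mk'] at h
    · have := QuotientGroup.subsingleton_iff.2 (PComp.eq_top_of_sup_center (N := Cfsg.oddCore L) (by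
        rw [← QuotientGroup.ker_mk' (center _), ← comap_map_eq, h, comap_top]))
      exact (not_subsingleton _ e.symm.injective.subsingleton).elim
  obtain ⟨-, f, -⟩ := exists_iso hp
  let p := e.toMonoidHom.comp (QuotientGroup.mk' (Cfsg.oddCore L))
  have hk : p.ker ≤ center L := fun l hl => hZ (by simpa [p] using hl)
  obtain ⟨η, hη⟩ := exists_lift_hom hp ((QuotientGroup.mk' (center _)).comp f.toMonoidHom) p
    (e.surjective.comp (QuotientGroup.mk'_surjective _)) hk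
  have hη' : ∀ a, p (η a) = (f a : Cfsg.SU m F (qq F)) := DFunLike.congr_fun hη
  have hr : (L.subtype.comp η).range = L := by
    rw [MonoidHom.range_comp, PComp.eq_top_of_sup_center (N := η.range) (eq_top_iff.2 fun l _ => ?_),
      ← MonoidHom.range_eq_map, range_subtype]
    obtain ⟨s, hs⟩ := QuotientGroup.mk_surjective (p l)
    obtain ⟨s, rfl⟩ := f.surjective s
    rw [← mul_inv_cancel_left (η s) l]
    exact mul_mem_sup ⟨s, rfl⟩ (hk (by rw [MonoidHom.mem_ker, map_mul, map_inv, hη', hs, inv_mul_cancel]))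
  generalize_proofs at hr
  have hρ : Fu (L.subtype.comp η) := fun a ha => by
    have := hη' a
    rw [show η a = 1 from Subtype.ext ha, map_one, eq_comm, QuotientGroup.eq_one_iff,
      ← Sp.map_center_of_mulEquiv f] at this
    exact (mem_map_iff_mem f.injective).1 this
  generalize L.subtype.comp η = ρ at hr hρ
  have : Fact (Nat.Prime 2) := ⟨Nat.prime_two⟩
  obtain ⟨t, ht⟩ := exists_prime_orderOf_dvd_card' (G := centralizer (L : Set G)) 2
    (even_iff_two_dvd.1 hL.2.1.1)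
  have ht' : orderOf (t : G) = 2 := by rw [Subgroup.orderOf_coe, ht]
  refine ⟨ρ, t, hρ, ht', fun a => ?_, fun g hg => ?_, fun k hk h2 => ?_⟩
  · exact (mem_centralizer_iff.1 t.2 (ρ a) (hr ▸ ⟨a, rfl⟩ : ρ a ∈ L)).symm
  · rw [hr]
    exact CL.Std.cent_le_norm hL ht' t.2 (mem_centralizer_singleton_iff.2 hg.eq)
  · by_contra hne
    push Not at hne
    have hkK : k ∈ centralizer (L : Set G) := by
      rw [mem_centralizer_iff]
      intro l hl
      obtain ⟨a, rfl⟩ : l ∈ ρ.range := hr ▸ hl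
      exact (hk.2 a).symm.eq
    have hk2 : orderOf (⟨k, hkK⟩ : centralizer (L : Set G)) = 2 :=
      orderOf_eq_prime (Subtype.ext (by rw [pow_two]; exact h2))
        (fun h => hne.1 (congrArg Subtype.val h))
    have hV := CL.Four.isKleinFour_closure hk2 ht (fun h => hne.2 (congrArg Subtype.val h))
      (Subtype.ext hk.1.eq)
    obtain ⟨R, hR'⟩ := (IsPGroup.of_card (p := 2) (n := 2) hV.card_four).exists_le_sylow
    have := hR R
    exact hV.not_isCyclic (Subgroup.isCyclic_of_le hR')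

/-- the Frobenius `a ↦ a ^ 2 ^ n` -/
theorem exists_pa {n : ℕ} (hm : 6 ≤ m) (hn : 1 ≤ n) (hex : ¬ (m = 6 ∧ n = 1))
    (hF : Nat.card F = (2 ^ n) ^ 2) : ∃ φ : F ≃+* F, Pa m φ ∧ qq F = 2 ^ n := by
  have := Fintype.ofFinite F
  have := Fact.mk Nat.prime_two
  have hF' : Fintype.card F = (2 ^ n) ^ 2 := Nat.card_eq_fintype_card.symm.trans hF
  refine ⟨iterateFrobeniusEquiv F 2 n, ⟨fun e => CL.SqField.exists_pow_q_ne hF' |>.elim fun a ha =>
    ha (DFunLike.congr_fun e a), RingEquiv.ext fun a => ?_, hm, fun h => hex ⟨h.1, ?_⟩⟩,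
    by rw [qq, hF, Nat.sqrt_eq']⟩
  · change (a ^ 2 ^ n) ^ 2 ^ n = a
    rw [← pow_mul, ← sq, ← hF', FiniteField.pow_card]
  · have := h.2
    rw [hF, ← pow_mul, show 4 = 2 ^ 2 from rfl] at this
    have := Nat.pow_right_injective le_rfl this
    omega

end CL.UM
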