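import Cfsg.Agent.INV.UM.Base
import Cfsg.Agent.TECH.LargeTI
import Cfsg.Agent.S0022

/-!
The 2-group inducing the translations.
-/

set_option autoImplicit false
set_option linter.unusedSectionVars false
set_option linter.unusedVariables false

namespace CL.UM

open Matrix Subgroup CL.SC
open scoped commutatorElement

variable {m : ℕ} [NeZero m] {F : Type*} [Field F] [Finite F] [CharP F 2] {φ : F ≃+* F}
variable {G : Type*} [Group G] [Finite G] {ρ : SU m φ →* G} {t : G}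

variable {P : Subgroup G}

/-- `⟨t⟩ ρ(QW)` -/
def P0 (ρ : SU m φ →* G) (t : G) : Subgroup G := zpowers t ⊔ (QW m φ).map ρ

theorem St.mem_P0 (h : St ρ t) {y : G} : y ∈ P0 ρ t ↔ ∃ g ∈ QW m φ, y = ρ g ∨ y = t * ρ g := by
  rw [P0, mem_zsup h.tt (by rintro _ ⟨a, -, rfl⟩; exact h.tc a)]
  constructor
  · rintro (⟨a, ha, e⟩ | ⟨a, ha, e⟩)
    · exact ⟨a, ha, .inl e.symm⟩
    · exact ⟨a, ha, .inr (by rw [e, ← mul_assoc, h.tt, one_mul])⟩
  · rintro ⟨a, ha, rfl | rfl⟩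
    · exact .inl ⟨a, ha, rfl⟩
    · exact .inr ⟨a, ha, by rw [← mul_assoc, h.tt, one_mul]⟩

/-- `cent_two` -/
theorem St2.mem_P0' (hp : Pa m φ) (h : St2 ρ t) {y : G} : y ∈ P0 ρ t ↔ Two y ∧ Lm ρ t y 1 := by
  rw [h.toSt.mem_P0]
  refine ⟨?_, fun k => h.cent_two hp k.2.commute k.1 k.2.2.1⟩
  rintro ⟨g, hg, rfl | rfl⟩
  · exact ⟨(two_of_pgroup pgroup_UU (QW_le_UU hg)).map ρ, h.toSt.lm_QW hp hg⟩
  · exact ⟨(two_of_sq h.toSt.tt).mul ((two_of_pgroup pgroup_UU (QW_le_UU hg)).map ρ) (h.tc g),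
      one_mul (1 : SU m φ) ▸ h.toSt.lm_t.mul (h.toSt.lm_QW hp hg)⟩

theorem P1.lo0 (hp : Pa m φ) : Lo (0 : Fin m) := (exists_lo3 hp).elim fun _ h => h.elim fun _ h => h.1

theorem P1.lm_cj {y n : G} {a : SU m φ} (hy : Lm ρ t y a) (hn : Lm ρ t n 1) : Lm ρ t (y * n * y⁻¹) 1 := by
  have := (hy.mul hn).mul hy.inv
  rwa [mul_one, el_AA a hy.1] at this

theorem P1.nP0 (hp : Pa m φ) (h : St2 ρ t) {n : G} (hn : Commute n t)
    (hA : n ∈ normalizer (Ar ρ : Set G)) : n ∈ normalizer (P0 ρ t : Set G) := mem_norm_of_le fun x hx => by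
  obtain ⟨α, h1, h2⟩ := h.toSt.au_na hp hn hA
  exact (h.mem_P0' hp).2 ⟨((h.mem_P0' hp).1 hx).1.conj n,
    map_one α ▸ ((h.mem_P0' hp).1 hx).2.aut hn h1 h2⟩

theorem P1.nEt (h : St ρ t) {n : G} (hn : Commute n t) (hA : n ∈ normalizer (Ar ρ : Set G)) :
    n ∈ normalizer (Et ρ t : Set G) := by
  rw [← cj_eq_iff] at hA ⊢
  rw [Et, cj, Subgroup.map_sup, MonoidHom.map_zpowers, ← cj, hA]
  exact congrArg (fun y => zpowers y ⊔ _) (mul_inv_eq_iff_eq_mul.2 hn)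

/-- the elements inducing a translation -/
def P1.D (ρ : SU m φ →* G) (t : G) : Subgroup G where
  carrier := {y | ∃ a, Lm ρ t y a}
  one_mem' := ⟨1, lm_one⟩
  mul_mem' := fun ⟨_, h⟩ ⟨_, h'⟩ => ⟨_, h.mul h'⟩
  inv_mem' := fun ⟨_, h⟩ => ⟨_, h.inv⟩

/-- the centraliser modulo `P0` -/
def P1.C (ρ : SU m φ →* G) (t : G) : Subgroup G where
  carrier := {g | g ∈ normalizer (P0 ρ t : Set G) ∧ ∀ n, Lm ρ t n 1 → ⁅g, n⁆ ∈ P0 ρ t}
  one_mem' := ⟨one_mem _, fun n _ => by rw [commutatorElement_one_left]; exact one_mem _⟩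
  mul_mem' := fun {g g'} h h' => ⟨mul_mem h.1 h'.1, fun n hn => by
    rw [show ⁅g * g', n⁆ = g * ⁅g', n⁆ * g⁻¹ * ⁅g, n⁆ by simp only [commutatorElement_def]; group]
    exact mul_mem ((mem_normalizer_iff.1 h.1 _).1 (h'.2 n hn)) (h.2 n hn)⟩
  inv_mem' := fun {g} h => ⟨inv_mem h.1, fun n hn => by
    rw [show ⁅g⁻¹, n⁆ = g⁻¹ * ⁅g, n⁆⁻¹ * g by simp only [commutatorElement_def]; group]
    exact (mem_normalizer_iff''.1 h.1 _).1 (inv_mem (h.2 n hn))⟩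

theorem P1.irr (hp : Pa m φ) (h : St ρ t) {J : Subgroup G}
    (h1 : ∀ l ∈ Lv m φ, ∀ y ∈ J, ρ l * y * (ρ l)⁻¹ ∈ J) (h2 : ∃ y ∈ J, ∃ a, a ≠ 1 ∧ Lm ρ t y a) :
    ∀ a ∈ AA m φ, ∃ y ∈ J, Lm ρ t y a := by
  let K : Subgroup (SU m φ) :=
    { carrier := {a | ∃ y ∈ J, Lm ρ t y a}
      one_mem' := ⟨1, one_mem _, lm_one⟩
      mul_mem' := fun ⟨y, k, hy⟩ ⟨y', k', hy'⟩ => ⟨_, mul_mem k k', hy.mul hy'⟩
      inv_mem' := fun {b} ⟨y, k, hy⟩ => ⟨y, k, by rwa [inv_eq_of_mul_eq_one_right (el_AA b hy.1)]⟩ }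
  rcases CL.UM.irr hp (K := K) (fun a ⟨y, _, hy⟩ => hy.1)
    (fun l hl a ⟨y, k, hy⟩ => ⟨_, h1 l hl y k, hy.conj h (Lv_norm hp hl)⟩) with e | e
  · obtain ⟨y, k, b, b1, hy⟩ := h2
    exact (b1 (mem_bot.1 (e.le ⟨y, k, hy⟩))).elim
  · exact fun a ha => e.ge ha

/-- `y` permutes the 2-elements of `C(Et)` -/
theorem St2.norm_P0 (hp : Pa m φ) (h : St2 ρ t) {y : G} {a : SU m φ} (hy : Lm ρ t y a) :
    y ∈ normalizer (P0 ρ t : Set G) := mem_norm_of_le fun x hx =>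
  (h.mem_P0' hp).2 ⟨((h.mem_P0' hp).1 hx).1.conj y, P1.lm_cj hy ((h.mem_P0' hp).1 hx).2⟩

theorem P1.C_cj (hp : Pa m φ) (h : St2 ρ t) {y g : G} {a : SU m φ} (hy : Lm ρ t y a) (hg : g ∈ P1.C ρ t) :
    y * g * y⁻¹ ∈ P1.C ρ t :=
  ⟨mul_mem (mul_mem (h.norm_P0 hp hy) hg.1) (inv_mem (h.norm_P0 hp hy)), fun n hn => by
    rw [show ⁅y * g * y⁻¹, n⁆ = y * ⁅g, y⁻¹ * n * y⁻¹⁻¹⁆ * y⁻¹ by simp only [commutatorElement_def]; group]
    exact (mem_normalizer_iff.1 (h.norm_P0 hp hy) _).1 (hg.2 _ (P1.lm_cj hy.inv hn))⟩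

/-- Let `J` be the group of the `y` with some `Lm y a` and `[y, n] ∈ P0` for all `n` with `Lm n 1`.
For `l ∈ Lv`, `[ρ l, n] ∈ ρ(QW)` (`cent_AA_Lv`), so `[ρ l, y] ∈ J` for all `y` with `Lm y a`, and
it translates by `[l, a]`.  The translations by elements of `J` form an `Lv`-invariant group,
non-trivial by `fix_Lv`; `irr`.  The 2-part of `y` induces the same translation. -/
theorem St2.exists_J (hp : Pa m φ) (h : St2 ρ t) {a : SU m φ} (ha : a ∈ AA m φ) :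
    ∃ y, Two y ∧ Lm ρ t y a ∧ ∀ n, Lm ρ t n 1 → ⁅y, n⁆ ∈ P0 ρ t := by
  have lC : ∀ l ∈ Lv m φ, ρ l ∈ P1.C ρ t := fun l hl =>
    ⟨P1.nP0 hp h (h.tc l).symm (norm_map (Lv_norm hp hl)), fun n hn => by
      obtain ⟨α, hα⟩ := h.toSt.au' hp hn.commute
      have := cent_AA_Lv hp (α := α) (fun a ha =>
        (hα.fix (qs hp) h.fr (two_of_sq (el_AA a ha))).1 (hn.2.1 a ha)) hl
      rw [← inv_mem_iff, commutatorElement_inv, commutatorElement_def, hα, ← map_inv, ← map_mul]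
      exact mem_sup_right ⟨_, this, rfl⟩⟩
  obtain ⟨y, hy, hl⟩ := P1.irr hp h.toSt (J := P1.C ρ t)
    (fun l hl y hy => mul_mem (mul_mem (lC l hl) hy) (inv_mem (lC l hl))) (by
      by_contra! k
      refine zl_ne_one hp (fix_Lv hp (zl_mem_AA (P1.lo0 hp) 1) fun l hl => ?_)
      obtain ⟨y, hy⟩ := h.trn _ (zl_mem_AA (P1.lo0 hp) 1)
      by_contra n
      refine k _ (by simpa only [mul_assoc] using mul_mem (lC l hl) (P1.C_cj hp h hy (inv_mem (lC l hl))))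
        _ (fun this => n ?_) (by simpa only [mul_assoc] using (hy.conj h.toSt (Lv_norm hp hl)).mul hy.inv)
      rw [← mul_assoc, ← mul_assoc, mul_eq_one_iff_eq_inv, inv_eq_of_mul_eq_one_right (zl_sq _ _)] at this
      exact mul_inv_eq_iff_eq_mul.1 this) a ha
  obtain ⟨p, hp', o, ho, h1, h2, e⟩ := exists_parts y
  have hD : zpowers y ≤ P1.D ρ t := zpowers_le.2 ⟨a, hl⟩
  obtain ⟨a1, l1⟩ := hD hp'
  obtain ⟨a2, l2⟩ := hD ho
  have e2 : a2 = 1 := by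
    have := l2.pow (orderOf o)
    rw [pow_orderOf_eq_one] at this
    obtain ⟨k, hk⟩ := h2
    have := this.unique hp h.toSt lm_one
    rwa [hk, pow_succ, pow_mul, sq, el_AA _ l2.1, one_pow, one_mul] at this
  have := (l1.mul l2).unique hp h.toSt (e ▸ hl)
  rw [e2, mul_one] at this
  exact ⟨p, h1, this ▸ l1, (zpowers_le.2 hy hp').2⟩

/-- Work modulo the normal subgroup `P0` of the group of all `y` with some `Lm y a`; the elements
with `Lm n 1` form a group of odd order modulo `P0`.  A 2-element `y` has `y y ∈ P0`.  With `j` as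
in `exists_J`, `y = j n`, `j`, `n` commute modulo `P0`, so `n n ∈ P0`, `n ∈ P0`.  For two such
`j, j'`: `c = [j, j']` satisfies `Lm c 1`, so is central modulo `P0`, `c c ≡ [j j, j'] ≡ 1`,
`c ∈ P0`, `(j j') ^ 2 ∈ P0`. -/
theorem St2.exists_Pp (hp : Pa m φ) (h : St2 ρ t) : ∃ P, Pp ρ t P := by
  have sq : ∀ {y a}, Two y → Lm ρ t y a → y * y ∈ P0 ρ t := fun {y a} h1 h2 =>
    (h.mem_P0' hp).2 ⟨h1.mul h1 (Commute.refl y), el_AA a h2.1 ▸ h2.mul h2⟩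
  have rt : ∀ {n}, Lm ρ t n 1 → n * n ∈ P0 ρ t → n ∈ P0 ρ t := fun {n} h1 h2 =>
    (h.mem_P0' hp).2 ⟨((h.mem_P0' hp).1 h2).1.of_sq, h1⟩
  have cj : ∀ {y a x}, Lm ρ t y a → x ∈ P0 ρ t → y * x * y⁻¹ ∈ P0 ρ t := fun h1 h2 =>
    (mem_normalizer_iff.1 (h.norm_P0 hp h1) _).1 h2
  have inC : ∀ {y a}, Two y → Lm ρ t y a → ∀ n, Lm ρ t n 1 → ⁅y, n⁆ ∈ P0 ρ t := fun {y a} h1 h2 => by
    obtain ⟨j, j1, j2, j3⟩ := h.exists_J hp h2.1
    have l : Lm ρ t (j⁻¹ * y) 1 := el_AA a h2.1 ▸ j2.inv.mul h2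
    have := rt l (by
      have := mul_mem (mul_mem (cj j2.inv (j3 _ l)) (inv_mem (sq j1 j2))) (sq h1 h2)
      rwa [show j⁻¹ * ⁅j, j⁻¹ * y⁆ * j⁻¹⁻¹ * (j * j)⁻¹ * (y * y) = j⁻¹ * y * (j⁻¹ * y) *
        ((j⁻¹ * y)⁻¹ * (j⁻¹ * y)⁻¹ * (j⁻¹ * ⁅j, j⁻¹ * y⁆ * j⁻¹⁻¹ * (j * j)⁻¹ * (y * y))) by group,
        show (j⁻¹ * y)⁻¹ * (j⁻¹ * y)⁻¹ * (j⁻¹ * ⁅j, j⁻¹ * y⁆ * j⁻¹⁻¹ * (j * j)⁻¹ * (y * y)) = 1 by
          rw [commutatorElement_def]; group, mul_one] at this)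
    have k : j * (j⁻¹ * y) ∈ P1.C ρ t := mul_mem ⟨h.norm_P0 hp j2, j3⟩ ⟨le_normalizer this, fun n hn => by
      simpa only [commutatorElement_def, mul_assoc] using mul_mem this (cj hn (inv_mem this))⟩
    rw [mul_inv_cancel_left] at k
    exact k.2
  let Q : Subgroup G :=
    { carrier := {y | Two y ∧ ∃ a, Lm ρ t y a}
      one_mem' := ⟨two_of_sq (one_mul 1), 1, lm_one⟩
      inv_mem' := fun ⟨h1, a, h2⟩ => ⟨h1.inv, a, h2.inv⟩
      mul_mem' := by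
        rintro y y' ⟨h1, a, h2⟩ ⟨h1', a', h2'⟩
        refine ⟨Two.of_sq ((h.mem_P0' hp).1 ?_).1, _, h2.mul h2'⟩
        have l : Lm ρ t ⁅y, y'⁆ 1 := by
          have := ((h2.mul h2').mul h2.inv).mul h2'.inv
          rwa [mul_assoc (a * a'), el_AA _ (mul_mem h2.1 h2'.1)] at this
        have c := rt l (by
          have := mul_mem (inv_mem (inC h1 h2 _ l)) (mul_mem (sq h1 h2) (cj h2' (inv_mem (sq h1 h2))))
          rwa [show ⁅y, ⁅y, y'⁆⁆⁻¹ * (y * y * (y' * (y * y)⁻¹ * y'⁻¹)) = ⁅y, y'⁆ * ⁅y, y'⁆ by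
            simp only [commutatorElement_def]; group] at this)
        have := mul_mem (mul_mem (sq h1 h2) (cj h2.inv (inv_mem c))) (sq h1' h2')
        rwa [show y * y * (y⁻¹ * ⁅y, y'⁆⁻¹ * y⁻¹⁻¹) * (y' * y') = y * y' * (y * y') by
          simp only [commutatorElement_def]; group] at this }
  exact ⟨Q, h, fun y => Iff.rfl, fun a ha => (h.exists_J hp ha).imp fun y k => ⟨⟨k.1, a, k.2.1⟩, k.2.1⟩,
    fun y hy c => h.cent_two hp c hy.1 (hy.2.elim fun a k => k.2.1)⟩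

theorem Pp.pg (h : Pp ρ t P) : IsPGroup 2 P := pgroup_of_two fun y hy => ((h.mem y).1 hy).1

theorem Pp.conj (hp : Pa m φ) (h : Pp ρ t P) {l : SU m φ}
    (hl : l ∈ normalizer (AA m φ : Set (SU m φ))) {y : G} (hy : y ∈ P) : ρ l * y * (ρ l)⁻¹ ∈ P :=
  ((h.mem y).1 hy).elim fun h1 ⟨a, h2⟩ => (h.mem _).2 ⟨h1.conj _, _, h2.conj h.toSt hl⟩

theorem Pp.P0_le (hp : Pa m φ) (h : Pp ρ t P) : P0 ρ t ≤ P := fun y hy =>
  (h.mem y).2 ⟨((h.toSt2.mem_P0' hp).1 hy).1, 1, ((h.toSt2.mem_P0' hp).1 hy).2⟩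

theorem Pp.mem_P0 (hp : Pa m φ) (h : Pp ρ t P) {y : G} (hy : y ∈ P) (l : Lm ρ t y 1) : y ∈ P0 ρ t :=
  (h.toSt2.mem_P0' hp).2 ⟨((h.mem y).1 hy).1, l⟩

theorem Pp.cA (h : Pp ρ t P) {y : G} (hy : y ∈ P) {a : SU m φ} (ha : a ∈ AA m φ) : Commute y (ρ a) :=
  ((h.mem y).1 hy).2.elim fun _ l => l.2.1 a ha

/-- the elements of `QW` centralising `s` modulo `E` -/
def P1.K {E : Subgroup G} (hE : ∀ g ∈ QW m φ, ∀ e ∈ E, Commute (ρ g) e) (s : Set G) :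
    Subgroup (SU m φ) where
  carrier := {g | g ∈ QW m φ ∧ ∀ y ∈ s, ⁅y, ρ g⁆ ∈ E}
  one_mem' := ⟨one_mem _, fun y _ => by rw [map_one, commutatorElement_one_right]; exact one_mem _⟩
  mul_mem' := fun {g g'} h h' => ⟨mul_mem h.1 h'.1, fun y hy => by
    rw [map_mul, show ⁅y, ρ g * ρ g'⁆ = ⁅y, ρ g⁆ * (ρ g * ⁅y, ρ g'⁆ * (ρ g)⁻¹) by
      simp only [commutatorElement_def]; group, (hE g h.1 _ (h'.2 y hy)).eq, mul_inv_cancel_right]
    exact mul_mem (h.2 y hy) (h'.2 y hy)⟩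
  inv_mem' := fun {g} h => ⟨inv_mem h.1, fun y hy => by
    rw [map_inv, show ⁅y, (ρ g)⁻¹⁆ = (ρ g)⁻¹ * (⁅y, ρ g⁆⁻¹ * ρ g) by
      simp only [commutatorElement_def]; group, ← (hE g h.1 _ (inv_mem (h.2 y hy))).eq, inv_mul_cancel_left]
    exact inv_mem (h.2 y hy)⟩

theorem P1.of_nv (hp : Pa m φ) {K : Subgroup (SU m φ)} (hK : AA m φ ≤ K) {g g' : SU m φ}
    (hg : g ∈ QW m φ) (h1 : g' ∈ K) (h2 : g' ∈ QW m φ) (e : nv g' = nv g) : g ∈ K := by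
  have := mul_mem (hK ((nv_eq_zero hp (mul_mem hg h2)).1 (by
    rw [nv_mul hp hg h2, e, CharTwo.add_self_eq_zero]))) (inv_mem h1)
  rwa [mul_inv_cancel_right] at this

theorem P1.gen (hp : Pa m φ) {K : Subgroup (SU m φ)} (hK : AA m φ ≤ K)
    (h : ∀ (o i : Fin m) (c : F), o.rev = o → Lo i → ∃ g ∈ K, g ∈ QW m φ ∧ nv g = Pi.single i c) :
    QW m φ ≤ K := fun g hg => by
  by_cases e : ∃ o : Fin m, o.rev = o
  · obtain ⟨o, ho⟩ := e
    obtain ⟨g', h1, h2, e⟩ : ∃ g' ∈ K, g' ∈ QW m φ ∧ nv g' = nv g := by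
      rw [← Finset.univ_sum_single (nv g)]
      refine Finset.sum_induction _ (fun v => ∃ g' ∈ K, g' ∈ QW m φ ∧ nv g' = v) ?_
        ⟨1, one_mem _, one_mem _, (nv_eq_zero hp (one_mem _)).2 (one_mem _)⟩ fun i _ => ?_
      · rintro _ _ ⟨a, a1, a2, rfl⟩ ⟨b, b1, b2, rfl⟩
        exact ⟨_, mul_mem a1 b1, mul_mem a2 b2, nv_mul hp a2 b2⟩
      · by_cases hi : Lo i
        · exact h o i _ ho hi
        · exact ⟨1, one_mem _, one_mem _, by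
            rw [mem_Wv.1 (nv_mem g) i hi, Pi.single_zero, (nv_eq_zero hp (one_mem _)).2 (one_mem _)]⟩
    exact P1.of_nv hp hK hg h1 h2 e
  · exact hK (QW_even hp (fun o ho => e ⟨o, ho⟩) ▸ hg)

theorem P1.mul_single (d : Fin m → F) (i : Fin m) (c : F) :
    d * Pi.single i c = Pi.single i (d i * c) := funext fun j => by
  by_cases e : j = i
  · rw [e, Pi.mul_apply, Pi.single_eq_same, Pi.single_eq_same]
  · rw [Pi.mul_apply, Pi.single_eq_of_ne e, Pi.single_eq_of_ne e, mul_zero]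

theorem P1.dh_zl (hp : Pa m φ) {d : Fin m → F} (hd : D1 φ d) :
    dh φ d * zl φ 0 1 * (dh φ d)⁻¹ = zl φ 0 1 := by
  rw [CL.UM.dh_zl hp hd.1 (zero_ne_la (by have := hp.six; omega)) (map_one φ), hd.norm, one_mul]

theorem P1.cover (hp : Pa m φ) {o i : Fin m} (ho : o.rev = o) (hi : Lo i) (c : F) : ∃ d, D1 φ d ∧
    ∃ g ∈ QW m φ, nv (dh φ d * g * (dh φ d)⁻¹ * g⁻¹) = Pi.single i c := by
  have no : ∀ {a : Fin m}, Lo a → o ≠ a ∧ o ≠ a.rev := fun {a} ha =>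
    ⟨fun e => ha.rev (by rw [← e, ho, e]; exact ha), fun e => ha.rev (by
      rw [← e, ← ho, e, Fin.rev_rev]; exact ha)⟩
  obtain ⟨j, hj, j1, -⟩ := exists_ind hp i i
  obtain ⟨d, hd, -, d2, -, d4⟩ := sep0 hp (Ind.of_lo hi hj j1.symm).1
  obtain ⟨g, hg, e⟩ := nv_sur hp ho (single_mem_Wv hi ((d i - 1)⁻¹ * c))
  have e2 := nv_mul hp hg (inv_mem hg)
  rw [mul_inv_cancel, (nv_eq_zero hp (one_mem _)).2 (one_mem _), eq_comm, add_eq_zero_iff_neg_eq] at e2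
  refine ⟨d, hd, g, hg, ?_⟩
  rw [nv_mul hp ((mem_normalizer_iff.1 (dh_norm hp hd.1).2 g).1 hg) (inv_mem hg), nv_dh hp ho hd.1, ← e2, e,
    d4 o (no hi).1 (no hi).2 (no hj).1 (no hj).2, inv_one, one_smul, P1.mul_single, ← Pi.single_neg,
    ← Pi.single_add, ← neg_one_mul ((d i - 1)⁻¹ * c), ← add_mul, ← sub_eq_add_neg,
    mul_inv_cancel_left₀ (sub_ne_zero.2 d2)]

/-- Odd `m` (else `QW_even`).  `V = {nv g | g ∈ QW, ∀ y ∈ P, [y, ρ g] ∈ Et}` is invariant under `Lv`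
(`nv_Lv`) and non-zero: the 2-group `P` acts on the 2-group `P0 / Et`.  `irr_W`. -/
theorem Pp.comm_E (hp : Pa m φ) (h : Pp ρ t P) {y : G} (hy : y ∈ P) {g : SU m φ} (hg : g ∈ QW m φ) :
    ⁅y, ρ g⁆ ∈ Et ρ t := by
  have cE : ∀ g ∈ QW m φ, ∀ e ∈ Et ρ t, Commute (ρ g) e := fun g hg e he => by
    obtain ⟨a, ha, rfl | rfl⟩ := h.toSt.mem_Et.1 he
    exacts [(QW_cent hp hg ha).map ρ, (h.tc g).symm.mul_right ((QW_cent hp hg ha).map ρ)]
  let K : Subgroup (SU m φ) := P1.K (fun g hg => cE g hg) P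
  have AK : AA m φ ≤ K := fun a ha => ⟨AA_le_QW ha, fun y hy => by
    rw [(commutatorElement_eq_one_iff_commute).2 (h.cA hy ha)]; exact one_mem _⟩
  let V : AddSubgroup (Fin m → F) :=
    { carrier := {v | ∃ g ∈ K, nv g = v}
      zero_mem' := ⟨1, one_mem _, (nv_eq_zero hp (one_mem _)).2 (one_mem _)⟩
      add_mem' := by
        rintro _ _ ⟨g, hg, rfl⟩ ⟨g', hg', rfl⟩
        exact ⟨_, mul_mem hg hg', nv_mul hp hg.1 hg'.1⟩
      neg_mem' := fun {v} hv => by rwa [CharTwo.neg_eq] }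
  rcases irr_W hp V (by rintro _ ⟨g, -, rfl⟩; exact nv_mem g) (by
    rintro l hl _ ⟨g, hg, rfl⟩
    refine ⟨l * g * l⁻¹, ⟨(mem_normalizer_iff.1 (Lv_norm_QW hp hl) g).1 hg.1, fun y hy => ?_⟩,
      nv_Lv hp hl hg.1⟩
    have := (mem_normalizer_iff.1 (P1.nEt h.toSt (h.tc l).symm (norm_map (Lv_norm hp hl))) _).1
      (hg.2 _ (h.conj hp (inv_mem (Lv_norm hp hl)) hy))
    simpa only [map_mul, map_inv, commutatorElement_def, _root_.mul_inv_rev, inv_inv, mul_assoc,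
      mul_inv_cancel_left, inv_mul_cancel_left] using this) with e | e
  · by_contra hn
    obtain ⟨k, k1, k2, k3⟩ := CL.LTI.exists_fix (K := P0 ρ t) (V := Et ρ t) (h.pg.to_le (h.P0_le hp)) h.pg
      (fun y hy => ((h.mem y).1 hy).2.elim fun a l => h.toSt2.norm_P0 hp l) fun le => hn (by
        rw [(commutatorElement_eq_one_iff_commute).2]
        · exact one_mem _
        obtain ⟨b, hb, e | e⟩ := h.toSt.mem_Et.1 (le (mem_sup_right ⟨g, hg, rfl⟩))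
        · exact e ▸ h.cA hy hb
        · exact (h.toSt.ne hp _ _ e).elim)
    have tE : t ∈ Et ρ t := mem_sup_left (mem_zpowers t)
    have key : ∀ g ∈ QW m φ, (∀ y ∈ P, ⁅y, ρ g⁆ ∈ Et ρ t) → ρ g ∈ Et ρ t := fun g hg k =>
      mem_sup_right ⟨g, (nv_eq_zero hp hg).1 (AddSubgroup.mem_bot.1 (e.le ⟨g, ⟨hg, k⟩, rfl⟩)), rfl⟩
    obtain ⟨g', hg', rfl | rfl⟩ := h.toSt.mem_P0.1 k1
    · exact k2 (key g' hg' k3)
    · refine k2 (mul_mem tE (key g' hg' fun y hy => ?_))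
      obtain ⟨a, l⟩ := ((h.mem y).1 hy).2
      have := mul_mem (mul_mem (inv_mem (mul_mem tE (mem_sup_right ⟨a, l.1, rfl⟩))) (k3 y hy)) tE
      rwa [← l.2.2, show (y * t * y⁻¹)⁻¹ * ⁅y, t * ρ g'⁆ * t = ⁅y, ρ g'⁆ by
        simp only [commutatorElement_def]; group] at this
  · obtain ⟨g', hg', e'⟩ := e _ (nv_mem g)
    exact (P1.of_nv hp AK hg hg' hg'.1 e').2 y hy

/-- The `y ∈ P` with `[y, ρ g] ∈ ρ(AA)` for all `g ∈ QW` form an `Lv`-invariant group containing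
`P0` (`Et` is centralised by `ρ(QW)` and modulo `ρ(AA)` by `P`, so the commutator is
bimultiplicative modulo `ρ(AA)`).  By `irr` it suffices to treat `y` with `Lm y (zl 0 1)`.  The `g`
with `[y, ρ g] ∈ ρ(AA)` form a group `K ≥ AA`.  For `η = dh d`, `D1 d`: `ρ η y (ρ η)⁻¹ ∈ y P0`, so
`η g η⁻¹ g⁻¹ ∈ K`.  For `nv g = c e i` and `d i ≠ d o = 1` (`sep0`) its `nv` is `(d i + 1) c e i`
(`nv_dh`).  `nv_sur`, `nv_eq_zero`. -/
theorem Pp.comm_A (hp : Pa m φ) (h : Pp ρ t P) {y : G} (hy : y ∈ P) {g : SU m φ} (hg : g ∈ QW m φ) :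
    ⁅y, ρ g⁆ ∈ Ar ρ := by
  have cA : ∀ g ∈ QW m φ, ∀ e ∈ Ar ρ, Commute (ρ g) e := by
    rintro g hg _ ⟨a, ha, rfl⟩
    exact (QW_cent hp hg ha).map ρ
  have cP : ∀ y ∈ P, ∀ e ∈ Ar ρ, y * e * y⁻¹ = e := by
    rintro y hy _ ⟨a, ha, rfl⟩
    rw [(h.cA hy ha).eq, mul_inv_cancel_right]
  let J : Subgroup G :=
    { carrier := {y | y ∈ P ∧ ∀ g ∈ QW m φ, ⁅y, ρ g⁆ ∈ Ar ρ}
      one_mem' := ⟨one_mem _, fun g _ => by rw [commutatorElement_one_left]; exact one_mem _⟩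
      mul_mem' := fun {y y'} hy hy' => ⟨mul_mem hy.1 hy'.1, fun g hg => by
        rw [show ⁅y * y', ρ g⁆ = y * ⁅y', ρ g⁆ * y⁻¹ * ⁅y, ρ g⁆ by simp only [commutatorElement_def]; group,
          cP y hy.1 _ (hy'.2 g hg)]
        exact mul_mem (hy'.2 g hg) (hy.2 g hg)⟩
      inv_mem' := fun {y} hy => ⟨inv_mem hy.1, fun g hg => by
        rw [show ⁅y⁻¹, ρ g⁆ = y⁻¹ * ⁅y, ρ g⁆⁻¹ * y⁻¹⁻¹ by simp only [commutatorElement_def]; group,
          cP _ (inv_mem hy.1) _ (inv_mem (hy.2 g hg))]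
        exact inv_mem (hy.2 g hg)⟩ }
  have PJ : P0 ρ t ≤ J := sup_le (zpowers_le.2 ⟨h.P0_le hp (mem_sup_left (mem_zpowers t)), fun g _ => by
      rw [(commutatorElement_eq_one_iff_commute).2 (h.tc g)]; exact one_mem _⟩) (by
    rintro _ ⟨g', hg', rfl⟩
    refine ⟨h.P0_le hp (mem_sup_right ⟨g', hg', rfl⟩), fun g hg => ?_⟩
    rw [← map_commutatorElement, QW_comm hp hg' hg]
    exact ⟨_, pr_mem hp (nv_mem _) (nv_mem _), rfl⟩)
  obtain ⟨a, l⟩ := ((h.mem y).1 hy).2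
  obtain ⟨y', hy', l'⟩ := P1.irr hp h.toSt (J := J) (fun l hl y hy => ⟨h.conj hp (Lv_norm hp hl) hy.1,
    fun g hg => by
      have := (mem_normalizer_iff.1 (norm_map (π := ρ) (Lv_norm hp hl)) _).1
        (hy.2 _ ((mem_normalizer_iff''.1 (Lv_norm_QW hp hl) g).1 hg))
      simpa only [map_mul, map_inv, commutatorElement_def, _root_.mul_inv_rev, inv_inv, mul_assoc,
        mul_inv_cancel_left, inv_mul_cancel_left, mul_inv_cancel, mul_one] using this⟩) (by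
    obtain ⟨y, hy, l⟩ := h.sur _ (zl_mem_AA (P1.lo0 hp) 1)
    refine ⟨y, ⟨hy, fun g hg => ?_⟩, _, zl_ne_one hp, l⟩
    let K : Subgroup (SU m φ) := P1.K cA {y}
    refine (P1.gen hp (K := K) (fun a ha => ⟨AA_le_QW ha, fun _ e => by
      rw [e, (commutatorElement_eq_one_iff_commute).2 (h.cA hy ha)]; exact one_mem _⟩)
      (fun o i c ho hi => ?_) hg).2 y rfl
    obtain ⟨d, hd, g, hg, e⟩ := P1.cover hp ho hi c
    have n := dh_norm hp hd.1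
    have hg' := (mem_normalizer_iff.1 n.2 g).1 hg
    refine ⟨_, ⟨mul_mem hg' (inv_mem hg), fun _ e => e ▸ ?_⟩, mul_mem hg' (inv_mem hg), e⟩
    have p := PJ (h.mem_P0 hp (mul_mem (inv_mem hy) (h.conj hp n.1 hy)) (by
      have := l.inv.mul (l.conj h.toSt n.1)
      rwa [P1.dh_zl hp hd, zl_sq] at this))
    have c1 := h.comm_E hp hy hg
    have c2 := h.comm_E hp hy hg'
    have cE : ∀ g ∈ QW m φ, ∀ e ∈ Et ρ t, ρ g * e * (ρ g)⁻¹ = e := fun g hg e he => by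
      obtain ⟨a, ha, rfl | rfl⟩ := h.toSt.mem_Et.1 he
      · rw [((QW_cent hp hg ha).map ρ).eq, mul_inv_cancel_right]
      · rw [((h.tc g).symm.mul_right ((QW_cent hp hg ha).map ρ)).eq, mul_inv_cancel_right]
    have c3 : ρ (dh φ d) * ⁅y, ρ g⁆ * (ρ (dh φ d))⁻¹ * ⁅y, ρ g⁆⁻¹ ∈ Ar ρ := by
      obtain ⟨b, hb, e | e⟩ := h.toSt.mem_Et.1 c1 <;> rw [e]
      · exact mul_mem ((mem_normalizer_iff.1 (norm_map n.1) _).1 ⟨b, hb, rfl⟩) (inv_mem ⟨b, hb, rfl⟩)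
      · have := mul_mem ((mem_normalizer_iff.1 (norm_map (π := ρ) n.1) _).1 ⟨b, hb, rfl⟩)
          (inv_mem (⟨b, hb, rfl⟩ : ρ b ∈ Ar ρ))
        rw [← mul_assoc, ← (h.tc _).eq, _root_.mul_inv_rev, ← mul_assoc, mul_assoc t, mul_assoc t,
          mul_assoc t, (h.toSt.tA _ this).eq, mul_inv_cancel_right]
        exact this
    have c4 := mul_mem (inv_mem ((cP y hy _ (p.2 _ hg')).symm ▸ p.2 _ hg')) c3
    have c5 := cE _ (mul_mem hg' (inv_mem hg)) _ (inv_mem c1)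
    simp only [map_mul, map_inv] at c4 c5 ⊢
    generalize ρ (dh φ d) = η at c4 c5 ⊢
    generalize ρ g = x at c4 c5 ⊢
    rwa [show ⁅y, η * x * η⁻¹ * x⁻¹⁆ = ⁅y, η * x * η⁻¹⁆ *
        (η * x * η⁻¹ * x⁻¹ * ⁅y, x⁆⁻¹ * (η * x * η⁻¹ * x⁻¹)⁻¹) by simp only [commutatorElement_def]; group,
      c5, show ⁅y, η * x * η⁻¹⁆ = (y * ⁅y⁻¹ * (η * y * η⁻¹), η * x * η⁻¹⁆ * y⁻¹)⁻¹ * (η * ⁅y, x⁆ * η⁻¹) by
        simp only [commutatorElement_def]; group, mul_assoc]) a l.1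
  have := mul_mem hy' (PJ (h.mem_P0 hp (mul_mem (inv_mem hy'.1) hy) (el_AA a l.1 ▸ l'.inv.mul l)))
  rw [mul_inv_cancel_left] at this
  exact this.2 g hg

/-- An `H1`-equivariant homomorphism from `QW / AA` to `AA` is trivial.  It suffices to treat
`nv g = c e i`, entry `(r, s)`.  If `r = s` take `d i ≠ d o`: `f (η g η⁻¹ g⁻¹)` has entry `0`, and
these elements cover `F e i`.  If `r ≠ s` take `d` with `d i = d o`, `d r ≠ d s` (`sep0` for `r, s`,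
or, if `i = r`, for `s` and a third index): `f g = η (f g) η⁻¹`. -/
theorem hom_QW (hp : Pa m φ) (f : SU m φ → SU m φ) (h1 : ∀ g ∈ QW m φ, f g ∈ AA m φ)
    (h2 : ∀ g ∈ QW m φ, ∀ g' ∈ QW m φ, f (g * g') = f g * f g') (h3 : ∀ a ∈ AA m φ, f a = 1)
    (h4 : ∀ η ∈ H1 m φ, ∀ g ∈ QW m φ, f (η * g * η⁻¹) = η * f g * η⁻¹) : ∀ g ∈ QW m φ, f g = 1 :=
  fun g hg => by
  refine AA_ext (h1 g hg) (one_mem _) fun r s hr hs => ?_
  have sq : ∀ g ∈ QW m φ, f g⁻¹ = f g := fun g hg => by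
    have := h2 g⁻¹ (inv_mem hg) g hg
    rw [inv_mul_cancel, h3 1 (one_mem _), eq_comm, mul_eq_one_iff_eq_inv] at this
    rw [this, inv_eq_of_mul_eq_one_right (el_AA _ (h1 g hg))]
  let K : Subgroup (SU m φ) :=
    { carrier := {g | g ∈ QW m φ ∧ en (f g) r s = 0}
      one_mem' := ⟨one_mem _, by rw [h3 1 (one_mem _), en_one hr hs]⟩
      mul_mem' := fun {g g'} hg hg' => ⟨mul_mem hg.1 hg'.1, by
        rw [h2 g hg.1 g' hg'.1, en_mul (h1 g hg.1) (h1 g' hg'.1) hr hs, hg.2, hg'.2, add_zero]⟩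
      inv_mem' := fun {g} hg => ⟨inv_mem hg.1, by rw [sq g hg.1, hg.2]⟩ }
  rw [en_one hr hs]
  refine (P1.gen hp (K := K) (fun a ha => ⟨AA_le_QW ha, by rw [h3 a ha, en_one hr hs]⟩)
    (fun o i c ho hi => ?_) hg).2
  have cj : ∀ d, D1 φ d → ∀ g ∈ QW m φ, en (f (dh φ d * g * (dh φ d)⁻¹)) r s =
      d r * en (f g) r s * φ (d s) := fun d hd g hg => by
    rw [h4 _ ((mem_H1 hp).2 ⟨d, hd, rfl⟩) g hg, en_dh hp hd.1]
  by_cases e : r = s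
  · subst e
    obtain ⟨d, hd, g, hg, e⟩ := P1.cover hp ho hi c
    have hg' := (mem_normalizer_iff.1 (dh_norm hp hd.1).2 g).1 hg
    refine ⟨_, ⟨mul_mem hg' (inv_mem hg), ?_⟩, mul_mem hg' (inv_mem hg), e⟩
    rw [h2 _ hg' _ (inv_mem hg), en_mul (h1 _ hg') (h1 _ (inv_mem hg)) hr hr, cj d hd g hg, sq g hg,
      mul_right_comm, hd.norm, one_mul, CharTwo.add_self_eq_zero]
  obtain ⟨d, hd, d1, d2⟩ : ∃ d : Fin m → F, D1 φ d ∧ d i = d o ∧ d r ≠ d s := by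
    have no : ∀ {a : Fin m}, Lo a → o ≠ a ∧ o ≠ a.rev := fun {a} ha =>
      ⟨fun e => ha.rev (by rw [← e, ho, e]; exact ha), fun e => ha.rev (by
        rw [← e, ← ho, e, Fin.rev_rev]; exact ha)⟩
    obtain ⟨j, hj, j1, -, j2, -⟩ := exists_ind hp r s
    by_cases e1 : i = r
    · subst e1
      obtain ⟨d, hd, -, d2, -, d4⟩ := sep0 hp (Ind.of_lo hs hj j2.symm).1
      have := d4 i e (hi.ne_rev hs) j1.symm (hi.ne_rev hj)
      exact ⟨d, hd, by rw [this, d4 o (no hs).1 (no hs).2 (no hj).1 (no hj).2], by rw [this]; exact d2.symm⟩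
    by_cases e2 : i = s
    · subst e2
      obtain ⟨d, hd, -, d2, -, d4⟩ := sep0 hp (Ind.of_lo hr hj j1.symm).1
      have := d4 i e1 (hi.ne_rev hr) j2.symm (hi.ne_rev hj)
      exact ⟨d, hd, by rw [this, d4 o (no hr).1 (no hr).2 (no hj).1 (no hj).2], by rw [this]; exact d2⟩
    obtain ⟨d, hd, d1, -, -, d4⟩ := sep0 hp (Ind.of_lo hr hs e).1
    exact ⟨d, hd, by rw [d4 i e1 (hi.ne_rev hr) e2 (hi.ne_rev hs), d4 o (no hr).1 (no hr).2 (no hs).1 (no hs).2],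
      d1⟩
  obtain ⟨g, hg, e'⟩ := nv_sur hp ho (single_mem_Wv hi c)
  refine ⟨g, ⟨hg, ?_⟩, hg, e'⟩
  have hg' := (mem_normalizer_iff.1 (dh_norm hp hd.1).2 g).1 hg
  have k := h3 _ ((nv_eq_zero hp (mul_mem hg' hg)).1 (by
    rw [nv_mul hp hg' hg, nv_dh hp ho hd.1, e', P1.mul_single, ← Pi.single_smul', smul_eq_mul, d1,
      inv_mul_cancel_left₀ (hd.1.ne o), CharTwo.add_self_eq_zero]))
  have k2 := congrArg (fun a => en a r s) k
  simp only [h2 _ hg' _ hg, en_mul (h1 _ hg') (h1 _ hg) hr hs, cj d hd g hg, en_one hr hs] at k2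
  by_contra n
  refine d2 (mul_left_cancel₀ n ?_)
  linear_combination d s * k2 - d r * en (f g) r s * hd.norm s - d s * en (f g) r s * CharTwo.two_eq_zero (R := F)

/-- `[y, ρ g] = ρ (ψ y g)` is bimultiplicative (`ρ(AA)` is central in `P`).  For `y` with
`Lm y (zl 0 1)` let `y'` be the product of the conjugates of `y` under `ρ(H1)` (list product, any
order): `Lm y' (zl 0 1)` (`H1_odd`) and `ψ y'` is equivariant, so trivial (`hom_QW`).  `irr`. -/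
theorem Pp.cent (hp : Pa m φ) (h : Pp ρ t P) {a : SU m φ} (ha : a ∈ AA m φ) :
    ∃ y ∈ P, Lm ρ t y a ∧ ∀ g ∈ QW m φ, Commute y (ρ g) := by
  obtain ⟨y, hy, l⟩ := P1.irr hp h.toSt (J := P ⊓ centralizer (((QW m φ).map ρ : Subgroup G) : Set G))
    (fun l hl y hy => ⟨h.conj hp (Lv_norm hp hl) hy.1, fun x hx => by
      have := hy.2 _ ((mem_normalizer_iff''.1 (norm_map (π := ρ) (Lv_norm_QW hp hl)) x).1 hx)
      calc x * (ρ l * y * (ρ l)⁻¹) = ρ l * ((ρ l)⁻¹ * x * ρ l * y) * (ρ l)⁻¹ := by group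
        _ = _ := by rw [this]; group⟩) (by
    obtain ⟨y, hy, l⟩ := h.sur _ (zl_mem_AA (P1.lo0 hp) 1)
    have nA : ∀ η ∈ H1 m φ, η ∈ normalizer (AA m φ : Set (SU m φ)) ∧
        η ∈ normalizer (QW m φ : Set (SU m φ)) ∧ η * zl φ 0 1 * η⁻¹ = zl φ 0 1 := fun η hη => by
      obtain ⟨d, hd, rfl⟩ := (mem_H1 hp).1 hη
      exact ⟨(dh_norm hp hd.1).1, (dh_norm hp hd.1).2, P1.dh_zl hp hd⟩
    obtain ⟨k, hk⟩ := IsPGroup.iff_card.1 h.pg
    have := h.pg.isNilpotent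
    obtain ⟨c, ⟨c1, c2⟩, c3⟩ := Cfsg.Agent.S0022.result ((H1 m φ).map ρ) P
      (by rintro _ ⟨η, hη, rfl⟩; exact mem_norm_of_le fun y hy => h.conj hp (nA η hη).1 hy)
      (hk ▸ (Nat.coprime_two_right.2 ((H1_odd hp).of_dvd_nat (card_map_dvd _ _))).pow_right k)
      (.inr inferInstance) (P0 ρ t) (h.P0_le hp)
      (fun y hy => ((h.mem y).1 hy).2.elim fun a l => h.toSt2.norm_P0 hp l)
      (by rintro _ ⟨η, hη, rfl⟩; exact P1.nP0 hp h.toSt2 (h.tc η).symm (norm_map (nA η hη).1)) y hy (by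
        rintro _ ⟨η, hη, rfl⟩
        refine h.mem_P0 hp (mul_mem (h.conj hp (nA η hη).1 hy) (inv_mem hy)) ?_
        have := (l.conj h.toSt (nA η hη).1).mul l.inv
        rwa [(nA η hη).2.2, zl_sq] at this)
    have l' := l.mul ((h.toSt2.mem_P0' hp).1 c3).2
    rw [mul_inv_cancel_left, mul_one] at l'
    refine ⟨c, ⟨c1, ?_⟩, _, zl_ne_one hp, l'⟩
    choose! f f1 f2 using fun g hg => h.comm_A hp c1 (g := g) hg
    have inj : ∀ {a b}, a ∈ AA m φ → b ∈ AA m φ → ρ a = ρ b → a = b := fun ha hb =>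
      h.toSt.injA hp (AA_le_UU ha) (AA_le_UU hb)
    have := hom_QW hp f f1 (fun g hg g' hg' => inj (f1 _ (mul_mem hg hg')) (mul_mem (f1 g hg) (f1 g' hg')) (by
        rw [f2 _ (mul_mem hg hg'), map_mul, map_mul, ← mul_inv_cancel_right (ρ (f g')) (ρ g),
          ← ((QW_cent hp hg (f1 g' hg')).map ρ).eq, f2 g hg, f2 g' hg']
        simp only [commutatorElement_def]; group))
      (fun a ha => inj (f1 _ (AA_le_QW ha)) (one_mem _) (by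
        rw [f2 _ (AA_le_QW ha), map_one, commutatorElement_eq_one_iff_commute]; exact h.cA c1 ha))
      fun η hη g hg => inj (f1 _ ((mem_normalizer_iff.1 (nA η hη).2.1 g).1 hg))
        ((mem_normalizer_iff.1 (nA η hη).1 _).1 (f1 g hg)) (by
        rw [f2 _ ((mem_normalizer_iff.1 (nA η hη).2.1 g).1 hg), map_mul, map_mul, map_mul, map_mul, map_inv,
          f2 g hg, conjugate_commutatorElement, show ρ η * c = c * ρ η from c2 _ ⟨η, hη, rfl⟩,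
          mul_inv_cancel_right])
    rintro _ ⟨g, hg, rfl⟩
    exact ((commutatorElement_eq_one_iff_commute).1 (by rw [← f2 g hg, this g hg, map_one])).symm) a ha
  exact ⟨y, hy.1, l, fun g hg => Commute.symm (hy.2 _ ⟨g, hg, rfl⟩)⟩

/-- `P ⊓ C(ρ QW)`; `QW_center` -/
theorem Pp.pq (hp : Pa m φ) (h : Pp ρ t P) : ∃ P', Pq ρ t P' := by
  have mem : ∀ y, y ∈ P ⊓ centralizer (((QW m φ).map ρ : Subgroup G) : Set G) ↔
      y ∈ P ∧ ∀ g ∈ QW m φ, Commute y (ρ g) := fun y => and_congr_right fun _ =>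
    ⟨fun k g hg => Commute.symm (k _ ⟨g, hg, rfl⟩), fun k => by
      rintro _ ⟨g, hg, rfl⟩; exact (k g hg).symm⟩
  refine ⟨P ⊓ centralizer (((QW m φ).map ρ : Subgroup G) : Set G), h.toSt2, fun y => by
    rw [mem, h.mem]; tauto, fun a ha => (h.cent hp ha).imp fun y k => ⟨(mem y).2 ⟨k.1, k.2.2⟩, k.2.1⟩,
    fun y hy c => ?_, fun y a h2 l => ?_⟩
  · obtain ⟨h1, h2⟩ := (mem y).1 hy
    obtain ⟨g, hg, e⟩ := h.ker y h1 c
    refine ⟨g, QW_center hp hg fun g' hg' => h.fr.commute (qs hp)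
      (two_of_pgroup pgroup_UU (QW_le_UU hg)) ?_, e⟩
    rcases e with rfl | rfl
    · exact h2 g' hg'
    · simpa using (h.tc g').inv_left.mul_left (h2 g' hg')
  · obtain ⟨p, p1, p2, p3⟩ := h.cent hp l.1
    obtain ⟨g, hg, e | e⟩ := h.toSt.mem_P0.1 (h.mem_P0 hp (mul_mem (inv_mem p1) ((h.mem y).2 ⟨h2, a, l⟩))
      (el_AA a l.1 ▸ p2.inv.mul l))
    · exact ⟨p, (mem p).2 ⟨p1, p3⟩, g, hg, by rw [← e, mul_inv_cancel_left]⟩
    · exact ⟨p * t, (mem _).2 ⟨mul_mem p1 (h.P0_le hp (mem_sup_left (mem_zpowers t))),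
        fun g hg => (p3 g hg).mul_left (h.tc g)⟩, g, hg, by rw [mul_assoc, ← e, mul_inv_cancel_left]⟩

end CL.UM
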