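import Cfsg.Agent.INV.UM.Base

/-!
The abelian group of order `|AA| ^ 2`.
-/

set_option autoImplicit false
set_option linter.unusedSectionVars false
set_option linter.unusedVariables false

namespace CL.UM

open Matrix Subgroup CL.SC
open scoped commutatorElement

variable {m : ℕ} [NeZero m] {F : Type*} [Field F] [Finite F] [CharP F 2] {φ : F ≃+* F}
variable {G : Type*} [Group G] [Finite G] {ρ : SU m φ →* G} {t : G}

variable {P : Subgroup G}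

theorem Pq.t_mem (h : Pq ρ t P) : t ∈ P := (h.mem t).2 ⟨two_of_sq h.toSt.tt, fun g _ => h.tc g, 1, h.toSt.lm_t⟩

theorem Pq.A_le (hp : Pa m φ) (h : Pq ρ t P) : Ar ρ ≤ P := by
  rintro _ ⟨a, ha, rfl⟩
  exact (h.mem _).2 ⟨(two_of_sq (el_AA a ha)).map ρ, fun g hg => ((QW_cent hp hg ha).map ρ).symm, 1,
    h.toSt.lm_QW hp (AA_le_QW ha)⟩

theorem Pq.nrmP (hp : Pa m φ) (h : Pq ρ t P) {n : G} (hn : Commute n t)
    (hA : n ∈ normalizer (Ar ρ : Set G)) : n ∈ normalizer (P : Set G) := mem_norm_of_le fun y hy => by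
  obtain ⟨α, h1, h2⟩ := h.toSt.au_na hp hn hA
  obtain ⟨h3, h4, a, h5⟩ := (h.mem y).1 hy
  refine (h.mem _).2 ⟨h3.conj n, fun g hg => ?_, _, h5.aut hn h1 h2⟩
  have := commute_cj (g := n).2 (h4 _ (h2.inv.qw hp hg))
  rwa [h1, MulAut.apply_inv_self] at this

theorem Pq.lm (h : Pq ρ t P) {y : G} (hy : y ∈ P) : ∃ a, Lm ρ t y a := ((h.mem y).1 hy).2.2

theorem Pq.conj (hp : Pa m φ) (h : Pq ρ t P) {l : SU m φ}
    (hl : l ∈ normalizer (AA m φ : Set (SU m φ))) {y : G} (hy : y ∈ P) : ρ l * y * (ρ l)⁻¹ ∈ P :=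
  (mem_normalizer_iff.1 (h.nrmP hp (h.tc l).symm (norm_map hl)) y).1 hy

/-- `y y ∈ Et`; if `y y = t ρ a` then `y` commutes with `t`, so `y ∈ Et`, `y y = 1` -/
theorem Pq.sq (hp : Pa m φ) (h : Pq ρ t P) {y : G} (hy : y ∈ P) : y * y ∈ Ar ρ := by
  obtain ⟨a, l⟩ := h.lm hy
  obtain ⟨g, hg, e | e⟩ := h.ker _ (mul_mem hy hy) (Lm.commute (el_AA a l.1 ▸ l.mul l))
  · exact ⟨g, hg, e.symm⟩
  have c : Commute y t := by
    have := (e ▸ (Commute.refl y).mul_right (Commute.refl y) : Commute y (t * ρ g)).mul_right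
      (l.2.1 g hg).inv_right
    rwa [mul_inv_cancel_right] at this
  rw [h.toSt.el_Et y (h.toSt.mem_Et.2 (h.ker y hy c))] at e
  exact (h.toSt.ne hp 1 g (by rw [map_one, e])).elim

theorem Pq.cm (hp : Pa m φ) (h : Pq ρ t P) {y y' : G} (hy : y ∈ P) (hy' : y' ∈ P) : ⁅y, y'⁆ ∈ Ar ρ := by
  rw [show ⁅y, y'⁆ = y * y * (y⁻¹ * y' * (y⁻¹ * y')) * (y'⁻¹ * y'⁻¹) by rw [commutatorElement_def]; group]
  exact mul_mem (mul_mem (h.sq hp hy) (h.sq hp (mul_mem (inv_mem hy) hy'))) (h.sq hp (inv_mem hy'))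

theorem Pq.cm_mul (hp : Pa m φ) (h : Pq ρ t P) {y a b : G} (hy : y ∈ P) (ha : a ∈ P) (hb : b ∈ P) :
    ⁅y, a * b⁆ = ⁅y, a⁆ * ⁅y, b⁆ := by
  obtain ⟨c, hc, e⟩ := h.cm hp hy hb
  obtain ⟨_, l⟩ := h.lm ha
  rw [show ⁅y, a * b⁆ = ⁅y, a⁆ * (a * ⁅y, b⁆ * a⁻¹) by simp only [commutatorElement_def]; group, ← e,
    (l.2.1 c hc).eq, mul_inv_cancel_right]

theorem Pq.cm_r (h : Pq ρ t P) {y y' : G} (hy : y ∈ P) {b : SU m φ} (hb : b ∈ AA m φ) :
    ⁅y, y' * ρ b⁆ = ⁅y, y'⁆ := by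
  obtain ⟨_, l⟩ := h.lm hy
  rw [show ⁅y, y' * ρ b⁆ = y * y' * (ρ b * y⁻¹) * (ρ b)⁻¹ * y'⁻¹ by simp only [commutatorElement_def]; group,
    ← (l.2.1 b hb).inv_left.eq, commutatorElement_def]; group

theorem Pq.cm_l (hp : Pa m φ) (h : Pq ρ t P) {y y' : G} (hy : y ∈ P) (hy' : y' ∈ P) {b : SU m φ}
    (hb : b ∈ AA m φ) : ⁅y * ρ b, y'⁆ = ⁅y, y'⁆ := by
  rw [← commutatorElement_inv, h.cm_r hy' hb, commutatorElement_inv]

theorem P2.cm_t (h : St ρ t) {y : G} {a : SU m φ} (l : Lm ρ t y a) : ⁅y, t⁆ = ρ a := by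
  rw [commutatorElement_def, l.2.2, (h.tc a).eq, mul_inv_cancel_right]

theorem P2.th {θ : F} (h : θ + φ θ = 1) : θ ≠ 0 ∧ 1 + θ ≠ 0 := by
  refine ⟨fun e => by simp [e] at h, fun e => ?_⟩
  rw [← CharTwo.add_eq_zero.1 e, map_one, CharTwo.add_self_eq_zero] at h
  exact zero_ne_one h

theorem P2.Lv_zero (hp : Pa m φ) {l : SU m φ} (hl : l ∈ Lv m φ) {i r : Fin m} (hi : Lo i) (hr : ¬ Lo r) :
    (l : SL m F) i r = 0 := by
  have k : ∀ w : Fin m → F, (∀ i, Lo i → w i = 0) → ∀ i, Lo i →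
      (((l : SL m F) : Matrix (Fin m) (Fin m) F) *ᵥ w) i = 0 := by
    have x : ∀ p r u, Lo p → Lo r → p ≠ r → ∀ w : Fin m → F, (∀ i, Lo i → w i = 0) → ∀ i, Lo i →
        ((((xs φ p r u : SU m φ) : SL m F) : Matrix (Fin m) (Fin m) F) *ᵥ w) i = 0 :=
      fun p r u a1 a2 a3 w hw i hi => by
      rw [xs_mulVec hp (Ind.of_lo a1 a2 a3).1, hw r a2, mul_zero, Pi.single_zero, add_zero, Pi.add_apply,
        hw i hi, Pi.single_eq_of_ne (hi.ne_rev a2), add_zero]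
    induction hl using closure_induction'' with
    | mem _ hx => obtain ⟨p, r, u, a1, a2, a3, rfl⟩ := hx; exact x p r u a1 a2 a3
    | inv_mem _ hx =>
      obtain ⟨p, r, u, a1, a2, a3, rfl⟩ := hx
      rw [inv_eq_of_mul_eq_one_right (xs_sq hp (Ind.of_lo a1 a2 a3).1 u)]
      exact x p r u a1 a2 a3
    | one => exact fun w hw i hi => (congrFun (one_mulVec w) i).trans (hw i hi)
    | mul a b _ _ h1 h2 => exact fun w hw => Hm.mul_mulVec a b w ▸ h1 _ (h2 w hw)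
  simpa using k (Pi.single r 1) (fun j hj => Pi.single_eq_of_ne (fun e : j = r => hr (e ▸ hj)) _) i hi

theorem P2.en_conj (hp : Pa m φ) {l a : SU m φ} (hl : l ∈ Lv m φ) (ha : a ∈ AA m φ) {u v : Fin m → F}
    {α β : F} (h : ∀ i j, Lo i → Lo j → en a i j = α * (u i * φ (u j)) + β * (v i * φ (v j))) :
    ∀ i j, Lo i → Lo j → en (l * a * l⁻¹) i j =
      α * ((((l : SL m F) : Matrix (Fin m) (Fin m) F) *ᵥ u) i *
        φ ((((l : SL m F) : Matrix (Fin m) (Fin m) F) *ᵥ u) j)) +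
      β * ((((l : SL m F) : Matrix (Fin m) (Fin m) F) *ᵥ v) i *
        φ ((((l : SL m F) : Matrix (Fin m) (Fin m) F) *ᵥ v) j)) := fun i j hi hj => by
  rw [(en_inn hp (gum_toGL hp l) (fun v hv => Lv_sw hp hl hv) ha (b := l * a * l⁻¹)
    (by rw [inn_toGL]; rfl)).2 i j hi hj]
  simp only [mulVec, dotProduct, map_sum, map_mul, Finset.sum_mul_sum]
  simp only [Finset.mul_sum, ← Finset.sum_add_distrib]
  refine Finset.sum_congr rfl fun r _ => Finset.sum_congr rfl fun s _ => ?_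
  split_ifs with e
  · rw [h r s e.1 e.2]
    change (l : SL m F) i r * _ * φ ((l : SL m F) j s) = _
    ring
  · rcases not_and_or.1 e with e | e
    · simp [P2.Lv_zero hp hl hi e]
    · simp [P2.Lv_zero hp hl hj e]

/-- `ρ(AA)` is central and `P / ρ(AA)` has exponent two -/
theorem Pq.exists_c (hp : Pa m φ) (h : Pq ρ t P) : ∃ c : G → G → SU m φ,
    (∀ y ∈ P, ∀ y' ∈ P, c y y' ∈ AA m φ ∧ ⁅y, y'⁆ = ρ (c y y')) := by
  choose! c h1 h2 using fun y (hy : y ∈ P) y' (hy' : y' ∈ P) => h.cm hp hy hy'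
  exact ⟨c, fun y hy y' hy' => ⟨h1 y hy y' hy', (h2 y hy y' hy').symm⟩⟩

theorem Pq.coset (hp : Pa m φ) (h : Pq ρ t P) {y y' : G} (hy : y ∈ P) (hy' : y' ∈ P) {a : SU m φ}
    (h1 : Lm ρ t y a) (h2 : Lm ρ t y' a) : ∃ b ∈ AA m φ, y' = y * ρ b ∨ y' = t * y * ρ b := by
  obtain ⟨b, hb, e | e⟩ := h.ker _ (mul_mem (inv_mem hy) hy') (Lm.commute (el_AA a h1.1 ▸ h1.inv.mul h2))
  · exact ⟨b, hb, .inl (by rw [← e, mul_inv_cancel_left])⟩
  · refine ⟨a * b, mul_mem h1.1 hb, .inr ?_⟩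
    rw [map_mul, ← mul_assoc, mul_assoc t, (h1.2.1 a h1.1).eq, ← mul_assoc, ← h1.2.2, inv_mul_cancel_right,
      mul_assoc, ← e, mul_inv_cancel_left]

/-- `l` fixes the coset `y ρ(AA)` -/
def Fc (ρ : SU m φ →* G) (y : G) (l : SU m φ) : Prop := ∃ b ∈ AA m φ, ρ l * y * (ρ l)⁻¹ = y * ρ b

/-- The stabiliser of `a` in `N(AA)` permutes the two cosets `y ρ(AA)`, `t y ρ(AA)`; the `l` with
`Fc` form a subgroup of index at most two, which contains elements of odd order and commutators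
(`xs_eq_comm` with `d` as in `sep0`, which fixes `zl i c`). -/
theorem Pq.fc (hp : Pa m φ) (h : Pq ρ t P) {y : G} (hy : y ∈ P) {i : Fin m} (hi : Lo i) {c : F}
    (h1 : Lm ρ t y (zl φ i c)) : (∀ l ∈ Lf0 φ i, Fc ρ y l) ∧ ∀ l ∈ H1 m φ, Fc ρ y l := by
  let S : Subgroup (SU m φ) := normalizer (AA m φ : Set (SU m φ)) ⊓ centralizer {zl φ i c}
  have n : ∀ {l b}, l ∈ S → b ∈ AA m φ → l * b * l⁻¹ ∈ AA m φ := fun hl hb =>
    (mem_normalizer_iff.1 hl.1 _).1 hb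
  let K : Subgroup (SU m φ) :=
    { carrier := {l | l ∈ S ∧ Fc ρ y l}
      one_mem' := ⟨one_mem _, 1, one_mem _, by simp⟩
      mul_mem' := by
        rintro l l' ⟨hl, b, hb, e⟩ ⟨hl', b', hb', e'⟩
        refine ⟨mul_mem hl hl', _, mul_mem hb (n hl hb'), ?_⟩
        simp only [map_mul, map_inv]
        calc _ = ρ l * (ρ l' * y * (ρ l')⁻¹) * (ρ l)⁻¹ := by group
          _ = ρ l * y * (ρ l)⁻¹ * (ρ l * ρ b' * (ρ l)⁻¹) := by rw [e']; group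
          _ = _ := by rw [e, mul_assoc]
      inv_mem' := by
        rintro l ⟨hl, b, hb, e⟩
        refine ⟨inv_mem hl, _, n (inv_mem hl) (inv_mem hb), ?_⟩
        simp only [map_mul, map_inv]
        calc _ = (ρ l)⁻¹ * (y * ρ b) * (ρ b)⁻¹ * (ρ l)⁻¹⁻¹ := by group
          _ = _ := by rw [← e]; group }
  have sq : ∀ l ∈ S, l * l ∈ K := fun l hl => by
    have l1 := h1.conj h.toSt hl.1
    rw [mem_centralizer_singleton_iff.1 hl.2, mul_inv_cancel_right] at l1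
    obtain ⟨b, hb, e | e⟩ := h.coset hp hy (h.conj hp hl.1 hy) h1 l1
    · exact mul_mem (show l ∈ K from ⟨hl, b, hb, e⟩) (show l ∈ K from ⟨hl, b, hb, e⟩)
    refine ⟨mul_mem hl hl, _, mul_mem hb (n hl hb), ?_⟩
    simp only [map_mul, map_inv]
    calc _ = ρ l * (ρ l * y * (ρ l)⁻¹) * (ρ l)⁻¹ := by group
      _ = ρ l * (t * y * ρ b) * (ρ l)⁻¹ := by rw [e]
      _ = ρ l * t * (ρ l)⁻¹ * (ρ l * y * (ρ l)⁻¹) * (ρ l * ρ b * (ρ l)⁻¹) := by group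
      _ = _ := by rw [e, ← (h.tc l).eq, mul_inv_cancel_right, ← mul_assoc t, ← mul_assoc t, h.toSt.tt]; group
  have cd : ∀ d, D1 φ d → dh φ d ∈ S := fun d hd => ⟨(dh_norm hp hd.1).1,
    mem_centralizer_singleton_iff.2 (by
      by_cases hc : φ c = c
      · exact mul_inv_eq_iff_eq_mul.1 (by rw [dh_zl hp hd.1 (hi.ne_rev hi) hc, hd.norm, one_mul])
      · rw [zl_junk (hi.ne_rev hi) hc, one_mul, mul_one])⟩
  refine ⟨fun l hl => ((closure_le K).2 ?_ hl).2, fun l hl => ?_⟩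
  · rintro _ ⟨p, r, u, a1, a2, a3, a4, rfl⟩
    obtain ⟨d, hd, hne, -⟩ := sep0 hp (Ind.of_lo a1 a2 a3).1
    obtain ⟨u', e⟩ := xs_eq_comm hp (Ind.of_lo a1 a2 a3).1 hd.1 hne u
    have ha := cd d hd
    have hb : xs φ p r u' ∈ S := ⟨Lv_norm hp (xs_mem_Lv a1 a2 a3 u'), mem_centralizer_singleton_iff.2
      (xs_zl hp (Ind.of_lo a1 a2 a3).1 (hi.ne_rev a1) a4.symm u' c)⟩
    rw [e]
    generalize dh φ d = a at ha
    generalize xs φ p r u' = b at hb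
    rw [show ⁅a, b⁆ = a * a * (a⁻¹ * b * (a⁻¹ * b)) * (b⁻¹ * b⁻¹) by rw [commutatorElement_def]; group]
    exact mul_mem (mul_mem (sq _ ha) (sq _ (mul_mem (inv_mem ha) hb))) (sq _ (inv_mem hb))
  · obtain ⟨d, hd, rfl⟩ := (mem_H1 hp).1 hl
    obtain ⟨k, hk⟩ := dh_odd hp hd.1
    have := sq _ (pow_mem (cd d hd) (k + 1))
    rw [← pow_add, show k + 1 + (k + 1) = 2 * k + 1 + 1 by ring, ← hk, pow_succ, pow_orderOf_eq_one,
      one_mul] at this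
    exact this.2

/-- `y` commutes modulo `F0 u u*` up to the factor `β` -/
def Bt (ρ : SU m φ →* G) (t : G) (P : Subgroup G) (y : G) (u : Fin m → F) (β : F) : Prop :=
  ∀ v ∈ Wv m F, (∀ c : F, v ≠ c • u) → ∀ y' ∈ P, Lm ρ t y' (tv φ v) →
    ∃ α : F, ∃ a ∈ AA m φ, ⁅y, y'⁆ = ρ a ∧
      ∀ i j, Lo i → Lo j → en a i j = α * (u i * φ (u j)) + β * (v i * φ (v j))

theorem Bt.conj (hp : Pa m φ) (h : Pq ρ t P) {y : G} {u : Fin m → F} {β : F}
    (hb : Bt ρ t P y u β) {l : SU m φ} (hl : l ∈ Lv m φ) : Bt ρ t P (ρ l * y * (ρ l)⁻¹)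
      (((l : SL m F) : Matrix (Fin m) (Fin m) F) *ᵥ u) β := fun v hv hc y' hy' l' => by
  have hv' := Lv_sw hp (inv_mem hl) hv
  have e0 : ((l : SL m F) : Matrix (Fin m) (Fin m) F) *ᵥ
      (((l⁻¹ : SU m φ) : SL m F) : Matrix (Fin m) (Fin m) F) *ᵥ v = v := by
    rw [← Hm.mul_mulVec, mul_inv_cancel]; exact one_mulVec v
  obtain ⟨α, a, ha, e, k⟩ := hb _ hv' (fun c e => hc c (by rw [← mulVec_smul, ← e, e0])) _
    (h.conj hp (inv_mem (Lv_norm hp hl)) hy')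
    (tv_conj hp l⁻¹ (hf_W hv hv) ▸ l'.conj h.toSt (inv_mem (Lv_norm hp hl)))
  refine ⟨α, _, (mem_normalizer_iff.1 (Lv_norm hp hl) a).1 ha, ?_, e0 ▸ P2.en_conj hp hl ha k⟩
  rw [map_mul, map_mul, map_inv, ← e, conjugate_commutatorElement, map_inv]
  congr 1; group

/-- For `u = e 0`, `v = e 1`: the commutator is fixed by `xs p r s`, `r ≥ 2`, and by `H1` (`fc` for
both elements), so (`fix_row`, `fix_H1`) has the required form.  `Lf0 0` fixes the coset of `y` and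
is transitive on the `v ∉ F e 0` (`Lf0_trans`); changing `y'` to `t y' ρ b` changes `α` only.
General `u`: `Lv_trans`. -/
theorem Pq.exists_bt (hp : Pa m φ) (h : Pq ρ t P) {y : G} (hy : y ∈ P) {u : Fin m → F}
    (hu : u ∈ Wv m F) (h0 : u ≠ 0) (h1 : Lm ρ t y (tv φ u)) : ∃ β, Bt ρ t P y u β := by
  obtain ⟨i, j2, h0', hi, -, i1, -⟩ := exists_lo3 hp
  have i0 : i ≠ 0 := fun e => by simp [e] at i1
  have w0 := single_mem_Wv (F := F) h0' 1
  have w1 := single_mem_Wv (F := F) hi 1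
  have n0 : (Pi.single (0 : Fin m) (1 : F) : Fin m → F) ≠ 0 := fun e => by simpa using congrFun e 0
  obtain ⟨l, hl, rfl⟩ := Lv_trans hp w0 hu n0 h0
  have l0 := h1.conj h.toSt (inv_mem (Lv_norm hp hl))
  have hy0 := h.conj hp (inv_mem (Lv_norm hp hl)) hy
  rw [← tv_conj hp l (hf_W w0 w0), show l⁻¹ * (l * tv φ (Pi.single 0 1) * l⁻¹) * l⁻¹⁻¹ =
    tv φ (Pi.single 0 1) by group] at l0
  suffices k : ∃ β, Bt ρ t P (ρ l⁻¹ * y * (ρ l⁻¹)⁻¹) (Pi.single 0 1) β by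
    obtain ⟨β, k⟩ := k
    have := k.conj hp h hl
    rw [show ρ l * (ρ l⁻¹ * y * (ρ l⁻¹)⁻¹) * (ρ l)⁻¹ = y by rw [map_inv]; group] at this
    exact ⟨β, this⟩
  generalize ρ l⁻¹ * y * (ρ l⁻¹)⁻¹ = y at l0 hy0
  obtain ⟨y1, hy1, l1⟩ := h.sur _ (tv_mem hp w1)
  obtain ⟨a, ha, e⟩ := h.cm hp hy0 hy1
  obtain ⟨f1, f2⟩ := h.fc hp hy0 h0' (tv_single hp (h0'.ne_rev h0') 1 ▸ l0)
  obtain ⟨f3, f4⟩ := h.fc hp hy1 hi (tv_single hp (hi.ne_rev hi) 1 ▸ l1)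
  have fx : ∀ g, Fc ρ y g → Fc ρ y1 g → Commute g a := by
    rintro g ⟨b, hb, e1⟩ ⟨b', hb', e2⟩
    refine (h.fr.commute (qs hp) (two_of_sq (el_AA a ha)) (Commute.symm (mul_inv_eq_iff_eq_mul.1 ?_))).symm
    rw [e, conjugate_commutatorElement, e1, e2, h.cm_l hp hy0 (mul_mem hy1 (h.A_le hp ⟨b', hb', rfl⟩)) hb,
      h.cm_r hy0 hb']
  have d1 := (fix_H1 hp ha).1 fun g hg => fx g (f2 g hg) (f4 g hg)
  have d2 : ∀ r, Lo r → r ≠ 0 → r ≠ i → en a r r = 0 := fun r hr r0 ri =>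
    (fix_row hp h0' hr r0.symm ha (fun u => fx _ (f1 _ (subset_closure ⟨0, r, u, h0', hr, r0.symm, r0, rfl⟩))
      (f3 _ (subset_closure ⟨0, r, u, h0', hr, r0.symm, ri, rfl⟩))) hr).1
  have d3 : ∀ r s, Lo r → Lo s → en a r s =
      en a 0 0 * ((Pi.single 0 1 : Fin m → F) r * φ ((Pi.single 0 1 : Fin m → F) s)) +
        en a i i * ((Pi.single i 1 : Fin m → F) r * φ ((Pi.single i 1 : Fin m → F) s)) := fun r s hr hs => by
    by_cases e : r = s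
    · subst e
      by_cases r0 : r = 0
      · simp [r0, i0.symm]
      by_cases ri : r = i
      · simp [ri, i0]
      simp [r0, ri, d2 r hr r0 ri]
    · rw [d1 r s hr hs e]
      simp only [Pi.single_apply]
      split_ifs <;> simp_all
  refine ⟨en a i i, fun v hv hc y' hy' l' => ?_⟩
  obtain ⟨g, hg, rfl⟩ := Lf0_trans hp h0' w1 hv ⟨i, i0, by simp⟩ (by
    by_contra! k
    exact hc (v 0) (funext fun j => by by_cases e : j = 0 <;> simp [e, k]))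
  have gL := Lf0_le 0 hg
  have l2 := l1.conj h.toSt (Lv_norm hp gL)
  have hy2 := h.conj hp (Lv_norm hp gL) hy1
  rw [tv_conj hp g (hf_W w1 w1)] at l2
  have d4 := P2.en_conj hp gL ha d3
  rw [Lf0_fix hp h0' hg] at d4
  have ha' := (mem_normalizer_iff.1 (Lv_norm hp gL) a).1 ha
  have e2 : ⁅y, ρ g * y1 * (ρ g)⁻¹⁆ = ρ (g * a * g⁻¹) := by
    obtain ⟨b, hb, e1⟩ := f1 g hg
    rw [map_mul, map_mul, map_inv, e, conjugate_commutatorElement, e1, h.cm_l hp hy0 hy2 hb]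
  obtain ⟨b, hb, rfl | rfl⟩ := h.coset hp hy2 hy' l2 l'
  · exact ⟨_, _, ha', by rw [h.cm_r hy0 hb, e2], d4⟩
  · refine ⟨en a 0 0 + 1, _, mul_mem (tv_mem hp w0) ha', by
      rw [h.cm_r hy0 hb, h.cm_mul hp hy0 h.t_mem hy2, e2, P2.cm_t h.toSt l0, ← map_mul], fun r s hr hs => ?_⟩
    rw [en_mul (tv_mem hp w0) ha' hr hs, d4 r s hr hs, en_tv hp w0 hr hs]; ring

theorem Bt.t_mul (hp : Pa m φ) (h : Pq ρ t P) {y : G} (hy : y ∈ P) {u : Fin m → F} {β : F}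
    (hb : Bt ρ t P y u β) : Bt ρ t P (t * y) u (β + 1) := fun v hv hc y' hy' l => by
  obtain ⟨α, a, ha, e, k⟩ := hb v hv hc y' hy' l
  refine ⟨α, _, mul_mem ha (tv_mem hp hv), ?_, fun i j hi hj => ?_⟩
  · rw [show ⁅t * y, y'⁆ = t * ⁅y, y'⁆ * t⁻¹ * ⁅y', t⁆⁻¹ by simp only [commutatorElement_def]; group, e,
      (h.tc a).eq, mul_inv_cancel_right, P2.cm_t h.toSt l, ← map_inv,
      inv_eq_of_mul_eq_one_right (el_AA _ l.1), map_mul]
  · rw [en_mul ha (tv_mem hp hv) hi hj, k i j hi hj, en_tv hp hv hi hj]; ring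

theorem Bt.mul_A (hp : Pa m φ) (h : Pq ρ t P) {y : G} (hy : y ∈ P) {u : Fin m → F} {β : F}
    (hb : Bt ρ t P y u β) {b : SU m φ} (hb' : b ∈ AA m φ) : Bt ρ t P (y * ρ b) u β :=
  fun v hv hc y' hy' l => by
  rw [h.cm_l hp hy hy' hb']
  exact hb v hv hc y' hy' l

/-- symmetry of the commutator; `u u*`, `v v*` are independent -/
theorem Bt.pair (hp : Pa m φ) (h : Pq ρ t P) {y y' : G} (hy : y ∈ P) (hy' : y' ∈ P)
    {u v : Fin m → F} (hu : u ∈ Wv m F) (hv : v ∈ Wv m F) (h0 : u ≠ 0) (hi : ∀ c : F, v ≠ c • u)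
    (h1 : Lm ρ t y (tv φ u)) (h2 : Lm ρ t y' (tv φ v)) {β β' : F} (hb : Bt ρ t P y u β)
    (hb' : Bt ρ t P y' v β') : ∃ a ∈ AA m φ, ⁅y, y'⁆ = ρ a ∧
      ∀ i j, Lo i → Lo j → en a i j = β' * (u i * φ (u j)) + β * (v i * φ (v j)) := by
  have hi' : ∀ c : F, u ≠ c • v := fun c e => by
    have c0 : c ≠ 0 := by rintro rfl; exact h0 (by rw [e, zero_smul])
    exact hi c⁻¹ (by rw [e, inv_smul_smul₀ c0])
  obtain ⟨α, a, ha, e, k⟩ := hb v hv hi y' hy' h2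
  obtain ⟨α', a', ha', e', k'⟩ := hb' u hu hi' y hy h1
  obtain rfl : a = a' := h.toSt.injA hp (AA_le_UU ha) (AA_le_UU ha') (by
    rw [← e', ← commutatorElement_inv, e, ← map_inv, inv_eq_of_mul_eq_one_right (el_AA a ha)])
  refine ⟨a, ha, e, ?_⟩
  by_cases n : α = β'
  · exact n ▸ k
  obtain ⟨j, hj⟩ := Function.ne_iff.1 h0
  have lj : Lo j := by_contra fun e => hj (mem_Wv.1 hu j e)
  have n1 : (α - β') * φ (u j) ≠ 0 := mul_ne_zero (sub_ne_zero.2 n) ((map_ne_zero φ).2 hj)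
  refine (hi' (((α - β') * φ (u j))⁻¹ * ((α' - β) * φ (v j))) (funext fun i => ?_)).elim
  by_cases li : Lo i
  · rw [Pi.smul_apply, smul_eq_mul, mul_assoc, eq_inv_mul_iff_mul_eq₀ n1]
    linear_combination k' i j li lj - k i j li lj
  · rw [Pi.smul_apply, mem_Wv.1 hu i li, mem_Wv.1 hv i li, smul_zero]

/-- Fix `β0` for one element.  By `conj`, `Lv_trans` every `u ≠ 0` has an element with `β0`.  Take
such elements `y 1, …, y 5` for the five vectors of `five` (`e 0`, `e 1`); their product is `ρ b` or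
`t ρ b`; its commutator with `y 1` has matrix `4 β0 u u* + β0 u u*`.  So `β0 ∈ {0, 1}`; `t_mul`. -/
theorem Pq.exists_zero (hp : Pa m φ) (h : Pq ρ t P) {u : Fin m → F} (hu : u ∈ Wv m F) (h0 : u ≠ 0) :
    ∃ y ∈ P, Lm ρ t y (tv φ u) ∧ Bt ρ t P y u 0 := by
  obtain ⟨i, j2, h0', hi, -, i1, -⟩ := exists_lo3 hp
  have i0 : i ≠ 0 := fun e => by simp [e] at i1
  have w0 := single_mem_Wv (F := F) h0' 1
  have w1 := single_mem_Wv (F := F) hi 1
  have n0 : (Pi.single (0 : Fin m) (1 : F) : Fin m → F) ≠ 0 := fun e => by simpa using congrFun e 0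
  obtain ⟨y1, hy1, l1⟩ := h.sur _ (tv_mem hp w0)
  obtain ⟨β, b1⟩ := h.exists_bt hp hy1 w0 n0 l1
  have all : ∀ v ∈ Wv m F, v ≠ 0 → ∃ y ∈ P, Lm ρ t y (tv φ v) ∧ Bt ρ t P y v β := fun v hv v0 => by
    obtain ⟨l, hl, rfl⟩ := Lv_trans hp w0 hv n0 v0
    exact ⟨_, h.conj hp (Lv_norm hp hl) hy1, tv_conj hp l (hf_W w0 w0) ▸ l1.conj h.toSt (Lv_norm hp hl),
      b1.conj hp h hl⟩
  have ex : ∀ v ∈ Wv m F, v i ≠ 0 → ∃ y ∈ P, Lm ρ t y (tv φ v) ∧ ∃ a ∈ AA m φ, ⁅y1, y⁆ = ρ a ∧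
      en a 0 0 = β + β * (v 0 * φ (v 0)) := fun v hv vi => by
    obtain ⟨y, hy, l, b⟩ := all v hv fun e => vi (by rw [e]; rfl)
    obtain ⟨a, ha, e, k⟩ := Bt.pair hp h hy1 hy w0 hv n0 (fun c e => vi (by simp [e, i0])) l1 l b1 b
    exact ⟨y, hy, l, a, ha, e, by simpa using k 0 0 h0' h0'⟩
  obtain ⟨θ, hθ⟩ := hp.th
  obtain ⟨θ0, θ1⟩ := P2.th hθ
  obtain ⟨y2, p2, l2, a2, q2, e2, k2⟩ := ex _ w1 (by simp)
  obtain ⟨y3, p3, l3, a3, q3, e3, k3⟩ := ex _ (add_mem w0 w1) (by simp [i0])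
  obtain ⟨y4, p4, l4, a4, q4, e4, k4⟩ := ex _ (add_mem w0 (Submodule.smul_mem _ θ w1)) (by simp [i0, θ0])
  obtain ⟨y5, p5, l5, a5, q5, e5, k5⟩ := ex _ (add_mem w0 (Submodule.smul_mem _ (1 + θ) w1))
    (by simp [i0, θ1])
  have p := mul_mem (mul_mem (mul_mem (mul_mem hy1 p2) p3) p4) p5
  have e := h.cm_mul hp hy1 (mul_mem (mul_mem (mul_mem hy1 p2) p3) p4) p5
  rw [h.cm_mul hp hy1 (mul_mem (mul_mem hy1 p2) p3) p4, h.cm_mul hp hy1 (mul_mem hy1 p2) p3,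
    h.cm_mul hp hy1 hy1 p2, commutatorElement_self, one_mul, e2, e3, e4, e5, ← map_mul, ← map_mul,
    ← map_mul] at e
  have q := mul_mem (mul_mem (mul_mem q2 q3) q4) q5
  have k : en (a2 * a3 * a4 * a5) 0 0 = β := by
    rw [en_mul (mul_mem (mul_mem q2 q3) q4) q5 h0' h0', en_mul (mul_mem q2 q3) q4 h0' h0',
      en_mul q2 q3 h0' h0', k2, k3, k4, k5]
    simp [i0.symm, CharTwo.add_self_eq_zero]
  obtain ⟨y, hy, l, b⟩ := all u hu h0
  obtain ⟨c, hc, e' | e'⟩ := h.ker _ p (Lm.commute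
    (five hp hθ w0 w1 ▸ (((l1.mul l2).mul l3).mul l4).mul l5)) <;> rw [e'] at e
  · rw [(commutatorElement_eq_one_iff_commute).2 (l1.2.1 c hc), ← map_one ρ] at e
    rw [← h.toSt.injA hp (one_mem _) (AA_le_UU q) e, en_one h0' h0'] at k
    exact ⟨y, hy, l, k ▸ b⟩
  · rw [h.cm_r hy1 hc, P2.cm_t h.toSt l1] at e
    rw [← h.toSt.injA hp (AA_le_UU l1.1) (AA_le_UU q) e, en_tv hp w0 h0' h0', Pi.single_eq_same, map_one,
      mul_one] at k
    have := b.t_mul hp h hy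
    rw [← k, CharTwo.add_self_eq_zero] at this
    exact ⟨t * y, mul_mem h.t_mem hy, one_mul (tv φ u) ▸ h.toSt.lm_t.mul l, this⟩

theorem Pq.comm1 (hp : Pa m φ) (h : Pq ρ t P) {y y' : G} (hy : y ∈ P) (hy' : y' ∈ P)
    {u v : Fin m → F} (hu : u ∈ Wv m F) (hv : v ∈ Wv m F) (h0 : u ≠ 0) (hi : ∀ c : F, v ≠ c • u)
    (h1 : Lm ρ t y (tv φ u)) (h2 : Lm ρ t y' (tv φ v)) (hb : Bt ρ t P y u 0) (hb' : Bt ρ t P y' v 0) :
    Commute y y' := by
  obtain ⟨a, ha, e, k⟩ := Bt.pair hp h hy hy' hu hv h0 hi h1 h2 hb hb'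
  rw [← commutatorElement_eq_one_iff_commute, e, AA_ext ha (one_mem _) fun i j hi hj => by
    rw [k i j hi hj, en_one hi hj, zero_mul, zero_mul, add_zero], map_one]

/-- Independent vectors: `pair`.  If `v = c u` take `w`, `x` with `u, w, x` independent and elements
with `β = 0` for `w, v + w, v + θ w, v + (1 + θ) w`.  Their product with `y'` lies in `Et` and
commutes with the element for `x`, so lies in `ρ(AA)`.  They commute with `y`. -/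
theorem Pq.comm0 (hp : Pa m φ) (h : Pq ρ t P) {y y' : G} (hy : y ∈ P) (hy' : y' ∈ P)
    {u v : Fin m → F} (hu : u ∈ Wv m F) (hv : v ∈ Wv m F) (h0 : u ≠ 0) (h0' : v ≠ 0)
    (h1 : Lm ρ t y (tv φ u)) (h2 : Lm ρ t y' (tv φ v)) (hb : Bt ρ t P y u 0) (hb' : Bt ρ t P y' v 0) :
    Commute y y' := by
  by_cases hi : ∀ c : F, v ≠ c • u
  · exact h.comm1 hp hy hy' hu hv h0 hi h1 h2 hb hb'
  push Not at hi
  obtain ⟨c, rfl⟩ := hi
  obtain ⟨i, ui⟩ := Function.ne_iff.1 h0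
  have li : Lo i := by_contra fun e => ui (mem_Wv.1 hu i e)
  obtain ⟨j, lj, ji, -⟩ := exists_ind hp i i
  obtain ⟨k, lk, ki, -, kj, -⟩ := exists_ind hp i j
  have wj := single_mem_Wv (F := F) lj 1
  have wk := single_mem_Wv (F := F) lk 1
  have nk : (Pi.single k (1 : F) : Fin m → F) ≠ 0 := fun e => by simpa using congrFun e k
  obtain ⟨z, hz, lz, bz⟩ := h.exists_zero hp wk nk
  have ik : ∀ r s : F, r ≠ 0 ∨ s ≠ 0 → ∀ e : F, r • u + s • Pi.single j 1 ≠ e • Pi.single k 1 :=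
    fun r s n e k => by
      have r0 : r = 0 := by simpa [ji.symm, ki.symm, show u i ≠ 0 from ui] using congrFun k i
      have s0 : s = 0 := by simpa [r0, kj.symm] using congrFun k j
      simp [r0, s0] at n
  have ex : ∀ (r s : F) (w : Fin m → F), w = r • u + s • Pi.single j 1 → s ≠ 0 →
      ∃ x ∈ P, Lm ρ t x (tv φ w) ∧ Commute y x ∧ Commute z x := by
    rintro r s _ rfl s0
    have hw := add_mem (Submodule.smul_mem _ r hu) (Submodule.smul_mem _ s wj)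
    obtain ⟨x, hx, lx, bx⟩ := h.exists_zero hp hw fun e => ik r s (.inr s0) 0 (by rw [e, zero_smul])
    refine ⟨x, hx, lx, h.comm1 hp hy hx hu hw h0 (fun e k => s0 ?_) h1 lx hb bx,
      h.comm1 hp hz hx wk hw nk (ik r s (.inr s0)) lz lx bz bx⟩
    have r0 : r = e := by simpa [ji.symm, show u i ≠ 0 from ui] using congrFun k i
    simpa [r0] using congrFun k j
  obtain ⟨θ, hθ⟩ := hp.th
  obtain ⟨θ0, θ1⟩ := P2.th hθ
  obtain ⟨y2, p2, l2, c2, d2⟩ := ex 0 1 (Pi.single j 1) (by simp) one_ne_zero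
  obtain ⟨y3, p3, l3, c3, d3⟩ := ex c 1 (c • u + Pi.single j 1) (by simp) one_ne_zero
  obtain ⟨y4, p4, l4, c4, d4⟩ := ex c θ _ rfl θ0
  obtain ⟨y5, p5, l5, c5, d5⟩ := ex c (1 + θ) _ rfl θ1
  have d1 : Commute z y' := h.comm1 hp hz hy' wk hv nk (fun e k => ik c 0 (.inl fun c0 => h0' (by
    rw [c0, zero_smul])) e (by rw [zero_smul, add_zero, k])) lz h2 bz hb'
  obtain ⟨b, hb, e | e⟩ := h.ker _ (mul_mem (mul_mem (mul_mem (mul_mem hy' p2) p3) p4) p5) (Lm.commute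
    (five hp hθ hv wj ▸ (((h2.mul l2).mul l3).mul l4).mul l5))
  · have := ((((e ▸ h1.2.1 b hb : Commute y _).mul_right c5.inv_right).mul_right c4.inv_right).mul_right
      c3.inv_right).mul_right c2.inv_right
    simpa only [mul_inv_cancel_right] using this
  · have := (e ▸ (((d1.mul_right d2).mul_right d3).mul_right d4).mul_right d5 :
      Commute z (t * ρ b)).mul_right (lz.2.1 b hb).inv_right
    rw [mul_inv_cancel_right] at this
    exact (nk ((tv_eq_one hp (hf_W wk wk)).1 (lz.eq_one hp h.toSt this))).elim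

/-- `W` is generated by `ρ(AA)` and the elements with `β = 0`; `tv_gen`.  `P = W ∪ t W` (`coset`).
`nW`: if `W' = n W n⁻¹ ≤ P` contains `t y`, `y ∈ W`, then, `W'` being abelian, every `y'' ∈ W ⊓ W'` commutes
with `t`; for `y1, y2 ∈ W'` one of `y1, y2, y1 y2` lies in `W`; choose translations by
`a1, a2, a1 a2 ≠ 1`. -/
theorem Pq.ab (hp : Pa m φ) (h : Pq ρ t P) : ∃ W, Ab ρ t W := by
  let s : Set G := (Ar ρ : Set G) ∪
    {y | y ∈ P ∧ ∃ u ∈ Wv m F, u ≠ 0 ∧ Lm ρ t y (tv φ u) ∧ Bt ρ t P y u 0}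
  have sP : s ⊆ P := fun y hy => hy.elim (fun k => h.A_le hp k) fun k => k.1
  have WP : closure s ≤ P := (closure_le _).2 sP
  have AW : Ar ρ ≤ closure s := fun y hy => subset_closure (.inl hy)
  have cA : ∀ y ∈ P, ∀ v ∈ Ar ρ, Commute y v := by
    rintro y hy _ ⟨a, ha, rfl⟩
    exact (h.lm hy).elim fun _ l => l.2.1 a ha
  have c1 : closure s ≤ centralizer s := (closure_le _).2 fun y hy x hx => by
    rcases hy with hy | ⟨hy, u, u1, u2, u3, u4⟩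
    · exact cA x (sP hx) y hy
    rcases hx with hx | ⟨hx, v, v1, v2, v3, v4⟩
    · exact (cA y hy x hx).symm
    · exact h.comm0 hp hx hy v1 u1 v2 u2 v3 u3 v4 u4
  have cm : ∀ y ∈ closure s, ∀ y' ∈ closure s, Commute y y' := fun y hy y' hy' =>
    Commute.symm (mem_centralizer_singleton_iff.1 ((closure_le (centralizer {y})).2
      (fun x hx => mem_centralizer_singleton_iff.2 (c1 hy x hx)) hy'))
  generalize hW : closure s = W at WP AW cm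
  have sur : ∀ a ∈ AA m φ, ∃ y ∈ W, Lm ρ t y a := by
    let K : Subgroup (SU m φ) :=
      { carrier := {a | ∃ y ∈ W, Lm ρ t y a}
        one_mem' := ⟨1, one_mem _, lm_one⟩
        mul_mem' := fun ⟨y, k, hy⟩ ⟨y', k', hy'⟩ => ⟨_, mul_mem k k', hy.mul hy'⟩
        inv_mem' := fun {b} ⟨y, k, hy⟩ => ⟨y, k, by rwa [inv_eq_of_mul_eq_one_right (el_AA b hy.1)]⟩ }
    refine fun a ha => tv_gen hp (K := K) (fun v hv => ?_) ha
    by_cases v0 : v = 0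
    · rw [v0, tv_zero]; exact one_mem K
    obtain ⟨y, hy, l, b⟩ := h.exists_zero hp hv v0
    exact ⟨y, hW ▸ subset_closure (.inr ⟨hy, v, hv, v0, l, b⟩), l⟩
  obtain ⟨i, j2, h0', hi, -, i1, -⟩ := exists_lo3 hp
  have i0 : i ≠ 0 := fun e => by simp [e] at i1
  obtain ⟨y1, p1, l1⟩ := sur _ (zl_mem_AA h0' 1)
  obtain ⟨y2, p2, l2⟩ := sur _ (zl_mem_AA hi 1)
  have dec : ∀ y ∈ P, y ∈ W ∨ ∃ w ∈ W, y = t * w := fun y hy => by
    obtain ⟨a, l⟩ := h.lm hy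
    obtain ⟨w, hw, l'⟩ := sur a l.1
    obtain ⟨b, hb, rfl | rfl⟩ := h.coset hp (WP hw) hy l' l
    · exact .inl (mul_mem hw (AW ⟨b, hb, rfl⟩))
    · exact .inr ⟨_, mul_mem hw (AW ⟨b, hb, rfl⟩), mul_assoc _ _ _⟩
  have tc : ∀ w ∈ W, ∃ w' ∈ W, t * w = w' * t := fun w hw => by
    obtain ⟨a, l⟩ := h.lm (WP hw)
    exact ⟨_, mul_mem hw (AW ⟨a, l.1, rfl⟩), by rw [← l.t_conj h.toSt, inv_mul_cancel_right]⟩
  refine ⟨W, h.toSt2, AW, cm, fun y hy => h.lm (WP hy), fun y hy c => ?_, sur,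
    fun n hn hA => mem_norm_of_le fun y hy => ?_, fun y hy => ((h.mem y).1 (WP hy)).2.1,
    fun y a h2 l => ?_⟩
  · obtain ⟨g, hg, rfl | rfl⟩ := h.ker y (WP hy) c
    · exact ⟨g, hg, rfl⟩
    have := mul_mem hy (inv_mem (AW ⟨g, hg, rfl⟩))
    rw [mul_inv_cancel_right] at this
    exact (zl_ne_one hp (l1.eq_one hp h.toSt (cm _ p1 _ this))).elim
  · have nP := fun x (hx : x ∈ W) => (mem_normalizer_iff.1 (h.nrmP hp hn hA) x).1 (WP hx)
    refine (dec _ (nP y hy)).elim id fun ⟨w, hw, e⟩ => False.elim ?_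
    have k : ∀ x ∈ W, ∀ a, Lm ρ t x a → n * x * n⁻¹ ∈ W → a = 1 := fun x hx a l k => by
      have := (e ▸ commute_cj (g := n).2 (cm x hx y hy)).mul_right (cm _ k w hw).inv_right
      rw [mul_inv_cancel_right, ← mul_inv_cancel_right t n, ← hn.eq] at this
      exact l.eq_one hp h.toSt (commute_cj.1 this)
    have z : ∀ {r : Fin m}, Lo r → en (zl φ r (1 : F)) r r = 1 := fun hr => by
      rw [en_zl hr (map_one φ) hr hr, if_pos ⟨rfl, rfl⟩]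
    obtain ⟨w1, q1, e1⟩ := (dec _ (nP y1 p1)).resolve_left fun e => zl_ne_one hp (k _ p1 _ l1 e)
    obtain ⟨w2, q2, e2⟩ := (dec _ (nP y2 p2)).resolve_left fun e => by
      have := z hi
      rw [k _ p2 _ l2 e, en_one hi hi] at this
      exact zero_ne_one this
    obtain ⟨w', q', e'⟩ := tc w1 q1
    have := congrArg (fun a => en a 0 0) (k _ (mul_mem p1 p2) _ (l1.mul l2) (by
      rw [← conj_mul, e1, e2, e', mul_assoc, ← mul_assoc t, h.toSt.tt, one_mul]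
      exact mul_mem q' q2))
    simp only [en_mul l1.1 l2.1 h0' h0', z h0', en_one h0' h0', en_zl hi (map_one φ) h0' h0', i0.symm,
      and_self, if_false, add_zero] at this
    exact one_ne_zero this
  · obtain ⟨p, p1, g, hg, rfl⟩ := h.max y a h2 l
    rcases dec p p1 with k | ⟨w, hw, rfl⟩
    · exact ⟨p, k, g, hg, .inl rfl⟩
    · obtain ⟨w', q', e'⟩ := tc w hw
      exact ⟨w', q', g, hg, .inr (by rw [e'])⟩

end CL.UM
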