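import Cfsg.Agent.INV.UM.CS

/-!
The commutator relation of the doubled root groups.
-/

set_option autoImplicit false
set_option linter.unusedSectionVars false
set_option linter.unusedVariables false
set_option maxHeartbeats 200000

namespace CL.UM

open Matrix Subgroup CL.SC
open scoped commutatorElement

variable {m : ℕ} [NeZero m] {F : Type*} [Field F] [Finite F] [CharP F 2] {φ : F ≃+* F}
variable {G : Type*} [Group G] [Finite G] {ρ : SU m φ →* G} {t : G}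

variable {a b c : Fin m} {y1 y2 : G}

namespace Tri

theorem abs {V X : Subgroup G} {p1 p2 : G} (hd : Dbl t V X) (tt : t * t = 1) (q1 : y1 * y1 = 1) (q2 : y2 * y2 = 1)
    (e1 : y1 * t * y1⁻¹ = t * p1) (e2 : y2 * t * y2⁻¹ = t * p2)
    (c : ∀ z ∈ X, Commute z y1 ∧ Commute z y2 ∧ Commute z p1 ∧ Commute z p2) (h1 : ⁅y1, p2⁆ ∈ X)
    (h2 : ⁅y2, p1⁆ ∈ X) (h3 : p2⁻¹ * p1⁻¹ * p2 * p1 ∈ X) : ∃ ζ ∈ X, Commute (ζ * ⁅y1, y2⁆) t := by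
  obtain ⟨s1, hs1⟩ : ∃ s, s = y1 * y2 * t * (y1 * y2)⁻¹ := ⟨_, rfl⟩
  obtain ⟨s2, hs2⟩ : ∃ s, s = y2 * y1 * t * (y2 * y1)⁻¹ := ⟨_, rfl⟩
  have f1 : s1 = t * (p1 * p2 * ⁅y1, p2⁆) := by
    calc _ = y1 * (y2 * t * y2⁻¹) * y1⁻¹ := by rw [hs1]; group
      _ = y1 * t * y1⁻¹ * (⁅y1, p2⁆ * p2) := by rw [commutatorElement_def, e2]; group
      _ = _ := by rw [e1, (c _ h1).2.2.2.eq]; group
  have f2 : s2 = t * (p2 * p1 * ⁅y2, p1⁆) := by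
    calc _ = y2 * (y1 * t * y1⁻¹) * y2⁻¹ := by rw [hs2]; group
      _ = y2 * t * y2⁻¹ * (⁅y2, p1⁆ * p1) := by rw [commutatorElement_def, e1]; group
      _ = _ := by rw [e2, (c _ h2).2.2.1.eq]; group
  have v : s1⁻¹ * s2 ∈ X := by
    convert mul_mem (mul_mem (inv_mem h1) h3) h2 using 1
    rw [f1, f2]; group
  have i1 : s1 * s1 = 1 := by rw [hs1, conj_mul, tt, mul_one, mul_inv_cancel]
  have i2 : s2 * s2 = 1 := by rw [hs2, conj_mul, tt, mul_one, mul_inv_cancel]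
  have k : ∀ z ∈ X, Commute z (p1 * p2 * ⁅y1, p2⁆) := fun z hz =>
    ((c z hz).2.2.1.mul_right (c z hz).2.2.2).mul_right (hd.sq.comm hz h1)
  have c1 : Commute (s1⁻¹ * s2) s1 := by
    rw [Commute, SemiconjBy, mul_inv_cancel_left, ← inv_eq_of_mul_eq_one_right (hd.sq _ v), _root_.mul_inv_rev, inv_inv,
      mul_assoc, i1, mul_one, inv_eq_of_mul_eq_one_right i2]
  have ct : Commute (s1⁻¹ * s2) t := by
    have := c1.mul_right (k _ v).inv_right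
    rwa [show s1 * (p1 * p2 * ⁅y1, p2⁆)⁻¹ = t by rw [f1, mul_inv_cancel_right]] at this
  obtain ⟨ζ, hζ, e⟩ := hd.sur _ (hd.ker _ v ct)
  refine ⟨ζ, hζ, ?_⟩
  have e' : ζ * s1 * ζ⁻¹ = s2 := by
    calc _ = ζ * t * ζ⁻¹ * t⁻¹ * (t * (ζ * (p1 * p2 * ⁅y1, p2⁆) * ζ⁻¹)) := by rw [f1]; group
      _ = _ := by rw [e, (k ζ hζ).eq, mul_inv_cancel_right, ← f1, c1.eq, mul_inv_cancel_left]
  have e2 : ζ * ⁅y1, y2⁆ = (y2 * y1)⁻¹ * (ζ * (y1 * y2)) := by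
    rw [← mul_assoc, ← ((c ζ hζ).2.1.mul_right (c ζ hζ).1).inv_right.eq, commutatorElement_def, _root_.mul_inv_rev,
      inv_eq_of_mul_eq_one_right q1, inv_eq_of_mul_eq_one_right q2]
    group
  rw [e2, Commute, SemiconjBy]
  calc _ = (y2 * y1)⁻¹ * (ζ * s1 * ζ⁻¹) * (ζ * (y1 * y2)) := by rw [hs1]; group
    _ = _ := by rw [e', hs2]; group

theorem mem (hp : Pa m φ) (h : St3 ρ t) (i : Ind a b) (u : F) : ρ (xs φ a b u) ∈ XX ρ t a b :=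
  (h.XX_dbl hp i).le (mem_map_of_mem _ ((mem_Xs hp i).2 ⟨u, rfl⟩))

theorem lam (hp : Pa m φ) (h : St3 ρ t) (i : Ind a b) (h1 : y1 ∈ XX ρ t a b) :
    ∃ u, y1 * t * y1⁻¹ = t * ρ (xs φ a b u) := by
  obtain ⟨x, hx, e⟩ := (h.XX_dbl hp i).lam y1 h1
  obtain ⟨u, rfl⟩ := (mem_Xs hp i).1 hx
  exact ⟨u, by rw [(h.tc _).eq, e, inv_mul_cancel_right]⟩

theorem cm (hp : Pa m φ) (h : St3 ρ t) (h3 : Ind3 a b c) {z : G} (hz : z ∈ XX ρ t a c) :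
    (∀ y ∈ XX ρ t a b, Commute z y) ∧ ∀ y ∈ XX ρ t b c, Commute z y :=
  ⟨h.XX_cmp hp h3.2.2 h3.1 ⟨h3.1.2.2.1, h3.1.1, h3.2.2.1.symm, h3.2.1.symm.2.1⟩ z hz,
    h.XX_cmp hp h3.2.2 h3.2.1 ⟨h3.1.2.1, h3.2.2.1, h3.2.1.1.symm, h3.2.1.2.2.2⟩ z hz⟩

theorem le (hp : Pa m φ) (h : St3 ρ t) (i : Ind a b) (ha : Lo a) (hb : Lo b.rev) : XX ρ t a b ≤ Hat t (Ar ρ) := by
  have := h.XX_le hp i (w := 1) ⟨wy_one, ha, hb⟩
  rwa [pw_one, Hs_one] at this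

theorem fl (i : Ind a b) : flip b a = a := Equiv.swap_apply_of_ne_of_ne i.1 i.2.1

end Tri

/-- `y1 t y1⁻¹ = t ρ x1`, `y2 t y2⁻¹ = t ρ x2`.  `y1 y2` maps `t` to `t ρ (x1 x2) ζ1`, `y2 y1` to
`t ρ (x2 x1) ζ2` with `ζ1, ζ2 ∈ XX a c` (`half1`, `half2`).  Both are involutions, so `ζ1`, `ζ2`
both translate by `(x1 x2) ^ 2 = [x1, x2]`, and `ζ1 ζ2 ∈ ρ(Xs a c)`.  The two images differ by
`ρ x'`, `x' ∈ Xs a c`; let `ζ` translate by `x'`.  `XX a c` commutes with `y1, y2` (`XX_cmp`). -/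
theorem St3.tri1 (hp : Pa m φ) (h : St3 ρ t) (h3 : Ind3 a b c) (h1 : y1 ∈ XX ρ t a b)
    (h2 : y2 ∈ XX ρ t b c) : ∃ ζ ∈ XX ρ t a c, Commute (ζ * ⁅y1, y2⁆) t := by
  obtain ⟨u, e1⟩ := Tri.lam hp h h3.1 h1
  obtain ⟨v, e2⟩ := Tri.lam hp h h3.2.1 h2
  refine Tri.abs (h.XX_dbl hp h3.2.2) h.toSt.tt ((h.XX_dbl hp h3.1).sq _ h1) ((h.XX_dbl hp h3.2.1).sq _ h2) e1 e2
    (fun z hz => ⟨(Tri.cm hp h h3 hz).1 _ h1, (Tri.cm hp h h3 hz).2 _ h2, (Tri.cm hp h h3 hz).1 _ (Tri.mem hp h h3.1 u),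
      (Tri.cm hp h h3 hz).2 _ (Tri.mem hp h h3.2.1 v)⟩) (h.half2 hp h3 v h1)
    (by rw [← commutatorElement_inv]; exact inv_mem (h.half1 hp h3 u h2)) ?_
  have := inv_mem (Tri.mem hp h h3.2.2 (u * v))
  rw [← xs_tri hp h3, map_commutatorElement, commutatorElement_inv, commutatorElement_def] at this
  have i1 := inv_eq_of_mul_eq_one_right ((h.XX_dbl hp h3.1).sq _ (Tri.mem hp h h3.1 u))
  have i2 := inv_eq_of_mul_eq_one_right ((h.XX_dbl hp h3.2.1).sq _ (Tri.mem hp h h3.2.1 v))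
  rwa [i1, i2] at this ⊢

/-- `a, b, c'` low.  `y2, ζ ∈ Hat`.  For `x = zl s e`, `s ≠ b`, or `x = xs s r' v`, `{s, r} ≠ {a, b}`,
`y1 (ρ x) y1⁻¹ ∈ Hat` (`XX_lng`, `XX_cmp`, or `half2` if `b ∈ {s, r}`); `cent_S'`. -/
theorem St3.tri2 (hp : Pa m φ) (h : St3 ρ t) (h3 : Ind3 a b c) (ha : Lo a) (hb : Lo b)
    (hc : Lo c.rev) (h1 : y1 ∈ XX ρ t a b) (h2 : y2 ∈ XX ρ t b c) {ζ : G} (hζ : ζ ∈ XX ρ t a c)
    (ht : Commute (ζ * ⁅y1, y2⁆) t) : ∀ x ∈ AA m φ, Commute (ζ * ⁅y1, y2⁆) (ρ x) := by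
  obtain ⟨α, hα⟩ := h.toSt.au' hp ht
  have w2 := Tri.le hp h h3.2.1 hb hc h2
  have wζ := Tri.le hp h h3.2.2 ha hc hζ
  have i1 := inv_eq_of_mul_eq_one_right ((h.XX_dbl hp h3.1).sq _ h1)
  have key : ∀ x ∈ AA m φ, ⁅y1, ρ x⁆ ∈ Hat t (Ar ρ) → α x = x := fun x hx k => by
    have wx := h.le (mem_map_of_mem ρ hx)
    refine (hα.fix (qs hp) h.fr (two_of_sq (el_AA x hx))).1 ((h.comm _ wζ _ wx).mul_left ?_)
    have := (h.comm _ w2 _ (mul_mem k wx)).map (MulAut.conj y1)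
    rw [commutatorElement_def, inv_mul_cancel_right, MulAut.conj_apply, MulAut.conj_apply,
      show y1 * (y1 * ρ x * y1⁻¹) * y1⁻¹ = y1 * y1 * ρ x * (y1 * y1)⁻¹ by group, (h.XX_dbl hp h3.1).sq _ h1,
      one_mul, inv_one, mul_one] at this
    exact this.mul_left (h.comm _ w2 _ wx).inv_left
  have kb : ∀ r v, Lo r → r ≠ b → r ≠ a → α (xs φ b r.rev v) = xs φ b r.rev v := fun r v l n n' =>
    key _ (xs_mem_AA hp hb l n.symm v) (Tri.le hp h (Ind.of_lo ha l n'.symm).2 ha (by rwa [Fin.rev_rev])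
      (h.half2 hp ⟨h3.1, (Ind.of_lo hb l n.symm).2, (Ind.of_lo ha l n'.symm).2⟩ v h1))
  refine fun x hx => hα.commute (cent_S' hp ha hb h3.1.1 (fun i e l n => key _ (zl_mem_AA l e) ?_)
    (fun i j u li lj ij n n' => ?_) x hx)
  · rw [((h.XX_lng hp h3.1 (l.ne_rev l) (l.ne_rev ha) n h1).1 e).commutator_eq]; exact one_mem _
  have ind := (Ind.of_lo li lj ij).2
  by_cases e : i = b
  · subst e
    exact kb j u lj ij.symm fun k => n' ⟨rfl, k⟩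
  by_cases e' : j = b
  · subst e'
    rw [← xs_flip hp ind, Fin.rev_rev]
    exact kb i _ li ij fun k => n ⟨k, rfl⟩
  refine key _ (xs_mem_AA hp li lj ij u) ?_
  rw [(h.XX_cmp hp h3.1 ind ⟨ha.ne_rev li, ha.ne_rev lj, Ne.symm e, by rw [Fin.rev_rev]; exact Ne.symm e'⟩ _ h1 _
    (Tri.mem hp h ind u)).commutator_eq]
  exact one_mem _

/-- `n = ζ [y1, y2]`, `n n = (y1 y2) ^ 4`; `dih` with `y = y2` gives `n = ρ g` or `t ρ g`, `g ∈ QW`; `n` and `ρ g`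
commute with `XX a c`, `t` does not.  So `n` commutes with `y2` (`cq`), and so does
`[y1, y2] = (y1 y2) ^ 2`, which `y2` inverts: `n n = 1`, `QW_inv`. -/
theorem St3.tri3 (hp : Pa m φ) (h : St3 ρ t) (h3 : Ind3 a b c) (ha : Lo a) (hb : Lo b)
    (hc : Lo c.rev) (h1 : y1 ∈ XX ρ t a b) (h2 : y2 ∈ XX ρ t b c) {ζ : G} (hζ : ζ ∈ XX ρ t a c)
    (ht : Commute (ζ * ⁅y1, y2⁆) t) : ζ * ⁅y1, y2⁆ ∈ Ar ρ ∧ ⁅y1, y2⁆ * ⁅y1, y2⁆ = 1 := by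
  have w2 := Tri.le hp h h3.2.1 hb hc h2
  have q1 := (h.XX_dbl hp h3.1).sq _ h1
  have q2 := (h.XX_dbl hp h3.2.1).sq _ h2
  have d3 := h.XX_dbl hp h3.2.2
  have ck : ∀ z ∈ XX ρ t a c, Commute z ⁅y1, y2⁆ := fun z hz =>
    have k := Tri.cm hp h h3 hz
    (((k.1 _ h1).mul_right (k.2 _ h2)).mul_right (k.1 _ h1).inv_right).mul_right (k.2 _ h2).inv_right
  have e : ⁅y1, y2⁆ = (y2 * y1)⁻¹ * (y2 * y1)⁻¹ := by
    rw [commutatorElement_def, _root_.mul_inv_rev, inv_eq_of_mul_eq_one_right q1, inv_eq_of_mul_eq_one_right q2]; group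
  have nn : ζ * ⁅y1, y2⁆ * (ζ * ⁅y1, y2⁆) = ⁅y1, y2⁆ * ⁅y1, y2⁆ := by
    rw [(ck ζ hζ).symm.mul_mul_mul_comm, d3.sq ζ hζ, one_mul]
  have z := inv_mem (mem_zpowers (y2 * y1))
  obtain ⟨g, hg, k | k⟩ := h.dih hp w2 q1 (n := ζ * ⁅y1, y2⁆)
    (by rw [nn, e]; exact mul_mem (mul_mem z z) (mul_mem z z)) ht (h.tri2 hp h3 ha hb hc h1 h2 hζ ht)
  · have c : Commute y2 ⁅y1, y2⁆ := by
      have := ((Tri.cm hp h h3 hζ).2 _ h2).symm.inv_right.mul_right (k ▸ h.cq _ w2 g hg)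
      rwa [inv_mul_cancel_left] at this
    have kk : ⁅y1, y2⁆ * ⁅y1, y2⁆ = 1 := by
      nth_rewrite 1 [← mul_inv_eq_iff_eq_mul.2 c.eq]
      rw [commutatorElement_def, inv_eq_of_mul_eq_one_right q1, inv_eq_of_mul_eq_one_right q2]
      calc _ = y2 * (y1 * (y2 * (y1 * (y2 * y2) * y1) * y2) * y1) * y2 := by group
        _ = 1 := by simp only [q1, q2, mul_one]
    refine ⟨k ▸ mem_map_of_mem ρ (QW_inv hp hg (h.toSt.injA hp (QW_le_UU (mul_mem hg hg)) (one_mem _) ?_)), kk⟩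
    rw [map_mul, ← k, nn, kk, map_one]
  · obtain ⟨z, hz, e⟩ := d3.sur _ (mem_map_of_mem ρ ((mem_Xs hp h3.2.2).2 ⟨1, rfl⟩))
    have := ((d3.sq.comm hz hζ).mul_right (ck z hz)).mul_right
      (h.cq _ (Tri.le hp h h3.2.2 ha hc hz) g hg).inv_right
    rw [k, mul_inv_cancel_right] at this
    rw [this.eq, mul_inv_cancel_right, mul_inv_cancel] at e
    exact absurd (xs_inj hp h3.2.2 ((h.fr.eq_one (qs hp) (two_of_sq (xs_sq hp h3.2.2 1)) e.symm).trans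
      (xs_zero a c).symm)) one_ne_zero

/-- `tri3` also for the frame `ru ρ (conj (pw (flip b)))` and the triple `c', b, a'` (`XX_ru`, `XX_sym`;
`[y2, y1] = [y1, y2]`); `mem_cj_pw` -/
theorem St3.tri4 (hp : Pa m φ) (h : St3 ρ t) (h3 : Ind3 a b c) (ha : Lo a) (hb : Lo b)
    (hc : Lo c.rev) (h1 : y1 ∈ XX ρ t a b) (h2 : y2 ∈ XX ρ t b c) : ∃ ζ ∈ XX ρ t a c,
      ∃ g ∈ AA m φ, g ∈ cj (pw φ (flip b)) (AA m φ) ∧ ⁅y1, y2⁆ = ζ * ρ g := by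
  obtain ⟨ζ, hζ, ht⟩ := h.tri1 hp h3 h1 h2
  obtain ⟨⟨g, hg, e⟩, kk⟩ := h.tri3 hp h3 ha hb hc h1 h2 hζ ht
  have e' : ⁅y2, y1⁆ = ⁅y1, y2⁆ := by rw [← commutatorElement_inv, inv_eq_of_mul_eq_one_right kk]
  have w := wy_flip b
  have fb : flip b b = b.rev := Equiv.swap_apply_left _ _
  have fa := Tri.fl h3.1.rev_left
  have fc := Tri.fl h3.2.1.symm.rev_left
  obtain ⟨k, -⟩ := (h.aut hp (MulAut.conj (pw φ (flip b)))).tri3 hp (a := c.rev) (b := b) (c := a.rev) (ζ := ζ)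
    ⟨h3.2.1.symm.rev_left, h3.1.symm.rev_right, h3.2.2.symm.rev_left.rev_right⟩ hc hb (by rwa [Fin.rev_rev])
    (y1 := y2) (y2 := y1) (by rwa [XX_ru hp ρ t w, fb, fc, XX_sym]) (by rwa [XX_ru hp ρ t w, fb, fa, XX_sym])
    (by rwa [XX_ru hp ρ t w, fa, fc, XX_sym]) (by rwa [e'])
  rw [Ar_ru, e', ← e] at k
  exact ⟨ζ⁻¹, inv_mem hζ, g, hg, (h.fr.mem_map (qs hp) (el_AA.map _).pgroup (two_of_sq (el_AA g hg))).1 k,
    by rw [e, inv_mul_cancel_left]⟩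

namespace Tri

theorem cent (hp : Pa m φ) (h : St3 ρ t) (ha : Lo a) (hb : Lo b) (ab : a ≠ b) (h1 : y1 ∈ XX ρ t a b)
    {d : Fin m → F} (hd : D1 φ d) (e : d a = d b) : Commute (ρ (dh φ d)) y1 := by
  have w := wy_flip b
  have h' := h.aut hp (MulAut.conj (pw φ (flip b)))
  have k : y1 ∈ XX (ru ρ (MulAut.conj (pw φ (flip b)))) t a b.rev := by
    rwa [XX_ru hp ρ t w, fl (Ind.of_lo ha hb ab).1, flip, Equiv.swap_apply_right]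
  rw [h'.XX_lo hp ha hb ab] at k
  have := h'.toAb.Xh_cent hp k ((mem_H2 hp).2 ⟨d, hd, e.trans (hd.2 b).symm, rfl⟩)
  rw [ru_apply, MulAut.conj_apply, pw_dh hp w hd.1] at this
  convert this using 3
  funext i
  have := hd.2 b
  simp only [flip, Equiv.swap_inv, Equiv.swap_apply_def]; grind

theorem low (hp : Pa m φ) (h : St3 ρ t) (h3 : Ind3 a b c) (ha : Lo a) (hb : Lo b) (hc : Lo c.rev)
    (h1 : y1 ∈ XX ρ t a b) (h2 : y2 ∈ XX ρ t b c) : ⁅y1, y2⁆ ∈ XX ρ t a c := by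
  classical
  obtain ⟨ζ, hζ, g, hg, hg', e⟩ := h.tri4 hp h3 ha hb hc h1 h2
  have ac := h3.2.2.2.1
  have x3 := h.XX_lo hp ha hc ac
  have x2 := h.XX_lo hp hb hc h3.2.1.2.1
  have xe := fun {x : SU m φ} => mem_Xs_en hp ha hc ac (a := x)
  have xk := fun {x : SU m φ} => h.toAb.Xh_ker hp ha hc ac (a := x)
  rw [← x3] at xk
  simp only [Fin.rev_rev] at x3 xe xk
  suffices g ∈ Xs φ a c from e ▸ mul_mem hζ ((h.XX_dbl hp h3.2.2).le (mem_map_of_mem ρ this))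
  refine xe.2 ⟨hg, fun r s lr ls n1 n2 => ?_⟩
  by_cases rb : r = b ∨ s = b
  · refine ((mem_cj_pw (wy_flip b)).1 hg' r s fun k => ?_).trans (Blk.one_rev lr ls)
    rw [flip, Equiv.swap_inv] at k
    rcases rb with rfl | rfl <;> rw [Equiv.swap_apply_left] at k
    exacts [hb.rev k.1, hb.rev k.2]
  let R : G → F → Prop := fun k e => ∃ ζ ∈ XX ρ t a c, ∃ g ∈ AA m φ, k = ζ * ρ g ∧ en g r s = e
  have wA : ∀ {x}, x ∈ AA m φ → ρ x ∈ Hat t (Ar ρ) := fun hx => h.le (mem_map_of_mem ρ hx)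
  have w3 := le hp h h3.2.2 ha hc
  have uq : ∀ {k e e'}, R k e → R k e' → e = e' := by
    rintro _ _ _ ⟨z, hz, x, hx, rfl, rfl⟩ ⟨z', hz', x', hx', k, rfl⟩
    have := (xe.1 (xk (mul_mem hx hx') (by
      rw [map_mul, ← inv_mul_cancel_left z (ρ x), k, mul_assoc, mul_assoc, ← map_mul, el_AA x' hx', map_one, mul_one]
      exact mul_mem (inv_mem hz) hz'))).2 r s lr ls n1 n2
    rwa [en_mul hx hx' lr ls, CharTwo.add_eq_zero] at this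
  let f : G → F := fun y => if k : ∃ e, R ⁅y1, y⁆ e then k.choose else 0
  have hf : ∀ {y e}, R ⁅y1, y⁆ e → f y = e := fun {y e} k => by
    have k' : ∃ e, R ⁅y1, y⁆ e := ⟨e, k⟩
    exact (dif_pos k').trans (uq k'.choose_spec k)
  have ex : ∀ y ∈ Xh ρ (Hat t (Ar ρ)) b c.rev.rev, ∃ ζ ∈ XX ρ t a c, ∃ g ∈ AA m φ, ⁅y1, y⁆ = ζ * ρ g := fun y hy =>
    let ⟨z, hz, x, hx, _, e⟩ := h.tri4 hp h3 ha hb hc h1 (by rwa [← x2, Fin.rev_rev] at hy)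
    ⟨z, hz, x, hx, e⟩
  obtain ⟨d, hd, dab, hs⟩ := sep4 hp ha hb hc lr ls h3.1.1 ac h3.2.1.2.1 n1 n2 (fun k => rb (.inl k.1))
    fun k => rb (.inr k.2)
  refine (hf ⟨ζ, hζ, g, hg, e, rfl⟩).symm.trans (h.toAb.wt hp hb hc h3.2.1.2.1 f (fun y hy y' hy' => ?_) hd
    (fun y hy => ?_) hs y2 (by rwa [← x2, Fin.rev_rev]))
  · obtain ⟨z, hz, x, hx, k⟩ := ex y hy
    obtain ⟨z', hz', x', hx', k'⟩ := ex y' hy'
    rw [hf ⟨z, hz, x, hx, k, rfl⟩, hf ⟨z', hz', x', hx', k', rfl⟩]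
    refine hf ⟨_, mul_mem hz hz', _, mul_mem hx hx', ?_, en_mul hx hx' lr ls⟩
    calc _ = ⁅y1, y⁆ * (y * ⁅y1, y'⁆ * y⁻¹) := by simp only [commutatorElement_def]; group
      _ = _ := by
        rw [k, k', (h.comm _ (h.toAb.Xh_le hp _ _ hy) _ (mul_mem (w3 hz') (wA hx'))).eq, mul_inv_cancel_right,
          map_mul, (h.comm _ (wA hx) _ (w3 hz')).mul_mul_mul_comm]
  · obtain ⟨z, hz, x, hx, k⟩ := ex y hy
    rw [hf ⟨z, hz, x, hx, k, rfl⟩]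
    refine hf ⟨_, (mem_normalizer_iff.1 (h.toSt.XX_tor hp hd.1 a c) z).1 hz, _,
      (mem_normalizer_iff.1 (dh_norm hp hd.1).1 x).1 hx, ?_, en_dh hp hd.1 x r s⟩
    rw [map_mul, map_mul, map_inv, conj_mul, ← k, conjugate_commutatorElement,
      (cent hp h ha hb h3.1.1 h1 hd dab).eq, mul_inv_cancel_right]

end Tri

/-- Reduce to `a, b, c'` low (`exists_wy_lo`, `XX_ru`).  By `tri4` the commutator lies in `Hat`, so is
multiplicative in `y2`.  For `(r, s) ≠ (a, c'), (c', a)` the entry `en g r s` depends only on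
`y1, y2` (`Xh_ker`); it is zero if `r = b` or `s = b`, and otherwise by `wt` for `y2` and `sep4` for
`a, b, c'` (`d a = d b`: `ρ (dh d)` centralises `y1 ∈ Xh ρ _ a b`). -/
theorem St3.tri (hp : Pa m φ) (h : St3 ρ t) (h3 : Ind3 a b c) :
    ⁅XX ρ t a b, XX ρ t b c⁆ ≤ XX ρ t a c := by
  obtain ⟨w, hw, k⟩ := exists_wy_lo {a, b, c.rev} (by unfold Ind3 Ind at h3; grind [Fin.rev_rev])
    (by unfold Ind3 Ind at h3; grind [Fin.rev_rev])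
  have e : ∀ i j, XX ρ t i j = XX (ru ρ (MulAut.conj (pw φ w))) t (w⁻¹ i) (w⁻¹ j) := fun i j => by
    simp [XX_ru hp ρ t hw]
  rw [e a b, e b c, e a c]
  exact commutator_le.2 fun _ h1 _ h2 => Tri.low hp (h.aut hp _)
    ⟨hw.inv.ind.2 h3.1, hw.inv.ind.2 h3.2.1, hw.inv.ind.2 h3.2.2⟩ (k a (by simp)) (k b (by simp))
    (hw.inv c ▸ k c.rev (by simp)) h1 h2

theorem St3.rel (hp : Pa m φ) (h : St3 ρ t) : Rel ρ t (XX ρ t) :=
  ⟨h.toSt, fun _ _ => h.XX_dbl hp, XX_sym ρ t, fun _ _ _ _ => h.XX_cmp hp, fun _ _ _ => h.tri hp,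
    fun _ a b hw => h.toSt.XX_wey hp hw a b, fun _ a b hd => h.toSt.XX_tor hp hd a b,
    fun _ _ _ h1 h2 h3 h4 _ => h.XX_lng hp h1 h2 h3 h4⟩

end CL.UM
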