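import Cfsg.Agent.INV.UM.Pur
import Cfsg.Agent.INV.SC.W5

/-!
The wreathed case does not occur (copy INV/SC/W5).
-/

set_option autoImplicit false
set_option linter.unusedSectionVars false
set_option linter.unusedVariables false

namespace CL.UM

open Matrix Subgroup CL.SC
open scoped commutatorElement

variable {m : ℕ} [NeZero m] {F : Type*} [Field F] [Finite F] [CharP F 2] {φ : F ≃+* F}
variable {G : Type*} [Group G] [Finite G] {ρ π : SU m φ →* G} {t : G} {S : Sylow 2 G}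

namespace UW5

theorem z_eq (h : Wa ρ t π) : ρ (zl φ 0 1) = π (zl φ 0 1) * tu t π (zl φ 0 1) := (h.diag _).symm

theorem z1_z (h : Wa ρ t π) : π (zl φ 0 1) * ρ (zl φ 0 1) = tu t π (zl φ 0 1) := by
  rw [z_eq h, ← mul_assoc, z1_sq, one_mul]

theorem c_z (h : Wa ρ t π) {a : SU m φ} (ha : Commute a (zl φ 0 1)) :
    Commute (π a) (ρ (zl φ 0 1)) := by
  rw [z_eq h]
  exact (ha.map π).mul_right (h.comm _ _)

theorem zU (hp : Pa m φ) : zl φ 0 1 ∈ UU m φ := AA_le_UU (UI1.zA hp)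

theorem mul_cj {w g e z : G} (hw : g * w * g⁻¹ = z) (hc : IsConj w (w * e)) :
    IsConj z (z * (g * e * g⁻¹)) := by
  rw [← hw, conj_mul]
  exact ((P2.icj w g).symm.trans hc).trans (P2.icj _ g)

end UW5

open UW5


/-- `St.au'`, `Au.fix`, `norm_QZ`, `Au.norm` -/
theorem St.norm_QZ (hp : Pa m φ) (h : St ρ t) {n : G} (h1 : Commute n t)
    (h2 : Commute n (ρ (zl φ 0 1))) : n ∈ normalizer (((QZ m φ).map ρ : Subgroup G) : Set G) := by
  obtain ⟨α, hα⟩ := h.au' hp h1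
  exact (hα.norm (qs hp) h.fr (pgroup_UU.to_le QZ_le)).2
    (CL.UM.norm_QZ hp ((hα.fix (qs hp) h.fr (two_of_sq (zl_sq _ _))).1 h2))

/-- copy `CL.SC.St.sig` -/
theorem St.sig (hp : Pa m φ) (h : St ρ t) {Y : Subgroup G} (hY : Odd (Nat.card Y))
    (ht : t ∈ normalizer (Y : Set G)) (hz : ∀ w ∈ Y, Commute w (ρ (zl φ 0 1)))
    (hQ : ∀ a ∈ QZ m φ, ρ a ∈ normalizer (Y : Set G)) {a : SU m φ} (ha : a ∈ QZ m φ) (ha2 : a * a = 1)
    {y : G} (hy : y ∈ normalizer (Y : Set G)) (hyt : y * t * y⁻¹ = t * ρ a)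
    (hya : Commute y (ρ a)) : ∀ w ∈ Y, Commute w (ρ a) := by
  have k : ∀ w ∈ Y, Commute w t → Commute w (ρ a) := fun w hw c =>
    comm_of_norm hY ((pgroup_UU.to_le QZ_le).map ρ) hw ⟨a, ha, rfl⟩ (h.norm_QZ hp c (hz w hw)) (hQ a ha)
  refine fun w hw => mem_centralizer_singleton_iff.1 (le_of_four (H := centralizer {ρ a}) hY h.tt
    (by rw [← map_mul, ha2, map_one]) (h.tc a) ht (hQ a ha)
    (fun w hw c => mem_centralizer_singleton_iff.2 (k w hw c)) (fun w hw c => mem_centralizer_singleton_iff.2 c)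
    (fun w hw c => mem_centralizer_singleton_iff.2 ?_) hw)
  have c1 := (hyt ▸ c).map (MulAut.conj y⁻¹)
  have c2 := (k _ ((mem_normalizer_iff''.1 hy w).1 hw) (by simpa [mul_assoc] using c1)).map (MulAut.conj y)
  simp only [MulAut.conj_apply, hya.eq, mul_inv_cancel_right, mul_assoc y⁻¹, mul_inv_cancel_left] at c2
  exact c2

/-- `pur` for `g z1 g⁻¹` and `g z2 g⁻¹ = g z1 g⁻¹ z`; `not_pu'` -/
theorem Ws.iso (hp : Pa m φ) (h : Ws ρ t π S) {g : G} (hg : Commute g (ρ (zl φ 0 1)))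
    (hS : g * π (zl φ 0 1) * g⁻¹ ∈ S) : g * π (zl φ 0 1) * g⁻¹ = π (zl φ 0 1) ∨
      g * π (zl φ 0 1) * g⁻¹ = π (zl φ 0 1) * ρ (zl φ 0 1) := by
  have z1S : π (zl φ 0 1) ∈ S := h.US _ (zU hp)
  have zS : ρ (zl φ 0 1) ∈ S := by
    rw [z_eq h.wa, tu_apply]
    exact mul_mem z1S (mul_mem (mul_mem h.tS z1S) (inv_mem h.tS))
  have e : g * tu t π (zl φ 0 1) * g⁻¹ = g * π (zl φ 0 1) * g⁻¹ * ρ (zl φ 0 1) := by
    rw [← z1_z h.wa, ← conj_mul, mul_inv_eq_iff_eq_mul.2 hg.eq]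
  have p1 := (h.pur hp (P2.icj _ g) (h.le_M hS)).pu
  have p2 := (h.pur hp ((z1_z2 π t).trans (P2.icj _ g)) (h.le_M (e ▸ mul_mem hS zS))).pu
  have s2 : g * tu t π (zl φ 0 1) * g⁻¹ * (g * tu t π (zl φ 0 1) * g⁻¹) = 1 := P2.cj_sq (z1_sq _) g
  rw [e, z_eq h.wa, ← sq] at s2
  rw [e, z_eq h.wa] at p2
  rw [z1_z h.wa]
  generalize g * π (zl φ 0 1) * g⁻¹ = w at *
  have a1 := h.wa.frπ.z1_ne hp
  have a2 := h.wa.fr2.z1_ne hp
  rcases p1 with p | p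
  · refine Or.inl ?_
    by_contra ne
    rw [← mul_assoc] at p2 s2
    have v := mul_mem p ⟨zl φ 0 1, rfl⟩
    refine h.wa.not_pu' (qs hp) v ?_ (fun k => ne ?_) ⟨_, rfl⟩ (z1_sq _) a2 p2
    · rwa [(h.wa.comm' v ⟨_, rfl⟩).mul_pow, sq (tu t π _), z1_sq, mul_one, sq] at s2
    · rw [eq_inv_of_mul_eq_one_left k, inv_eq_of_mul_eq_one_right (z1_sq _)]
  · refine Or.inr ?_
    by_contra ne
    rw [← mul_assoc, ← (h.wa.comm' ⟨_, rfl⟩ p).eq, mul_assoc] at p2 s2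
    have v := mul_mem p ⟨zl φ 0 1, rfl⟩
    refine h.wa.not_pu' (qs hp) ⟨_, rfl⟩ (z1_sq _) a1 v ?_ (fun k => ne ?_) p2
    · rwa [(h.wa.comm' ⟨_, rfl⟩ v).mul_pow, sq (π _), z1_sq, one_mul, sq] at s2
    · rw [eq_inv_of_mul_eq_one_left k, inv_eq_of_mul_eq_one_right (z1_sq _)]

/-- `St.sig` with `a = xs 0 j 1`, `Ind 0 j`, `y = π a`; conjugate `ρ a` by `π (xs 0 j' θ)`,
`θ + φ θ = 1` (`xs_long`, `xs_zl`, `zl_comm_UU`) -/
theorem Wa.sig (hp : Pa m φ) (h : Wa ρ t π) {Y : Subgroup G} (hY : Odd (Nat.card Y))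
    (h1 : Y ≤ centralizer {ρ (zl φ 0 1)}) (h2 : centralizer {ρ (zl φ 0 1)} ≤ normalizer (Y : Set G)) :
    ∀ o ∈ Y, Commute o (π (zl φ 0 1)) := by
  obtain ⟨j, -, l0, lj, -, e1, -⟩ := exists_lo3 hp
  have ij : Ind 0 j := (Ind.of_lo l0 lj fun e => by simp [← e] at e1).1
  obtain ⟨θ, hθ⟩ := hp.th
  have aQ := xs_mem_QZ hp ij 1
  have a2 := xs_sq hp ij 1
  have nz : ∀ {n}, Commute n (ρ (zl φ 0 1)) → n ∈ normalizer (Y : Set G) := fun hn =>
    h2 (mem_centralizer_singleton_iff.2 hn.eq)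
  have e0 := xs_long hp ij 1 θ
  rw [one_mul, map_one, one_mul, add_comm, hθ, commutatorElement_def] at e0
  have nb := nz (c_z h (zl_comm_UU (QZ_le (xs_mem_QZ hp ij.rev_right θ)) 1).symm)
  generalize xs φ 0 j 1 = a at *
  generalize xs φ 0 j.rev θ = b at *
  have ai : a⁻¹ = a := inv_eq_of_mul_eq_one_right a2
  have ti : t⁻¹ = t := inv_eq_of_mul_eq_one_right h.tt
  have ca : Commute (π a) (tu t π a) := h.comm _ _
  have k := h.toSt.sig hp hY (nz (h.tc _)) (fun w hw => mem_centralizer_singleton_iff.1 (h1 hw))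
    (fun a ha => nz ((zl_comm_UU (QZ_le ha) 1).symm.map ρ)) aQ a2 (y := π a)
    (nz (c_z h (zl_comm_UU (QZ_le aQ) 1).symm))
    (by
      rw [← h.diag, ca.eq, tu_apply, ← map_inv, ai, ti]
      simp only [← mul_assoc, h.tt, one_mul])
    (by rw [← h.diag]; exact (Commute.refl _).mul_right ca)
  have e : b * a * b⁻¹ = a * zl φ 0 1 := by
    rw [← e0, ai]
    simp only [← mul_assoc, a2, one_mul]
  have e2 : π b * ρ a * (π b)⁻¹ = ρ a * π (zl φ 0 1) := by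
    rw [← h.diag, ← conj_mul, mul_inv_eq_iff_eq_mul.2 (h.comm _ _).eq, ← map_inv, ← map_mul, ← map_mul,
      e, map_mul, mul_assoc, mul_assoc, (h.comm _ _).eq]
  intro o ho
  have k2 := commute_cj (g := π b).2 (k _ ((mem_normalizer_iff.1 (inv_mem nb) o).1 ho))
  rw [e2, show π b * ((π b)⁻¹ * o * (π b)⁻¹⁻¹) * (π b)⁻¹ = o by group] at k2
  have := (k o ho).inv_right.mul_right k2
  rwa [inv_mul_cancel_left] at this

/-- `zstar_pair` -/
theorem Ws.e1 (hp : Pa m φ) (h : Ws ρ t π S) {g : G} (hg : Commute g (ρ (zl φ 0 1))) :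
    g * π (zl φ 0 1) * g⁻¹ ∈ G0 t π := by
  rcases zstar_pair S (z1_sq _) (fun s hs => h.z_comm hp hs) (h.US _ (zU hp)) (z1_sq _)
    (fun g => h.iso hp) (fun Y => h.wa.sig hp) hg with e | e <;> rw [e]
  · exact one_G0 _
  · exact mul_mem (one_G0 _) (h.wa.rho_mem _)

theorem Ws.e2 (hp : Pa m φ) (h : Ws ρ t π S) {y : G} (hy : IsConj (π (zl φ 0 1)) y) :
    y ∈ G0 t π := by
  have tt := h.tt
  have y2 := sq_of_conj hy (z1_sq π)
  obtain ⟨i, -, i2, i1, iy, it, hc⟩ := exists_central y2 tt (Nat.not_odd_iff_even.1 fun ho => by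
    obtain ⟨d, -, e⟩ := conj_of_odd y2 tt ho
    exact h.wa.not_conj hp (one_G0 _) ((isConj_iff.2 ⟨d, e⟩).trans hy.symm))
  replace hc := hc.resolve_left fun k =>
    h.z1 hp (hy.trans k) (IsConj.refl t) ((Commute.refl t).mul_left it)
  obtain ⟨g, hw, g1, -⟩ := h.om hp hy (el_zpowers i2).pgroup fun p hp =>
    zp_comm i2 (V := zpowers y) (fun v hv => by
      obtain ⟨n, rfl⟩ := hv
      exact iy.zpow_right n) p hp y (mem_zpowers y)
  obtain ⟨r, hr, e⟩ := h.pur hp (mul_cj hw hc)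
    (M0_le (mul_mem (h.wa.G0_le (one_G0 _)) (g1 i (mem_zpowers i)).2))
  replace e := e.resolve_left fun k => h.z1' hp (y := g * i * g⁻¹)
    (Or.inl ((Subgroup.mul_mem_cancel_left π.range ⟨zl φ 0 1, rfl⟩).1 ⟨r, k.symm⟩)) (P2.cj_sq i2 g)
    (fun q => i1 (conj_eq_one_iff.1 q)) (P2.icj i g).symm (IsConj.refl t) it
  obtain ⟨s, hs⟩ := isConj_iff.1 hr.symm
  have e1 : tu t π s * g * y * (tu t π s * g)⁻¹ = π (zl φ 0 1) := by
    rw [show tu t π s * g * y * (tu t π s * g)⁻¹ = tu t π s * (g * y * g⁻¹) * (tu t π s)⁻¹ by group,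
      hw, ← (h.wa.comm _ _).eq, mul_inv_cancel_right]
  have e2 : tu t π s * g * i * (tu t π s * g)⁻¹ = ρ (zl φ 0 1) := by
    rw [show tu t π s * g * i * (tu t π s * g)⁻¹ = tu t π s * (g * i * g⁻¹) * (tu t π s)⁻¹ by group,
      eq_inv_mul_of_mul_eq e, inv_eq_of_mul_eq_one_right (z1_sq _), ← conj_mul, ← (h.wa.comm _ _).eq,
      mul_inv_cancel_right, ← map_inv, ← map_mul, ← map_mul, hs, h.wa.diag]
  generalize tu t π s * g = g' at e1 e2
  obtain ⟨r1, r2, q1, q2, e3⟩ := h.f2 hp (IsConj.refl t) h.wa.t_mem it (isConj_iff.2 ⟨g', e2⟩).symm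
  obtain ⟨k, k0, e4⟩ := h.wa.conj_z q1 q2
  rw [← e3] at e4
  have := h.e1 hp (g := k * g'⁻¹) (mul_inv_eq_iff_eq_mul.1 (by
    conv_lhs => rw [← e2]
    rw [← e4]; group))
  rw [← e1, show k * g'⁻¹ * (g' * y * g'⁻¹) * (k * g'⁻¹)⁻¹ = k * y * k⁻¹ by group] at this
  exact (Subgroup.mul_mem_cancel_left _ k0).1 ((Subgroup.mul_mem_cancel_right _ (inv_mem k0)).1 this)

/-- `closure_isTv` -/
theorem Ws.normal (hp : Pa m φ) (h : Ws ρ t π S) : (G0 t π).Normal := by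
  have key : ∀ g a, g * π a * g⁻¹ ∈ G0 t π := fun g a => by
    have : closure {a : SU m φ | IsTv a} ≤ (G0 t π).comap (tu g π) := (closure_le _).2 fun r hr =>
      h.e2 hp ((PuT.isConj (t := t) ⟨r, hr, Or.inl rfl⟩).trans (P2.icj _ g))
    rw [closure_isTv hp] at this
    exact this (mem_top a)
  refine ⟨fun n hn g => ?_⟩
  obtain ⟨a, b, rfl⟩ := h.wa.mem_G0.1 hn
  rw [← conj_mul, tu_apply, show g * (t * π b * t⁻¹) * g⁻¹ = g * t * π b * (g * t)⁻¹ by group]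
  exact mul_mem (key _ _) (key _ _)

theorem Wr.false (hp : Pa m φ) (h : Wr ρ t π) {N : Subgroup G} (hN : Al N) : False := by
  obtain ⟨ρ', π', S, h'⟩ := h.exists_ws hp
  exact h'.wa.not_normal (qs hp) (lf hp) hN (h'.normal hp)

end CL.UM
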