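import Cfsg.Agent.INV.UM.Fe

/-!
The wreathed case: construction of the factors.
-/

set_option autoImplicit false
set_option linter.unusedSectionVars false
set_option linter.unusedVariables false

namespace CL.UM

open Matrix Subgroup CL.SC
open scoped commutatorElement

variable {m : ℕ} [NeZero m] {F : Type*} [Field F] [Finite F] [CharP F 2] {φ : F ≃+* F}
variable {G : Type*} [Group G] [Finite G] {ρ : SU m φ →* G} {t : G}

variable {y : Fin m → Fin m → F → G} {θ : F} {o : Fin m}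

namespace Wp

theorem ind_of {a c : Fin m} (h : Fe.Out a c) (ha : a ≠ a.rev) (hc : c ≠ c.rev) : Ind a c :=
  ⟨h.1.symm, Fe.ne_rev_comm h.2, ha, hc⟩

theorem out_of {e a c : Fin m} (h : Fe.Out e a) (h' : ¬ Fe.Out a c) : Fe.Out e c := by
  by_cases h1 : c = a
  · rwa [h1]
  by_cases h2 : c = a.rev
  · rw [h2]; exact h.rev
  exact absurd ⟨h1, h2⟩ h'

theorem exists_lo (hp : Pa m φ) (a b : Fin m) : ∃ r : Fin m, Lo r ∧ Fe.Out r a ∧ Fe.Out r b := by
  obtain ⟨c, hc, h1, h2, h3, h4⟩ := exists_ind hp a b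
  exact ⟨c, hc, ⟨h1.symm, Fe.ne_rev_comm h2⟩, ⟨h3.symm, Fe.ne_rev_comm h4⟩⟩

theorem swap (ht : t * t = 1) {g g' : G} (h : Commute g (t * g' * t⁻¹)) :
    Commute g' (t * g * t⁻¹) := by
  have c := h.conj t
  have e : t * (t * g' * t⁻¹) * t⁻¹ = (t * t) * g' * (t * t)⁻¹ := by group
  rw [e, ht, one_mul, inv_one, mul_one] at c
  exact c.symm

theorem cross_closure {s : Set G} (h : ∀ g ∈ s, ∀ g' ∈ s, Commute g (t * g' * t⁻¹)) {g g' : G}
    (hg : g ∈ closure s) (hg' : g' ∈ closure s) : Commute g (t * g' * t⁻¹) := by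
  induction hg using closure_induction with
  | mem g hg =>
    induction hg' using closure_induction with
    | mem g' hg' => exact h g hg g' hg'
    | one => simp
    | mul a b _ _ iha ihb =>
      have := iha.mul_right ihb
      rwa [conj_mul] at this
    | inv a _ iha =>
      have := iha.inv_right
      rwa [conj_inv] at this
  | one => exact Commute.one_left _
  | mul a b _ _ iha ihb => exact iha.mul_left ihb
  | inv a _ iha => exact iha.inv_left

theorem d_mul {a b : G} (h : Commute b (t * a * t⁻¹)) :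
    a * (t * a * t⁻¹) * (b * (t * b * t⁻¹)) = a * b * (t * (a * b) * t⁻¹) := by
  calc a * (t * a * t⁻¹) * (b * (t * b * t⁻¹)) = a * (t * a * t⁻¹ * b) * (t * b * t⁻¹) := by group
    _ = _ := by rw [← h.eq]; group

theorem d_inv {a : G} (h : Commute a (t * a * t⁻¹)) :
    (a * (t * a * t⁻¹))⁻¹ = a⁻¹ * (t * a⁻¹ * t⁻¹) := by
  rw [h.eq]; group

/-- the elements which are diagonal with respect to `K` -/
def D (ρ : SU m φ →* G) (t : G) (K : Subgroup G)
    (h : ∀ g ∈ K, ∀ g' ∈ K, Commute g (t * g' * t⁻¹)) : Subgroup (SU m φ) where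
  carrier := {a | ∃ g ∈ K, ρ a = g * (t * g * t⁻¹)}
  one_mem' := ⟨1, one_mem _, by simp⟩
  mul_mem' := by
    rintro a b ⟨g, hg, e⟩ ⟨g', hg', e'⟩
    exact ⟨g * g', mul_mem hg hg', by rw [map_mul, e, e', d_mul (h g' hg' g hg)]⟩
  inv_mem' := by
    rintro a ⟨g, hg, e⟩
    exact ⟨g⁻¹, inv_mem hg, by rw [map_inv, e, d_inv (h g hg g hg)]⟩

end Wp

/-- If `Cmp` use `cmp`.  If the roots share exactly one pair: `b = c` is `tri0`, `a = d` is `tri0`
conjugated by `t`, and `a = c'`, `b = d'` reduce to these by `y c d v = y d' c' (φ v)` (`flp`).  If they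
share both pairs write `y a b u = [y a e u, y e b 1]` with `e` in a third pair. -/
theorem Co.cross (hp : Pa m φ) (h : Co ρ t false y) {a b c d : Fin m} (hab : Ind a b) (hcd : Ind c d)
    (u v : F) : Commute (y a b u) (t * y c d v * t⁻¹) := by
  have fl : ∀ c d, Ind c d → ∀ v, y c d v = y d.rev c.rev (φ v) :=
    fun c d hcd v => (h.flp c d hcd v).symm
  have hC : ∀ a b c d, Ind a b → Ind c d → (Fe.Out a c ∨ Fe.Out b d) → (Fe.Out b c ∨ Fe.Out a d) →
      ∀ u v, Commute (y a b u) (t * y c d v * t⁻¹) := by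
    intro a b c d hab hcd h1 h2 u v
    by_cases e1 : b = c
    · subst e1
      have o : Fe.Out a d := h2.resolve_left fun o => o.1 rfl
      exact h.tri0 a b d ⟨hab, hcd, Wp.ind_of o hab.2.2.1 hcd.2.2.2⟩ u v
    by_cases e2 : a = d
    · subst e2
      have o : Fe.Out b c := h2.resolve_right fun o => o.1 rfl
      exact Wp.swap h.toSt.tt
        (h.tri0 c a b ⟨hcd, hab, (Wp.ind_of o hab.2.2.2 hcd.2.2.1).symm⟩ v u)
    by_cases e3 : a = c.rev
    · subst e3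
      have o : Fe.Out b d := h1.resolve_left fun o => o.2 (Fin.rev_rev c).symm
      rw [fl c d hcd v]
      exact Wp.swap h.toSt.tt (h.tri0 d.rev c.rev b ⟨hcd.symm.rev_left.rev_right, hab,
        (Wp.ind_of o hab.2.2.2 hcd.2.2.2).symm.rev_left⟩ _ u)
    by_cases e4 : b = d.rev
    · subst e4
      have o : Fe.Out a c := h1.resolve_right fun o => o.2 (Fin.rev_rev d).symm
      rw [fl c d hcd v]
      exact h.tri0 a d.rev c.rev ⟨hab, hcd.symm.rev_left.rev_right,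
        (Wp.ind_of o hab.2.2.1 hcd.2.2.1).rev_right⟩ u _
    exact (h.cmp a b c d hab hcd ⟨e3, e2, e1, e4⟩ u v).2
  by_cases h1 : (Fe.Out a c ∨ Fe.Out b d) ∧ (Fe.Out b c ∨ Fe.Out a d)
  · exact hC a b c d hab hcd h1.1 h1.2 u v
  obtain ⟨e, -, -, hbe, hae⟩ := hab.third hp
  have oa : Fe.Out e a := ⟨hae.1, hae.2.1⟩
  have ob : Fe.Out e b := ⟨hbe.1, hbe.2.1⟩
  have ho : Fe.Out e c ∧ Fe.Out e d := by
    rw [not_and_or, not_or, not_or] at h1
    rcases h1 with h1 | h1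
    · exact ⟨Wp.out_of oa h1.1, Wp.out_of ob h1.2⟩
    · exact ⟨Wp.out_of ob h1.1, Wp.out_of oa h1.2⟩
  have e1 := h.tri a e b ⟨hae, hbe.symm, hab⟩ u 1
  rw [mul_one] at e1
  rw [← e1]
  exact Fe.comm_left (hC a e c d hae hcd (Or.inr ho.2) (Or.inl ho.1) u v)
    (hC e b c d hbe.symm hcd (Or.inl ho.1) (Or.inr ho.2) 1 v)

/-- the group generated by the `y` -/
def Y1 (y : Fin m → Fin m → F → G) : Subgroup G := closure {g | ∃ a b u, Ind a b ∧ g = y a b u}

theorem Co.cross' (hp : Pa m φ) (h : Co ρ t false y) {g g' : G} (hg : g ∈ Y1 y) (hg' : g' ∈ Y1 y) :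
    Commute g (t * g' * t⁻¹) := by
  refine Wp.cross_closure ?_ hg hg'
  rintro _ ⟨a, b, u, hab, rfl⟩ _ ⟨c, d, v, hcd, rfl⟩
  exact h.cross hp hab hcd u v

theorem Co.sx (hp : Pa m φ) (h : Co ρ t false y) {g : SU m φ} (hg : g ∈ Sx m φ) :
    ∃ p ∈ Y1 y, ρ g = p * (t * p * t⁻¹) := by
  have : Sx m φ ≤ Wp.D ρ t (Y1 y) (fun _ hg _ hg' => h.cross' hp hg hg') := by
    rw [Sx, closure_le]
    rintro _ ⟨a, b, u, hab, rfl⟩
    exact ⟨y a b u, subset_closure ⟨a, b, u, hab, rfl⟩, (h.diag a b hab u).symm⟩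
  exact this hg

theorem Wp.crossj (hp : Pa m φ) (h : Co ρ t false y) {s : SU m φ} {g g' : G}
    (hg : g ∈ cj (ρ s) (Y1 y)) (hg' : g' ∈ cj (ρ s) (Y1 y)) : Commute g (t * g' * t⁻¹) := by
  rw [mem_cj] at hg hg'
  have c := (h.cross' hp hg hg').conj (ρ s)
  have e1 : ρ s * ((ρ s)⁻¹ * g * ρ s) * (ρ s)⁻¹ = g := by group
  have e2 : ρ s * (t * ((ρ s)⁻¹ * g' * ρ s) * t⁻¹) * (ρ s)⁻¹ = t * g' * t⁻¹ := by
    calc _ = (ρ s * t) * ((ρ s)⁻¹ * g' * ρ s) * (ρ s * t)⁻¹ := by group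
      _ = _ := by rw [← (h.tc s).eq]; group
  rwa [e1, e2] at c

/-- one half of `ρ (us o a c d)` -/
noncomputable def nu (ρ : SU m φ →* G) (y : Fin m → Fin m → F → G) (θ : F) (o a r : Fin m) (c : F) : G :=
  ρ (gg φ θ o r) * (y a r c * y a r.rev (φ θ * c)) * (ρ (gg φ θ o r))⁻¹

/-- `s = r`, or `Ind3 a r s`: `gg r = gg s * pp s r * gg s` (`gg_gg`), `gg_comm`, `gg_sq`, `pp_mem`,
`sx`, `cross'` -/
theorem Co.nu_mem (hp : Pa m φ) (h : Co ρ t false y) (hθ : θ + φ θ = 1) (ho : o.rev = o)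
    {a r s : Fin m} (hr : Ind a r) (hs : Ind a s) (h1 : Lo r) (h2 : Lo s) (c : F) :
    nu ρ y θ o a r c ∈ cj (ρ (gg φ θ o s)) (Y1 y) := by
  have hw : y a r c * y a r.rev (φ θ * c) ∈ Y1 y :=
    mul_mem (subset_closure ⟨a, r, _, hr, rfl⟩) (subset_closure ⟨a, r.rev, _, hr.rev_right, rfl⟩)
  rw [mem_cj, nu]
  by_cases e : r = s
  · subst e
    convert hw using 1
    group
  have hrs : Ind r s := (Ind.of_lo h1 h2 e).1
  have c1 : Commute (ρ (gg φ θ o s)) (y a r c * y a r.rev (φ θ * c)) :=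
    (h.gg_comm hp hθ ho ⟨hr, hrs, hs⟩ c).mul_right
      (h.gg_comm hp hθ ho ⟨hr.rev_right, hrs.rev_left, hs⟩ _)
  obtain ⟨p, hp1, hp2⟩ := h.sx hp (pp_mem hp hθ hrs.symm)
  have c2 := h.cross' hp hw hp1
  generalize y a r c * y a r.rev (φ θ * c) = w at hw c1 c2 ⊢
  rw [gg_gg hp hθ ho hrs.symm, map_mul, map_mul, hp2]
  generalize ρ (gg φ θ o s) = n at c1 ⊢
  generalize t * p * t⁻¹ = q at c2 ⊢
  have e1 : n⁻¹ * (n * (p * q) * n * w * (n * (p * q) * n)⁻¹) * n =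
      p * (q * (n * w * n⁻¹) * q⁻¹) * p⁻¹ := by group
  rw [e1, c1.eq, mul_inv_cancel_right, ← c2.eq, mul_inv_cancel_right]
  exact mul_mem (mul_mem hp1 hw) (inv_mem hp1)

/-- `y e f u ∈ cj (ρ (gg s)) Y1` if `s` is outside the pairs of `e, f` (`gg_comm`).  If `e` or `f` lies in
the pair of `a` take `s` in a third pair.  Otherwise `y e f u = [y e a u, y a f 1]`. -/
theorem Co.nu_y (hp : Pa m φ) (h : Co ρ t false y) (hθ : θ + φ θ = 1) (ho : o.rev = o)
    {a r e f : Fin m} (hr : Ind a r) (h1 : Lo r) (hef : Ind e f) (c u : F) :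
    Commute (nu ρ y θ o a r c) (t * y e f u * t⁻¹) := by
  have key : ∀ e f s, Ind e f → Lo s → Ind a s → Ind e s → Ind f s → ∀ u,
      Commute (nu ρ y θ o a r c) (t * y e f u * t⁻¹) := by
    intro e f s hef hs h2 h3 h4 u
    refine Wp.crossj hp h (h.nu_mem hp hθ ho hr h2 h1 hs c) ?_
    rw [mem_cj, mul_assoc, ← (h.gg_comm hp hθ ho ⟨hef, h4, h3⟩ u).eq, inv_mul_cancel_left]
    exact subset_closure ⟨e, f, u, hef, rfl⟩
  have k1 : ∀ e f, Ind e f → ¬ Fe.Out a e → ∀ u,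
      Commute (nu ρ y θ o a r c) (t * y e f u * t⁻¹) := by
    intro e f hef ho' u
    obtain ⟨s, hs, o1, o2⟩ := Wp.exists_lo hp a f
    have hs' := hs.ne_rev hs
    have o3 := Wp.out_of o1 ho'
    exact key e f s hef hs ⟨o1.1, o1.2, hr.2.2.1, hs'⟩ ⟨o3.1, o3.2, hef.2.2.1, hs'⟩
      ⟨o2.1, o2.2, hef.2.2.2, hs'⟩ u
  have k2 : ∀ e f, Ind e f → ¬ Fe.Out a f → ∀ u,
      Commute (nu ρ y θ o a r c) (t * y e f u * t⁻¹) := by
    intro e f hef ho' u
    obtain ⟨s, hs, o1, o2⟩ := Wp.exists_lo hp a e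
    have hs' := hs.ne_rev hs
    have o3 := Wp.out_of o1 ho'
    exact key e f s hef hs ⟨o1.1, o1.2, hr.2.2.1, hs'⟩ ⟨o2.1, o2.2, hef.2.2.1, hs'⟩
      ⟨o3.1, o3.2, hef.2.2.2, hs'⟩ u
  by_cases o1 : Fe.Out a e
  swap
  · exact k1 e f hef o1 u
  by_cases o2 : Fe.Out a f
  swap
  · exact k2 e f hef o2 u
  have hae := Wp.ind_of o1 hr.2.2.1 hef.2.2.1
  have haf := Wp.ind_of o2 hr.2.2.1 hef.2.2.2
  have e1 := h.tri e a f ⟨hae.symm, haf, hef⟩ u 1
  rw [mul_one] at e1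
  rw [← e1, conjugate_commutatorElement]
  exact (Fe.comm_left (k2 e a hae.symm (fun o => o.1 rfl) u).symm
    (k1 a f haf (fun o => o.1 rfl) 1).symm).symm

/-- `nu_mem` with a common `s` (`exists_ind`) -/
theorem Co.nu_nu (hp : Pa m φ) (h : Co ρ t false y) (hθ : θ + φ θ = 1) (ho : o.rev = o)
    {a r b s : Fin m} (hr : Ind a r) (h1 : Lo r) (hs : Ind b s) (h2 : Lo s) (c d : F) :
    Commute (nu ρ y θ o a r c) (t * nu ρ y θ o b s d * t⁻¹) := by
  obtain ⟨e, he, o1, o2⟩ := Wp.exists_lo hp a b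
  have he' := he.ne_rev he
  exact Wp.crossj hp h (h.nu_mem hp hθ ho hr ⟨o1.1, o1.2, hr.2.2.1, he'⟩ h1 he c)
    (h.nu_mem hp hθ ho hs ⟨o2.1, o2.2, hs.2.2.1, he'⟩ h2 he d)

/-- `K` is generated by `Y1` and the `nu` (all middle `o`; `mid_unique`).  The `a` with `ρ a = g g^t`,
`g ∈ K`, form a subgroup: `gen_top`, `sx`, `gg_us` (`gg r` commutes with `zl a e`, `gg_x`),
`us_junk`. -/
theorem Co.exists_K (hp : Pa m φ) (h : Co ρ t false y) : ∃ K : Subgroup G,
    (∀ g ∈ K, ∀ g' ∈ K, Commute g (t * g' * t⁻¹)) ∧ (∀ g ∈ K, g * (t * g * t⁻¹) ∈ ρ.range) ∧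
      ∀ a, ∃ g ∈ K, ρ a = g * (t * g * t⁻¹) := by
  obtain ⟨θ, hθ⟩ := hp.th
  let S : Set G := {g | (∃ a b u, Ind a b ∧ g = y a b u) ∨
    ∃ o a r c, o.rev = o ∧ Ind a r ∧ Lo r ∧ g = nu ρ y θ o a r c}
  have hc : ∀ g ∈ closure S, ∀ g' ∈ closure S, Commute g (t * g' * t⁻¹) := by
    intro g hg g' hg'
    refine Wp.cross_closure ?_ hg hg'
    rintro _ (⟨a, b, u, hab, rfl⟩ | ⟨o, a, r, c, ho, har, hr, rfl⟩) _
      (⟨e, f, v, hef, rfl⟩ | ⟨o', b, s, d, ho', hbs, hs, rfl⟩)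
    · exact h.cross hp hab hef u v
    · exact Wp.swap h.toSt.tt (h.nu_y hp hθ ho' hbs hs hab d u)
    · exact h.nu_y hp hθ ho har hr hef c v
    · obtain rfl := mid_unique ho ho'
      exact h.nu_nu hp hθ ho har hr hbs hs c d
  have hnu : ∀ o a r c, Ind a r →
      ρ (gg φ θ o r * (xs φ a r c * xs φ a r.rev (φ θ * c)) * (gg φ θ o r)⁻¹) =
        nu ρ y θ o a r c * (t * nu ρ y θ o a r c * t⁻¹) := by
    intro o a r c har
    have c1 := h.cross hp har.rev_right har (φ θ * c) c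
    have c2 := h.tc (gg φ θ o r)
    rw [map_mul, map_mul, map_mul, map_inv, ← h.diag a r har, ← h.diag a r.rev har.rev_right, nu]
    generalize y a r c = p at c1 ⊢
    generalize y a r.rev (φ θ * c) = q at c1 ⊢
    generalize ρ (gg φ θ o r) = n at c2 ⊢
    calc n * (p * (t * p * t⁻¹) * (q * (t * q * t⁻¹))) * n⁻¹
        = n * (p * (t * p * t⁻¹ * q) * (t * q * t⁻¹)) * n⁻¹ := by group
      _ = n * (p * q) * n⁻¹ * ((n * t) * (p * q) * (n * t)⁻¹) := by rw [← c1.eq]; group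
      _ = _ := by rw [← c2.eq]; group
  refine ⟨closure S, hc, fun g hg => ?_, fun a => ?_⟩
  · induction hg using closure_induction with
    | mem g hg =>
      rcases hg with ⟨a, b, u, hab, rfl⟩ | ⟨o, a, r, c, ho, har, hr, rfl⟩
      · exact ⟨_, (h.diag a b hab u).symm⟩
      · exact ⟨_, hnu o a r c har⟩
    | one => simpa using one_mem _
    | mul a b ha hb iha ihb =>
      rw [← Wp.d_mul (hc b hb a ha)]
      exact mul_mem iha ihb
    | inv a ha iha =>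
      rw [← Wp.d_inv (hc a ha a ha)]
      exact inv_mem iha
  · have hY : Y1 y ≤ closure S := closure_mono fun g hg => Or.inl hg
    have hS : Sx m φ ≤ Wp.D ρ t (closure S) hc := fun g hg =>
      let ⟨p, h1, h2⟩ := h.sx hp hg
      ⟨p, hY h1, h2⟩
    have : Wp.D ρ t (closure S) hc = ⊤ := by
      refine gen_top hp hS fun o a c d ho ha => ?_
      by_cases hd : d + φ d = c * φ c
      swap
      · rw [us_junk hp ho ha hd]
        exact one_mem _
      obtain ⟨r, hr, o1, -⟩ := Wp.exists_lo hp a a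
      have hr' := hr.ne_rev hr
      have har : Ind a r := ⟨o1.1, o1.2, ha, hr'⟩
      obtain ⟨e, he, hu⟩ := gg_us hp hθ ho har hd
      have c1 : Commute (gg φ θ o r) (zl φ a e) := by
        have := CL.UM.gg_x hp hθ ho hr' (i := a) (j := a.rev)
          ⟨fun e => ha (by rw [e, ho]), o1.1, o1.2⟩
          ⟨fun e => ha (by rw [← Fin.rev_rev a, e, ho, ho]), o1.rev.1, o1.rev.2⟩ e
        rw [← zl_val ha he] at this
        exact Subtype.ext this.eq
      have e1 : us φ o a c d = gg φ θ o r * (xs φ a r c * xs φ a r.rev (φ θ * c)) *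
          (gg φ θ o r)⁻¹ * zl φ a e := by
        rw [hu, mul_assoc _ (gg φ θ o r)⁻¹, c1.inv_left.eq]
        group
      rw [e1]
      exact mul_mem ⟨_, subset_closure (Or.inr ⟨o, a, r, c, ho, har, hr, rfl⟩), hnu o a r c har⟩
        (hS (zl_mem_Sx hp a e))
    have ha : a ∈ Wp.D ρ t (closure S) hc := by rw [this]; exact mem_top a
    exact ha

/-- `δ g = g g^t` is a homomorphism from `K` onto the range of `ρ` with central kernel;
`exists_lift_hom` for `ρ.rangeRestrict` -/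
theorem Co.wr (hp : Pa m φ) (h3 : St3 ρ t) (h : Co ρ t false y) : ∃ π, Wr ρ t π := by
  obtain ⟨K, h1, h2, h4⟩ := h.exists_K hp
  let δ : K →* ρ.range :=
    { toFun := fun g => ⟨g * (t * g * t⁻¹), h2 g g.2⟩
      map_one' := Subtype.ext (by simp)
      map_mul' := fun a b => Subtype.ext (Wp.d_mul (h1 b b.2 a a.2)).symm }
  obtain ⟨η, hη⟩ := exists_lift_hom hp ρ.rangeRestrict δ (by
      rintro ⟨_, a, rfl⟩
      obtain ⟨g, hg, e⟩ := h4 a
      exact ⟨⟨g, hg⟩, Subtype.ext e.symm⟩) (by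
      intro g hg
      have e : (g : G) * (t * g * t⁻¹) = 1 := congrArg Subtype.val hg
      rw [mem_center_iff]
      intro g'
      apply Subtype.ext
      have c := (h1 g' g'.2 g g.2).inv_right
      rw [← eq_inv_of_mul_eq_one_left e] at c
      exact c.eq)
  have hd : ∀ a, (η a : G) * (t * η a * t⁻¹) = ρ a := fun a =>
    congrArg Subtype.val (DFunLike.congr_fun hη a)
  refine ⟨K.subtype.comp η, ⟨h.toSt, fun a ha => h.fr ?_, fun a b => h1 _ (η a).2 _ (η b).2, hd⟩, h3⟩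
  have e : (η a : G) = 1 := ha
  rw [MonoidHom.mem_ker, ← hd, e]
  group

end CL.UM
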