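import Cfsg.Agent.INV.UM.IC3

/-!
The wreathed case: the conjugates of a pure transvection in the normaliser (compare INV/SC/Pur1, Pur2).
-/

set_option autoImplicit false
set_option linter.unusedSectionVars false
set_option linter.unusedVariables false

namespace CL.UM

open Matrix Subgroup CL.SC
open scoped commutatorElement

variable {m : ℕ} [NeZero m] {F : Type*} [Field F] [Finite F] [CharP F 2] {φ : F ≃+* F}
variable {G : Type*} [Group G] [Finite G] {ρ π : SU m φ →* G} {t : G} {S : Sylow 2 G}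

variable {w : G} {α β : MulAut (SU m φ)}

namespace PurA

theorem sq (hc : IsConj (π (zl φ 0 1)) w) : w * w = 1 := by
  obtain ⟨g, rfl⟩ := isConj_iff.1 hc
  exact W0.cj_sq (z1_sq π) g

theorem msq (π : SU m φ →* G) {a : SU m φ} (h : a * a = 1) : π a * π a = 1 := by
  rw [← map_mul, h, map_one]

theorem ne (hp : Pa m φ) (h : Fu π) {a : SU m φ} (h2 : a * a = 1) (h1 : a ≠ 1) : π a ≠ 1 := fun e =>
  h1 (h.eq_one (qs hp) (two_of_sq h2) e)

theorem clB (hp : Pa m φ) (h : Ws ρ t π S) {g : G} {a b : SU m φ} (a2 : a * a = 1) (a1 : a ≠ 1)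
    (b2 : b * b = 1) (b1 : b ≠ 1) (ha : g * π a * g⁻¹ ∈ π.range)
    (hb : g * tu t π b * g⁻¹ ∈ π.range) : False :=
  h.clB hp ⟨a, rfl⟩ (msq π a2) (ne hp h.frπ a2 a1) ⟨b, rfl⟩ (msq _ b2) (ne hp h.wa.fr2 b2 b1)
    (Or.inl (mul_mem ha hb))

theorem mul_cj {g e : G} (hw : g * w * g⁻¹ = π (zl φ 0 1)) (hc : IsConj w (w * e)) :
    IsConj (π (zl φ 0 1)) (π (zl φ 0 1) * (g * e * g⁻¹)) := by
  rw [← hw, conj_mul]
  exact ((W0.icj w g).symm.trans hc).trans (W0.icj _ g)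

theorem not_both (hp : Pa m φ) (h : Ty α φ) : ¬ Ty α 1 := fun h' => hp.ne (h.unique hp h')

theorem comm_zp {i : G} (h : Commute i w) : ∀ p ∈ zpowers i, Commute p w := by
  rintro _ ⟨n, rfl⟩
  exact h.zpow_left n

end PurA

open PurA

/-- `K = im β` (`exists_im`) has order at least 8 (`im_large`); `el_idx` for `cj g (K.map π')` gives
`1 ≠ v ∈ K` with `g (π' v) g⁻¹ ∈ G0`; `w ~ w * π' v` (`Au.isConj`, `v` is fixed by `β`); `clA`. -/
theorem Ws.im_mem (hp : Pa m φ) (h : Ws ρ t π S) {π' : SU m φ →* G} (hπ : π' = π ∨ π' = tu t π)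
    (h1 : Au π' w β) (hβ : NA β) (hn : ¬ ∀ x ∈ AA m φ, β x = x) {g : G}
    (hw : g * w * g⁻¹ = π (zl φ 0 1)) (hg : ∀ a ∈ im β, g * π' a * g⁻¹ ∈ M0 t π) :
    ∃ v : SU m φ, v * v = 1 ∧ v ≠ 1 ∧ g * π' v * g⁻¹ ∈ π.range := by
  have w2 : w * w = 1 := sq (isConj_iff.2 ⟨g, hw⟩).symm
  have f : Fu π' := by rcases hπ with rfl | rfl; exacts [h.frπ, h.wa.fr2]
  have b2 := h1.sq (qs hp) f w2
  obtain ⟨K, hK, e⟩ := exists_im hβ b2
  have mK : ∀ a, a ∈ K ↔ a ∈ im β := fun a => by rw [← e]; rfl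
  have el : El K := el_AA.mono (hK.trans inf_le_left)
  have c1 : 8 ≤ Nat.card K := by
    have := (im_large hp hβ b2 hn).1
    rwa [← e] at this
  have c2 := h.wa.el_idx hp (B := cj g (K.map π')) (by
    rintro _ ⟨_, ⟨a, ha, rfl⟩, rfl⟩
    exact hg a ((mK a).1 ha)) ((el.map _).map _)
  rw [card_cj, f.card_map (qs hp) el.pgroup] at c2
  have : Nontrivial (cj g (K.map π') ⊓ G0 t π : Subgroup G) := Finite.one_lt_card_iff_nontrivial.1 (by omega)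
  obtain ⟨⟨_, ⟨_, ⟨v, hv, rfl⟩, rfl⟩, h0⟩, v1⟩ := exists_ne (1 : (cj g (K.map π') ⊓ G0 t π : Subgroup G))
  have v2 := el v hv
  have v3 : v ≠ 1 := fun k => v1 (Subtype.ext (by simp [k]))
  refine ⟨v, v2, v3, h.clA hp hw ?_ (msq _ v2) (ne hp f v2 v3) h0 ?_⟩
  · rcases hπ with rfl | rfl
    exacts [Or.inl ⟨v, rfl⟩, Or.inr ⟨v, rfl⟩]
  · obtain ⟨a, ha, e1⟩ := (mK v).1 hv
    have := h1.isConj a
    rwa [show a * (β a)⁻¹ = v by
      rw [← inv_eq_of_mul_eq_one_right v2, e1, _root_.mul_inv_rev, inv_inv],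
      ← (h1.commute (hK hv).2).eq] at this

/-- `om` for `pq K1 K2`, `K1 = im α`, `K2 = im β`; `im_mem` twice, `clB` -/
theorem Ws.b1 (hp : Pa m φ) (h : Ws ρ t π S) (hc : IsConj (π (zl φ 0 1)) w) (h1 : Au π w α)
    (h2 : Au (tu t π) w β) (hα : NA α) (hβ : NA β) :
    (∀ x ∈ AA m φ, α x = x) ∨ ∀ x ∈ AA m φ, β x = x := by
  by_contra k
  rw [not_or] at k
  obtain ⟨K, hK, e⟩ := exists_im hα (h1.sq (qs hp) h.frπ (sq hc))
  obtain ⟨K', hK', e'⟩ := exists_im hβ (h2.sq (qs hp) h.wa.fr2 (sq hc))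
  obtain ⟨g, hw, g1, -⟩ := h.om hp hc (h.wa.el_pq (el_AA.mono (hK.trans inf_le_left))
    (el_AA.mono (hK'.trans inf_le_left))).pgroup fun p hp' => by
      obtain ⟨a, ha, b, hb, rfl⟩ := h.wa.mem_pq.1 hp'
      exact ((h1.commute (hK ha).2).mul_right (h2.commute (hK' hb).2)).symm
  obtain ⟨v, v2, v1, hv⟩ := h.im_mem hp (Or.inl rfl) h1 hα k.1 hw fun a ha =>
    (g1 _ (mem_sup_left ⟨a, (Set.ext_iff.1 e a).2 ha, rfl⟩)).2
  obtain ⟨v', v2', v1', hv'⟩ := h.im_mem hp (Or.inr rfl) h2 hβ k.2 hw fun a ha =>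
    (g1 _ (mem_sup_right ⟨a, (Set.ext_iff.1 e' a).2 ha, rfl⟩)).2
  exact PurA.clB hp h v2 v1 v2' v1' hv hv'

/-- Conjugate `w` by an element of the first factor so that `a = su (wr s)` (`exists_wr'`).  If
`s > 0` take `r, y` as in `stab_AA`; `om` for `pq (UU ⊓ C(a)) K2`; `g (π r) g⁻¹ ∈ G0`, `w ~ π r * w`
(`Au.isConj` for `y`: `y a y⁻¹ a⁻¹ = r`), `clA`, `im_mem`, `clB`. -/
theorem Ws.b2 (hp : Pa m φ) (h : Ws ρ t π S) (hc : IsConj (π (zl φ 0 1)) w) {a : SU m φ}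
    (ha : a * a = 1) (h1 : Au π w (MulAut.conj a)) (h2 : Au (tu t π) w β) (hβ : NA β)
    (hn : ¬ ∀ x ∈ AA m φ, β x = x) : a = 1 := by
  obtain ⟨s, hs, k⟩ := exists_wr' hp ha
  obtain ⟨c, e⟩ := isConj_iff.1 k.symm
  have a1 := ((au_self π c).mul h1).mul (au_self π c).inv
  have a2 := ((h.wa.au_one c).1.mul h2).mul (h.wa.au_one c).1.inv
  rw [← map_inv MulAut.conj, ← map_mul MulAut.conj, ← map_mul MulAut.conj, e] at a1
  rw [one_mul, inv_one, mul_one] at a2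
  replace hc := hc.trans (W0.icj w (π c))
  generalize π c * w * (π c)⁻¹ = w at *
  rcases Nat.eq_zero_or_pos s with rfl | h0
  · rw [wr_zero, show su φ (1 : SL m F) = 1 from su_coe 1] at e
    exact conj_eq_one_iff.1 e
  exfalso
  obtain ⟨r, rA, r1, hr, y, hy⟩ := stab_AA hp h0 hs
  obtain ⟨K', hK', e'⟩ := exists_im hβ (a2.sq (qs hp) h.wa.fr2 (sq hc))
  obtain ⟨g, hw, g1, g2⟩ := h.om hp hc (h.wa.pgroup_pq (P := UU m φ ⊓ centralizer {su φ (wr m F s)})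
    (pgroup_UU.to_le inf_le_left) (el_AA.mono (hK'.trans inf_le_left)).pgroup) fun p hp' => by
      obtain ⟨a, ha, b, hb, rfl⟩ := h.wa.mem_pq.1 hp'
      exact ((a1.commute (mul_inv_eq_iff_eq_mul.2 (mem_centralizer_singleton_iff.1 ha.2).symm)).mul_right
        (a2.commute (hK' hb).2)).symm
  obtain ⟨v', v2', v1', hv'⟩ := h.im_mem hp (Or.inr rfl) a2 hβ hn hw fun a ha =>
    (g1 _ (mem_sup_right ⟨a, (Set.ext_iff.1 e' a).2 ha, rfl⟩)).2
  have r2 := el_AA r rA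
  have c1 := AA_comm (wr_mem_AA (φ := φ) hs) rA
  refine PurA.clB hp h r2 r1 v2' v1' (h.clA hp hw (Or.inl ⟨r, rfl⟩) (msq _ r2) (ne hp h.frπ r2 r1)
    (g2 _ (commutator_mono le_sup_left le_sup_left (map_commutator _ _ π ▸ mem_map_of_mem π hr))) ?_) hv'
  have := a1.isConj y
  rwa [show y * (MulAut.conj (su φ (wr m F s)) y)⁻¹ = r by
    rw [MulAut.conj_apply, _root_.mul_inv_rev, _root_.mul_inv_rev, inv_inv, ← mul_assoc, ← mul_assoc, hy, c1.eq,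
      mul_inv_cancel_right], ← (a1.commute (mul_inv_eq_iff_eq_mul.2 c1.eq)).eq] at this

/-- `b1`, `outer_not_cent`, `cent_AA_inv`, `b2` -/
theorem Ws.b12 (hp : Pa m φ) (h : Ws ρ t π S) (hc : IsConj (π (zl φ 0 1)) w) (h1 : Au π w α)
    (h2 : Au (tu t π) w β) (hα : NA α) (hβ : NA β) (ht : Ty β φ) : α = 1 := by
  obtain ⟨a, ha, rfl⟩ := cent_AA_inv hp ((h.b1 hp hc h1 h2 hα hβ).resolve_right (outer_not_cent hp ht))
    (h1.sq (qs hp) h.frπ (sq hc))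
  rw [h.b2 hp hc (el_AA a ha) h1 h2 hβ (outer_not_cent hp ht), map_one]

/-- `om` for `π(UU)`, `zl_mem_comm`: `g (w z1) g⁻¹ = z1 * g z1 g⁻¹` -/
theorem Ws.mul_z1 (hp : Pa m φ) (h : Ws ρ t π S) (hc : IsConj (π (zl φ 0 1)) w) (h1 : Au π w 1) :
    ∃ y ∈ G0 t π, IsConj y (π (zl φ 0 1) * w) := by
  obtain ⟨g, hw, -, g2⟩ := h.om hp hc (pgroup_UU.map π) (by
    rintro _ ⟨a, -, rfl⟩
    exact (au_one.1 h1 a).symm)
  refine ⟨_, mul_mem (g2 _ (map_commutator _ _ π ▸ mem_map_of_mem π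
    (commutator_mono AA_le_UU le_rfl (zl_mem_comm hp 1)))) (one_G0 (zl φ 0 1)), ?_⟩
  nth_rw 2 [← hw]
  rw [conj_mul]
  exact (W0.icj _ g).symm

/-- `partner` gives `u`, `w'`; `i = w w'` acts as `β` on the first factor, so is not conjugate to an
element of `G0` (`f5`, `ty_of_mem`, `Ty.unique`).  `om` for `P = pq AA K2 ⊔ zpowers w'`, `K2 = im β`;
`ω = g w' g⁻¹ ∈ S ⊓ M0` acts as `(γ, δ)` (`Ws.na`, `ty_of_sq`), and `g i g⁻¹ = z1 ω`.  Types `(1, 1)`: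
`inn`.  `δ` of type `φ`: `γ = 1` (`b12`), `mul_z1`.  `γ` of type `φ`: `δ = 1` (`b12` for `swap`,
`z1_z2`).  By `im_mem`, `ic2`, `clB` every `g (π a) g⁻¹ ∈ G0`, `a ∈ AA`, lies in the second factor, so
commutes with `ω`, and `β a = a` (`Au.fix`).  By `el_idx` for `cj g (Ar π)`,
`qa ≤ 4 |AA ⊓ Fa β|`, against `card_im`, `im_large`. -/
theorem Ws.b3 (hp : Pa m φ) (h : Ws ρ t π S) (hc : IsConj (π (zl φ 0 1)) w) (h1 : Au π w 1)
    (h2 : Au (tu t π) w β) (hβ : NA β) : ¬ Ty β φ := by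
  intro ht
  have tt := h.tt
  have q := qs hp
  have w2 := sq hc
  have b2 := h2.sq q h.wa.fr2 w2
  have hn := outer_not_cent hp ht
  obtain ⟨u, w', u1, u2, c1, c2, c3, a1, a2⟩ := h.wa.partner q w2 h1 h2
  have w2' := sq (hc.trans c1)
  have i2 : w * w' * (w * w') = 1 := by rw [← _root_.sq, c2.mul_pow, _root_.sq, _root_.sq, w2, w2', one_mul]
  have nf : ∀ y ∈ G0 t π, ¬ IsConj y (w * w') := fun y hy c =>
    not_both hp ht (h.wa.ty_of_mem hp (h.f5 hp u1 u2 c3 hy (by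
      obtain ⟨k, rfl⟩ := isConj_iff.1 c.symm
      exact W0.cj_sq i2 k) c) (by simpa using h1.mul a1))
  obtain ⟨K, hK, e⟩ := exists_im hβ b2
  have elK := el_AA.mono (hK.trans inf_le_left)
  obtain ⟨g, hw, g1, -⟩ := h.om hp hc (P := pq t π (AA m φ) K ⊔ zpowers w')
    (pgroup_sup_norm (h.wa.el_pq el_AA elK).pgroup (el_zpowers w2').pgroup (zpowers_le_of_mem (mem_norm_of_le (by
      intro p hp'
      obtain ⟨a, ha, b, hb, rfl⟩ := h.wa.mem_pq.1 hp'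
      rw [← conj_mul, a1, a2]
      exact h.wa.mem_pq.2 ⟨_, hβ a ha, _, hb, rfl⟩))))
    fun p hp' => mem_centralizer_singleton_iff.1 ((sup_le (by
      intro p hp'
      obtain ⟨a, ha, b, hb, rfl⟩ := h.wa.mem_pq.1 hp'
      exact mem_centralizer_singleton_iff.2 ((au_one.1 h1 a).mul_right (h2.commute (hK hb).2)).symm)
      (zpowers_le_of_mem (mem_centralizer_singleton_iff.2 c2.symm)) : _ ≤ centralizer {w}) hp')
  obtain ⟨oS, o1⟩ := g1 w' (mem_sup_right (mem_zpowers w'))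
  have oc := (hc.trans c1).trans (W0.icj w' g)
  have oi : IsConj (π (zl φ 0 1) * (g * w' * g⁻¹)) (w * w') := by
    rw [← hw, conj_mul]; exact (W0.icj _ g).symm
  obtain ⟨γ, δ, b1, b2'⟩ := h.wa.au q (lf hp) o1
  have n1 := h.na hp oS b1
  have n2 := h.swap.na hp oS b2'
  rcases ty_of_sq hp (b2'.sq q h.wa.fr2 (sq oc)) with k2 | k2
  swap
  · obtain rfl := h.b12 hp oc b1 b2' n1 n2 k2
    obtain ⟨y, hy, c⟩ := h.mul_z1 hp oc b1
    exact nf y hy (c.trans oi)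
  rcases ty_of_sq hp (b1.sq q h.frπ (sq oc)) with k1 | k1
  · exact nf _ (mul_mem (one_G0 _) (h.wa.inn hp (two_of_sq (sq oc)) b1 b2' k1 k2)) oi
  obtain rfl := h.swap.b12 hp ((z1_z2 π t).symm.trans oc) b2' (by rwa [tu_tu tt]) n2 n1 k1
  obtain ⟨v, v2, v1, hv⟩ := h.im_mem hp (Or.inr rfl) h2 hβ hn hw fun a ha =>
    (g1 _ (mem_sup_left (mem_sup_right ⟨a, (Set.ext_iff.1 e a).2 ha, rfl⟩))).2
  have c4 := h.wa.el_idx hp (B := cj g (Ar π)) (by
    rintro _ ⟨p, hp', rfl⟩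
    exact (g1 _ (mem_sup_left (mem_sup_left hp'))).2) ((el_AA.map _).map _)
  have c5 : (cj g (Ar π) ⊓ G0 t π : Subgroup G) ≤ cj g ((AA m φ ⊓ Fa β).map π) := by
    rintro _ ⟨⟨_, ⟨a, ha, rfl⟩, rfl⟩, h0⟩
    refine ⟨_, ⟨a, ⟨ha, ?_⟩, rfl⟩, rfl⟩
    by_cases a0 : a = 1
    · rw [a0]; exact one_mem _
    have a3 := el_AA a ha
    obtain ⟨b, k⟩ := (h.ic2 hp (Or.inl ⟨a, rfl⟩) (msq π a3) h0 (W0.icj _ g)).resolve_left
      fun k => PurA.clB hp h a3 a0 v2 v1 k hv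
    refine (a1.fix q h.frπ (two_of_sq a3)).1 (commute_cj (g := g).1 ?_)
    exact (show tu t π b = g * π a * g⁻¹ from k) ▸ au_one.1 b2' b
  have c6 := card_le_of_le c5
  rw [card_cj, h.frπ.card_map q (el_AA.mono inf_le_left).pgroup] at c6
  rw [card_cj, h.frπ.card_map q el_AA.pgroup, card_AA hp, ← card_im hp hβ] at c4
  have c7 := (im_large hp hβ b2 hn).1
  have c8 : 0 < Nat.card (AA m φ ⊓ Fa β : Subgroup (SU m φ)) := Nat.card_pos
  nlinarith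

/-- `conj_inv`, `Ws.na`, `ty_of_sq`, `inn`, `b12`, `b3` (also for `swap`) -/
theorem Ws.pur0 (hp : Pa m φ) (h : Ws ρ t π S) (hc : IsConj (π (zl φ 0 1)) w) (h0 : w ∈ M0 t π) :
    w ∈ G0 t π := by
  have q := qs hp
  obtain ⟨n, n0, nS⟩ := h.conj_inv hp (sq hc) (M0_le h0)
  replace hc := hc.trans (W0.icj w n)
  refine (mem_normalizer_iff.1 (M0_le n0) w).2 ?_
  replace h0 := mul_mem (mul_mem n0 h0) (inv_mem n0)
  generalize n * w * n⁻¹ = w at *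
  obtain ⟨α, β, h1, h2⟩ := h.wa.au q (lf hp) h0
  have n1 := h.na hp nS h1
  have n2 := h.swap.na hp nS h2
  rcases ty_of_sq hp (h2.sq q h.wa.fr2 (sq hc)) with k2 | k2
  swap
  · obtain rfl := h.b12 hp hc h1 h2 n1 n2 k2
    exact (h.b3 hp hc h1 h2 n2 k2).elim
  rcases ty_of_sq hp (h1.sq q h.frπ (sq hc)) with k1 | k1
  · exact h.wa.inn hp (two_of_sq (sq hc)) h1 h2 k1 k2
  have hc' := (z1_z2 π t).symm.trans hc
  have h1' : Au (tu t (tu t π)) w α := by rwa [tu_tu h.tt]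
  obtain rfl := h.swap.b12 hp hc' h2 h1' n2 n1 k1
  exact (h.swap.b3 hp hc' h2 h1' n1 k1).elim

/-- copy `CL.SC.Ws.pur1` with `fs φ σ` for `std σ ε` (`ty_fs`) -/
theorem Ws.pur1 (hp : Pa m φ) (h : Ws ρ t π S) (hc : IsConj (π (zl φ 0 1)) w) (hM : w ∈ Mw t π) :
    w ∈ M0 t π := by
  have q := qs hp
  have tt := h.tt
  have ti : t⁻¹ = t := h.wa.t_inv
  have key : ∀ w σ, IsConj (π (zl φ 0 1)) w → w ∈ S → w * t ∈ M0 t π → ¬ Au π (w * t) (fs φ σ) := by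
    intro w σ hc hS h0 a1
    have w2 := sq hc
    obtain ⟨γ, δ, a0, a2⟩ := h.wa.au q (lf hp) h0
    obtain rfl := a0.unique q h.frπ a1
    have hδ : δ = (fs φ σ)⁻¹ := (h.wa.au_t a1 a2).1.unique q h.frπ (by
      have := a1.inv
      rwa [_root_.mul_inv_rev, inv_eq_of_mul_eq_one_right w2, ti, ← mul_inv_cancel_right (t * w) t,
        mul_assoc t] at this)
    obtain ⟨N, hN⟩ := two_of_mem (mul_mem hS h.tS)
    obtain ⟨k, k1, k2⟩ := exists_inv_pow (x := (w * t) ^ 2) N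
      (by rw [← pow_mul, mul_comm, pow_mul, hN, one_pow]) fun e => h.z1 hp hc (IsConj.refl t) (by
        rw [Commute, SemiconjBy, eq_inv_of_mul_eq_one_left ((_root_.sq _).symm.trans e), _root_.mul_inv_rev, ti,
          inv_eq_of_mul_eq_one_right w2])
    rw [← pow_mul] at k1 k2
    have b1 := a1.pow (2 * k)
    have b2 := a2.pow (2 * k)
    rw [hδ, inv_pow, ← map_pow] at b2
    rw [← map_pow] at b1
    have c1 := dih_y w2 tt (2 * k : ℕ)
    have c2 := dih_t w2 tt (2 * k : ℕ)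
    rw [zpow_natCast, inv_eq_of_mul_eq_one_right k1, mul_inv_eq_iff_eq_mul] at c1 c2
    have c3 := conj_mul_central w2 tt (rfl : _ = (w * t) ^ (2 * k))
    generalize (w * t) ^ (2 * k) = i at *
    obtain ⟨g, hw, g1, -⟩ := h.om hp hc (el_zpowers k1).pgroup (comm_zp (Commute.symm c1))
    have := h.pur0 hp (mul_cj hw c3) (mul_mem (h.wa.G0_le (one_G0 _)) (g1 i (mem_zpowers i)).2)
    have := h.f5 hp (IsConj.refl t) h.wa.t_mem (Commute.symm c2)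
      ((Subgroup.mul_mem_cancel_left _ (one_G0 _)).1 this) (W0.cj_sq k1 g) (W0.icj i g).symm
    have e := (ty_fs _).unique hp (h.wa.ty_of_mem hp this b1)
    rw [e, map_one] at b1 b2
    exact k2 (h.wa.eq_one q (two_of_sq k1) b1 (by simpa using b2))
  by_contra h0
  obtain ⟨n, n0, nS⟩ := h.conj_inv hp (sq hc) hM
  have h1 : n * w * n⁻¹ ∉ M0 t π := fun k =>
    h0 ((Subgroup.mul_mem_cancel_left _ n0).1 ((Subgroup.mul_mem_cancel_right _ (inv_mem n0)).1 k))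
  replace hc := hc.trans (W0.icj w n)
  generalize n * w * n⁻¹ = w at *
  have s0 : w * t ∈ M0 t π := by
    have := inv_mem ((h.wa.comp q (lf hp) (h.le_M nS)).resolve_left h1)
    rwa [_root_.mul_inv_rev, ti, inv_eq_of_mul_eq_one_right (sq hc)] at this
  obtain ⟨⟨a, ha, σ, a1⟩, -⟩ := h.sd2 (mul_mem nS h.tS) s0
  have e : (π a)⁻¹ * w * (π a)⁻¹⁻¹ * t = (π a)⁻¹ * (w * t) * tu t π a := by
    rw [tu_apply, ti]
    calc _ = (π a)⁻¹ * w * (t * t) * π a * t := by rw [tt]; group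
      _ = _ := by group
  refine key _ σ (hc.trans (W0.icj w (π a)⁻¹))
    (mul_mem (mul_mem (inv_mem (h.US a ha)) nS) (inv_mem (inv_mem (h.US a ha)))) ?_ ?_ <;> rw [e]
  · exact mul_mem (mul_mem (inv_mem (h.wa.G0_le (one_G0 a))) s0) (h.wa.G0_le (two_G0 a))
  · simpa using ((au_self π a).inv.mul a1).mul (h.wa.au_one a).2

theorem Ws.pur (hp : Pa m φ) (h : Ws ρ t π S) (hc : IsConj (π (zl φ 0 1)) w) (hM : w ∈ Mw t π) :
    PuT t π w :=
  h.ic1 hp (h.pur0 hp hc (h.pur1 hp hc hM)) hc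

end CL.UM
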