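import Cfsg.Agent.INV.UM.W0
import Cfsg.Agent.INV.UM.Base

/-!
The wreathed case: the unique fixed point and the Sylow subgroup (compare INV/SC/W0, W1, W3).
-/

set_option autoImplicit false
set_option linter.unusedSectionVars false
set_option linter.unusedVariables false

namespace CL.UM

open Matrix Subgroup CL.SC
open scoped commutatorElement

variable {m : ℕ} [NeZero m] {F : Type*} [Field F] [Finite F] [CharP F 2] {φ : F ≃+* F}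
variable {G : Type*} [Group G] [Finite G] {ρ π : SU m φ →* G} {t : G} {S : Sylow 2 G}

theorem W1.sq_of_conj {y w : G} (h : IsConj y w) (hy : y * y = 1) : w * w = 1 := by
  obtain ⟨g, rfl⟩ := isConj_iff.1 h
  rw [conj_mul, hy, mul_one, mul_inv_cancel]

theorem Wr.tt (h : Wr ρ t π) : t * t = 1 := h.toWa.tt

theorem Wr.swap (h : Wr ρ t π) : Wr ρ t (tu t π) := ⟨h.toWa.swap, h.s3⟩

theorem Wr.ru (hp : Pa m φ) (h : Wr ρ t π) (α : MulAut (SU m φ)) :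
    Wr (CL.UM.ru ρ α) t (CL.UM.ru π α) := ⟨h.toWa.ru α, h.s3.aut hp α⟩

theorem At_swap (h : t * t = 1) : At t (tu t π) = At t π := pq_swap h _ _

theorem puT_swap (h : t * t = 1) {w : G} : PuT t (tu t π) w ↔ PuT t π w := by
  simp only [PuT, tu_tu h, or_comm]

theorem PuT.pu {w : G} (h : PuT t π w) : Pu t π w := by
  obtain ⟨r, -, rfl | rfl⟩ := h
  exacts [Or.inl ⟨r, rfl⟩, Or.inr ⟨r, rfl⟩]

theorem PuT.isConj {w : G} (h : PuT t π w) : IsConj (π (zl φ 0 1)) w := by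
  obtain ⟨r, hr, rfl | rfl⟩ := h
  · exact π.map_isConj hr
  · exact (π.map_isConj hr).trans (isConj_iff.2 ⟨t, rfl⟩)

theorem z1_sq (π : SU m φ →* G) : π (zl φ 0 1) * π (zl φ 0 1) = 1 := by
  rw [← map_mul, zl_sq, map_one]

theorem Fu.z1_ne (hp : Pa m φ) (h : Fu π) : π (zl φ 0 1) ≠ 1 :=
  fun e => zl_ne_one hp (h.eq_one (qs hp) (two_of_sq (zl_sq _ _)) e)

theorem z1_z2 (π : SU m φ →* G) (t : G) : IsConj (π (zl φ 0 1)) (tu t π (zl φ 0 1)) :=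
  isConj_iff.2 ⟨t, rfl⟩

theorem Wa.ty_of_mem (hp : Pa m φ) (h : Wa ρ t π) {n : G} (hn : n ∈ G0 t π) {α : MulAut (SU m φ)}
    (h1 : Au π n α) : Ty α 1 := by
  obtain ⟨a, rfl⟩ := h.inner (qs hp) hn h1
  exact ty_conj hp a

/-- `Ty.two`, `inn'` -/
theorem Wa.inn (hp : Pa m φ) (h : Wa ρ t π) {n : G} (hn : Two n) {α β : MulAut (SU m φ)}
    (h1 : Au π n α) (h2 : Au (tu t π) n β) (hα : Ty α 1) (hβ : Ty β 1) : n ∈ G0 t π := by
  obtain ⟨k, hk⟩ := hn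
  obtain ⟨a, ha, rfl⟩ := hα.two hp ⟨k, h1.pow_eq_one (qs hp) h.frπ hk⟩
  obtain ⟨b, hb, rfl⟩ := hβ.two hp ⟨k, h2.pow_eq_one (qs hp) h.fr2 hk⟩
  exact h.mem_G0.2 ⟨a, b, h.inn' (qs hp) ⟨k, hk⟩ ha hb h1 h2⟩

/-- `el_two`; the types lie in `{1, φ}` (`ty_of_sq`, `exists_tyHom`), `inn` -/
theorem Wa.el_idx (hp : Pa m φ) (h : Wa ρ t π) {B : Subgroup G} (hB : B ≤ M0 t π) (hE : El B) :
    Nat.card B ≤ 4 * Nat.card (B ⊓ G0 t π : Subgroup G) := by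
  obtain ⟨f, g, hf, hg, hf', hg', -⟩ := h.el_two (qs hp) (lf hp) hB hE
  obtain ⟨τ, hτ⟩ := exists_tyHom hp
  have p2 : φ * φ = 1 := hp.sq
  have k : ∀ α : MulAut (SU m φ), α * α = 1 → τ α ∈ zpowers φ := fun α e =>
    (mem_zpowers_two p2).2 ((ty_of_sq hp e).imp (hτ _ _).1 (hτ _ _).1)
  let χ := ((τ.comp f).codRestrict _ fun e => k _ (hf' _ ⟨e, rfl⟩)).prod
    ((τ.comp g).codRestrict _ fun e => k _ (hg' _ ⟨e, rfl⟩))
  have c1 := card_eq_card_quotient_mul_card_subgroup χ.ker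
  have c2 : Nat.card (B ⧸ χ.ker) ≤ 4 := by
    rw [Nat.card_congr (QuotientGroup.quotientKerEquivRange χ).toEquiv]
    refine (Nat.card_le_card_of_injective _ Subtype.val_injective).trans ?_
    rw [Nat.card_prod, Nat.card_zpowers, CL.HHL.orderOf_eq_two p2 hp.ne]
  have c3 : Nat.card χ.ker ≤ Nat.card (B ⊓ G0 t π : Subgroup G) := by
    refine Nat.card_le_card_of_injective (fun e => ⟨e.1.1, mem_inf.2 ⟨e.1.2, ?_⟩⟩)
      fun e e' k => Subtype.ext (Subtype.ext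
        (congrArg (fun z : (B ⊓ G0 t π : Subgroup G) => (z : G)) k))
    exact h.inn hp (two_of_sq (hE _ e.1.2)) (hf e.1) (hg e.1)
      ((hτ _ _).2 (congrArg (fun z : zpowers φ × zpowers φ => (z.1 : F ≃+* F)) e.2))
      ((hτ _ _).2 (congrArg (fun z : zpowers φ × zpowers φ => (z.2 : F ≃+* F)) e.2))
  exact c1 ▸ Nat.mul_le_mul c2 c3

/-- `el_M0`, `el_two`, `aut_le`, `aut_eq`, `inn'` -/
theorem Wa.k1 (hp : Pa m φ) (h : Wa ρ t π) {B : Subgroup G} (hB : B ≤ Mw t π) (hE : El B)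
    (hc : qa m F ^ 2 ≤ Nat.card B) :
    ∃ s s' : SU m φ, B = pq t π (cj s (AA m φ)) (cj s' (AA m φ)) := by
  have p := hp.qa8
  rw [pow_two] at hc
  have h0 := h.el_M0 (qs hp) (lf hp) (fun E hE => aut_le hp hE) hB hE (by nlinarith)
  obtain ⟨f, g, hf, hg, hf', hg', c0⟩ := h.el_two (qs hp) (lf hp) h0 hE
  have c1 := aut_le hp hf'
  have c2 := aut_le hp hg'
  obtain ⟨s, e⟩ := aut_eq hp hf' (by nlinarith)
  obtain ⟨s', e'⟩ := aut_eq hp hg' (by nlinarith)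
  refine ⟨s, s', eq_of_le_of_card_ge (fun y hy => ?_) (le_trans ?_ hc)⟩
  · obtain ⟨a, ha, k⟩ := e.le ⟨⟨y, hy⟩, rfl⟩
    obtain ⟨b, hb, k'⟩ := e'.le ⟨⟨y, hy⟩, rfl⟩
    exact h.mem_pq.2 ⟨a, ha, b, hb, h.inn' (qs hp) (two_of_sq (hE y hy)) (two_of_sq (el_AA.map _ a ha))
      (two_of_sq (el_AA.map _ b hb)) (k ▸ hf ⟨y, hy⟩) (k' ▸ hg ⟨y, hy⟩)⟩
  · rw [h.card_pq (qs hp) (el_AA.map _).pgroup (el_AA.map _).pgroup]
    exact (congrArg₂ _ ((card_cj s _).trans (card_AA hp)) ((card_cj s' _).trans (card_AA hp))).le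

/-- `exists_el'` -/
theorem Wa.el_G0 (hp : Pa m φ) (h : Wa ρ t π) {y : G} (hy : y ∈ G0 t π) (h2 : y * y = 1) :
    ∃ B ≤ G0 t π, El B ∧ y ∈ B ∧ Nat.card B = qa m F ^ 2 := by
  obtain ⟨a, b, ha, hb, rfl⟩ := h.lift_inv (qs hp) hy h2
  obtain ⟨s, h1⟩ := exists_el' hp ha
  obtain ⟨s', h1'⟩ := exists_el' hp hb
  refine ⟨_, pq_le_G0 (cj s (AA m φ)) (cj s' (AA m φ)), h.el_pq (el_AA.map _) (el_AA.map _),
    h.mem_pq.2 ⟨a, h1, b, h1', rfl⟩, ?_⟩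
  rw [h.card_pq (qs hp) (el_AA.map _).pgroup (el_AA.map _).pgroup, pow_two]
  exact congrArg₂ _ ((card_cj s _).trans (card_AA hp)) ((card_cj s' _).trans (card_AA hp))

theorem Wa.not_conj (hp : Pa m φ) (h : Wa ρ t π) {y : G} (hy : y ∈ G0 t π) : ¬ IsConj t y := by
  intro hc
  obtain ⟨B, -, h1, h2, h3⟩ := h.el_G0 hp hy (W1.sq_of_conj hc h.tt)
  have := h.toSt.rank_conj hp hc h1 fun e he => h1.comm he h2
  rw [h3, pow_two] at this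
  have := hp.qa8
  nlinarith

theorem Wa.conj_At (hp : Pa m φ) (h : Wa ρ t π) {w : G} (hw : w ∈ G0 t π) (h2 : w * w = 1) :
    ∃ g ∈ G0 t π, g * w * g⁻¹ ∈ At t π := by
  obtain ⟨a, b, ha, hb, rfl⟩ := h.lift_inv (qs hp) hw h2
  obtain ⟨s, h1⟩ := exists_conj_AA hp ha
  obtain ⟨s', h1'⟩ := exists_conj_AA hp hb
  exact ⟨_, h.mem_G0.2 ⟨s, s', rfl⟩, h.mem_pq.2 ⟨_, h1, _, h1', h.conj_pq s s' a b⟩⟩

theorem Wa.conj_z (h : Wa ρ t π) {r r' : SU m φ} (hr : IsTv r) (hr' : IsTv r') :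
    ∃ g ∈ G0 t π, g * (π r * tu t π r') * g⁻¹ = ρ (zl φ 0 1) := by
  obtain ⟨s, hs⟩ := isConj_iff.1 (IsConj.symm hr)
  obtain ⟨s', hs'⟩ := isConj_iff.1 (IsConj.symm hr')
  exact ⟨_, h.mem_G0.2 ⟨s, s', rfl⟩, by rw [h.conj_pq, hs, hs', h.diag]⟩

/-- `Wa.dbl` for `u = t`, `γ = 1`; `eq_Hs`, `iSup_cj_AA` -/
theorem Wr.GG (hp : Pa m φ) (h : Wr ρ t π) : GG ρ t = G0 t π := by
  obtain ⟨ρ', -, -, e, hd⟩ := h.toWa.dbl (qs hp) h.tt (γ := 1) fun _ => rfl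
  obtain rfl : ρ' = ρ := MonoidHom.ext fun a => (e a).trans (h.diag a)
  have k : ∀ s, Hs ρ' t s = pq t π (cj s (AA m φ)) (cj s (AA m φ)) := fun s => by
    have := h.s3.eq_Hs hp s (hd _ (el_AA.map _))
    rw [← this]
    exact congrArg _ (Subgroup.map_id (cj s (AA m φ)))
  refine le_antisymm (iSup_le fun s => (k s).le.trans (pq_le_G0 _ _)) (sup_le ?_ ?_) <;>
    rw [MonoidHom.range_eq_map, ← iSup_cj_AA hp, Subgroup.map_iSup]
  · exact iSup_mono fun s => le_sup_left.trans (k s).ge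
  · exact iSup_mono fun s => le_sup_right.trans (k s).ge

theorem Wr.nrm0 (hp : Pa m φ) (h : Wr ρ t π) {g : G} (hg : Commute g t) : g ∈ Mw t π := by
  rw [Mw, ← h.GG hp]
  exact h.toSt.norm_GG hp hg

/-- `sw`, `Wa.dbl`, `hat_le`, `iSup_cj_AA`: the first factor lies in `cj g G0`, which is normalised by
`u = g t g⁻¹` -/
theorem Wr.w1 (hp : Pa m φ) (h : Wr ρ t π) {g : G} (hg : g * t * g⁻¹ ∈ Mw t π)
    (h0 : g * t * g⁻¹ ∉ M0 t π) : g ∈ Mw t π := by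
  obtain ⟨γ, δ, h1, h2⟩ := h.toWa.sw (qs hp) (lf hp) hg h0
  obtain ⟨ρ', fr, cu, -, hd⟩ := h.toWa.dbl (qs hp) (h.toSt.conj g).tt h1
  have k : π.range ≤ cj g (G0 t π) := by
    rw [MonoidHom.range_eq_map, ← iSup_cj_AA hp, Subgroup.map_iSup, ← h.GG hp]
    exact iSup_le fun s => le_sup_left.trans (h.toSt.hat_le hp fr cu s (hd _ (el_AA.map _)))
  have un : cj (g * t * g⁻¹) (cj g (G0 t π)) = cj g (G0 t π) := by
    rw [← cj_mul', inv_mul_cancel_right, cj_mul', cj_eq_iff.2 h.toWa.t_mem]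
  refine cj_eq_iff.1 (eq_of_le_of_card_ge (sup_le k ?_) (card_cj _ _).le).symm
  rintro _ ⟨a, rfl⟩
  rw [← un, ← γ.apply_symm_apply a, ← h1]
  exact cj_mem (k ⟨_, rfl⟩)

/-- `exists_fix` for both factors; `rank_conj` for `zpowers u ⊔ pq E E'` (`not_conj`, `card_zsup`) -/
theorem Wa.w2 (hp : Pa m φ) (h : Wa ρ t π) {u : G} (hu : IsConj t u) : u ∉ M0 t π := fun h0 => by
  have u2 := W1.sq_of_conj hu h.tt
  obtain ⟨α, β, h1, h2⟩ := h.au (qs hp) (lf hp) h0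
  obtain ⟨E, e1, e2, e3⟩ := exists_fix hp (h1.sq (qs hp) h.frπ u2)
  obtain ⟨E', f1, f2, f3⟩ := exists_fix hp (h2.sq (qs hp) h.fr2 u2)
  have c : ∀ b ∈ pq t π E E', Commute u b := fun y hy => by
    obtain ⟨a, ha, b, hb, rfl⟩ := h.mem_pq.1 hy
    exact (h1.commute (e1 ha)).mul_right (h2.commute (f1 hb))
  have := h.toSt.rank_conj hp hu ((el_zpowers u2).sup (h.el_pq e2 f2) (zp_comm u2 c)) fun e he => by
    rcases (mem_zsup u2 c).1 he with e1 | e1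
    · exact (c e e1).symm
    · have := (Commute.refl u).mul_left (c _ e1).symm
      rwa [← mul_assoc, u2, one_mul] at this
  rw [card_zsup u2 c fun e => h.not_conj hp (pq_le_G0 _ _ e) hu,
    h.card_pq (qs hp) e2.pgroup f2.pgroup] at this
  have k := Nat.mul_lt_mul'' e3 f3
  have k2 := Nat.pow_le_pow_left (Nat.le_of_mul_le_mul_left this two_pos) 2
  rw [mul_pow, pow_two (qa m F)] at k2
  omega

theorem Wr.uf (hp : Pa m φ) (h : Wr ρ t π) : UF (Mw t π) t :=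
  ⟨h.toWa.t_mem, fun g hg => h.w1 hp hg (h.toWa.w2 hp (isConj_iff.2 ⟨g, rfl⟩))⟩

theorem Wr.odd_M0 (hp : Pa m φ) (h : Wr ρ t π) (hS : (S : Subgroup G) ≤ Mw t π) :
    Odd (((S : Subgroup G) ⊓ M0 t π).relIndex (M0 t π)) :=
  odd_relIndex_inf hS (odd_relIndex_sylow S hS) M0_le (h.toWa.norm_M0 (qs hp) (lf hp))

/-- `Fu.nf`, `Fu.UU_le` -/
theorem Wr.exists_ws (hp : Pa m φ) (h : Wr ρ t π) :
    ∃ (ρ' π' : SU m φ →* G) (S : Sylow 2 G), Ws ρ' t π' S := by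
  obtain ⟨S, hS⟩ := (el_zpowers h.tt).pgroup.exists_le_sylow
  have tS : t ∈ S := hS (mem_zpowers t)
  have hM := (h.uf hp).le S.2 tS (IsConj.refl t) h.toWa.t_mem
  have p0 : IsPGroup 2 ((S : Subgroup G) ⊓ M0 t π : Subgroup G) := S.2.to_inf_left
  obtain ⟨β, hβ⟩ := h.frπ.nf hp p0 (inf_le_right.trans inf_le_left)
  have h' := h.ru hp β
  refine ⟨_, _, S, h', h'.uf hp, tS, fun a ha => (h'.frπ.UU_le hp p0 inf_le_right (h.odd_M0 hp hM)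
    ?_ ?_ hβ a ha).1, fun s hs hn => hβ s ⟨hs, h.toWa.mem_M0 (qs hp) (lf hp) (hM hs) ?_⟩⟩
  · rw [range_ru]; exact le_sup_left.trans h.toWa.G0_le
  · rw [range_ru]; exact inf_le_left
  · rwa [range_ru] at hn

theorem Ws.tt (h : Ws ρ t π S) : t * t = 1 := h.toWr.tt

theorem Ws.wa (h : Ws ρ t π S) : Wa ρ t π := h.toWr.toWa

theorem Ws.le_M (h : Ws ρ t π S) : (S : Subgroup G) ≤ Mw t π :=
  h.uf.le S.2 h.tS (IsConj.refl t) h.wa.t_mem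

theorem Ws.conj_t (h : Ws ρ t π S) {s : G} (hs : s ∈ S) : t * s * t⁻¹ ∈ S :=
  mul_mem (mul_mem h.tS hs) (inv_mem h.tS)

theorem Ws.t_inv (h : Ws ρ t π S) : t⁻¹ = t := inv_eq_of_mul_eq_one_right h.tt

theorem Ws.swap (h : Ws ρ t π S) : Ws ρ t (tu t π) S := by
  refine ⟨h.toWr.swap, by rw [Mw, G0_swap h.tt]; exact h.uf, h.tS, fun a ha => h.conj_t (h.US a ha),
    fun s hs hn => ?_⟩
  obtain ⟨a, ha, σ, e⟩ := h.sd _ (h.conj_t hs) (cj_eq_iff.1 (by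
    rw [h.t_inv, cj_mul', cj_mul', ← range_tu, cj_eq_iff.2 hn, h.wa.cj_t]))
  refine ⟨a, ha, σ, ?_⟩
  have := e.tu t
  rwa [show t * (t * s * t⁻¹) * t⁻¹ = t * t * s * (t * t)⁻¹ by group, h.tt, one_mul, inv_one,
    mul_one] at this

theorem Ws.sd2 (h : Ws ρ t π S) {s : G} (hs : s ∈ S) (h0 : s ∈ M0 t π) : Sa π s ∧ Sa (tu t π) s :=
  ⟨h.sd s hs (mem_inf.1 h0).1, h.swap.sd s hs (mem_inf.1 h0).2⟩

/-- `na_std`, `Au.unique` -/
theorem Ws.na (hp : Pa m φ) (h : Ws ρ t π S) {s : G} (hs : s ∈ S) {α : MulAut (SU m φ)}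
    (h1 : Au π s α) : NA α := by
  obtain ⟨a, ha, σ, e⟩ := h.sd s hs h1.mem
  exact Au.unique (qs hp) h.frπ e h1 ▸ na_std hp ha σ

theorem Ws.pq_le (h : Ws ρ t π S) : pq t π (UU m φ) (UU m φ) ≤ S :=
  sup_le (map_le_iff_le_comap.2 h.US) (map_le_iff_le_comap.2 h.swap.US)

theorem Ws.At_le (h : Ws ρ t π S) : At t π ≤ S :=
  (pq_mono AA_le_UU AA_le_UU).trans h.pq_le

theorem Ws.mem_UU (hp : Pa m φ) (h : Ws ρ t π S) {a : SU m φ} (ha : Two a) (hs : π a ∈ S) :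
    a ∈ UU m φ :=
  (h.frπ.mem_map (qs hp) pgroup_UU ha).1
    (h.frπ.mem_UU hp ⟨a, rfl⟩ (ha.map π) (h.sd _ hs (au_self π a).mem))

theorem two_of_mem {s : G} (hs : s ∈ S) : Two s :=
  two_of_pgroup S.2 hs

theorem Ws.z1_comm (hp : Pa m φ) (h : Ws ρ t π S) {s : G} (hs : s ∈ S) (h0 : s ∈ M0 t π) :
    Commute s (π (zl φ 0 1)) ∧ Commute s (tu t π (zl φ 0 1)) :=
  ⟨((h.sd2 hs h0).1.norm hp).2.2, ((h.sd2 hs h0).2.norm hp).2.2⟩

theorem Ws.z_comm (hp : Pa m φ) (h : Ws ρ t π S) {s : G} (hs : s ∈ S) : Commute s (ρ (zl φ 0 1)) := by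
  have k : ∀ s ∈ S, s ∈ M0 t π → Commute s (ρ (zl φ 0 1)) := fun s hs h0 =>
    h.diag _ ▸ (h.z1_comm hp hs h0).1.mul_right (h.z1_comm hp hs h0).2
  refine (h.wa.comp (qs hp) (lf hp) (h.le_M hs)).elim (k s hs) fun h0 => ?_
  simpa using (h.tc _).inv_left.mul_left (k _ (mul_mem h.tS hs) h0)

theorem Ws.card_S (hp : Pa m φ) (h : Ws ρ t π S) :
    Nat.card S = 2 * Nat.card ((S : Subgroup G) ⊓ M0 t π : Subgroup G) := by
  rw [card_eq_rel (inf_le_left : (S : Subgroup G) ⊓ M0 t π ≤ S), mul_comm]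
  congr 1
  rw [inf_relIndex_left, relIndex, index_eq_two_iff]
  refine ⟨⟨t, h.tS⟩, fun b => ?_⟩
  simp only [mem_subgroupOf, Subgroup.coe_mul]
  by_cases hb : (b : G) ∈ M0 t π
  · exact Or.inr ⟨hb, fun e => h.wa.t_not_mem (qs hp) (mem_inf.1 ((mul_mem_cancel_left hb).1 e)).1⟩
  · refine Or.inl ⟨?_, hb⟩
    have := (mem_normalizer_iff.1 h.wa.t_norm _).1
      ((h.wa.comp (qs hp) (lf hp) (h.le_M b.2)).resolve_left hb)
    rwa [← mul_assoc, h.tt, one_mul, h.t_inv] at this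

/-- `Fu.ty_comm`, `inn` -/
theorem Ws.comm_le (hp : Pa m φ) (h : Ws ρ t π S) :
    ⁅(S : Subgroup G) ⊓ M0 t π, (S : Subgroup G) ⊓ M0 t π⁆ ≤ G0 t π := fun y hy => by
  have hy' : y ∈ (S : Subgroup G) ⊓ M0 t π :=
    Subgroup.commutator_le.2 (fun a ha b hb =>
      mul_mem (mul_mem (mul_mem ha hb) (inv_mem ha)) (inv_mem hb)) hy
  obtain ⟨α, β, h1, h2⟩ := h.wa.au (qs hp) (lf hp) (mem_inf.1 hy').2
  exact h.wa.inn hp (two_of_mem (mem_inf.1 hy').1) h1 h2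
    (h.frπ.ty_comm hp (inf_le_right.trans inf_le_left) hy h1)
    (h.wa.fr2.ty_comm hp (inf_le_right.trans inf_le_right) hy h2)

theorem Ws.conj_S (hp : Pa m φ) (h : Ws ρ t π S) {P : Subgroup G} (hP : IsPGroup 2 P)
    (hM : P ≤ Mw t π) : ∃ n ∈ M0 t π, cj n P ≤ S := by
  obtain ⟨n, hn, e⟩ := conj_into S.2 h.le_M (odd_relIndex_sylow S h.le_M) hP hM
  refine (h.wa.comp (qs hp) (lf hp) hn).elim (fun h0 => ⟨n, h0, e⟩) fun h0 => ⟨_, h0, ?_⟩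
  rw [cj_mul']
  exact (map_mono e).trans (cj_eq_iff.2 (le_normalizer h.tS)).le

theorem Ws.conj_inv (hp : Pa m φ) (h : Ws ρ t π S) {w : G} (hw : w * w = 1) (hM : w ∈ Mw t π) :
    ∃ n ∈ M0 t π, n * w * n⁻¹ ∈ S := by
  obtain ⟨n, hn, e⟩ := h.conj_S hp (el_zpowers hw).pgroup (zpowers_le.2 hM)
  exact ⟨n, hn, e (cj_mem (mem_zpowers w))⟩

theorem Ws.f5 (hp : Pa m φ) (h : Ws ρ t π S) {w u y : G} (hc : IsConj t u) (hM : u ∈ Mw t π)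
    (hw : Commute w u) (hy : y ∈ G0 t π) (hy2 : y * y = 1) (hyw : IsConj y w) : w ∈ G0 t π := by
  obtain ⟨B, -, h1, h2, h3⟩ := h.wa.el_G0 hp hy hy2
  refine h.uf.f5 h.tt (fun B hB hE hn => ?_) hc hM hw hyw h1 h2 h3.ge
  obtain ⟨s, s', rfl⟩ := h.wa.k1 hp hB hE hn
  exact pq_le_G0 _ _

/-- as `Ws.f2` in INV/SC/W3, with `cent_UU`, `isTv_zl`, `IsTv.aut` -/
theorem Ws.f2 (hp : Pa m φ) (h : Ws ρ t π S) {i u : G} (hc : IsConj t u) (hM : u ∈ Mw t π)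
    (hi : Commute i u) (hz : IsConj (ρ (zl φ 0 1)) i) :
    ∃ r r', IsTv r ∧ IsTv r' ∧ i = π r * tu t π r' := by
  have hq := qs hp
  have z2 := z1_sq ρ
  have hG := h.f5 hp hc hM hi (h.wa.rho_mem _) z2 hz
  obtain ⟨S', h1, h2⟩ := h.uf.central h.tt hc hM hi hz S fun s hs => h.z_comm hp hs
  obtain ⟨n, hn, e⟩ := h.conj_S hp S'.2 h1
  have e' : cj n S' = S := eq_of_le_of_card_ge e (by
    rw [card_cj]; exact (Nat.card_congr (S.equiv S').toEquiv).le)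
  have c : ∀ s ∈ S, Commute s (n * i * n⁻¹) := fun s hs => by
    obtain ⟨s', hs', rfl⟩ := e'.ge hs
    exact commute_cj.2 (h2 s' hs')
  have hz' := hz.trans (isConj_iff.2 ⟨n, rfl⟩)
  obtain ⟨a, b, ha, hb, k⟩ := h.wa.lift_inv hq ((mem_normalizer_iff.1 (M0_le hn) i).1 hG)
    (W1.sq_of_conj hz' z2)
  rw [k] at c hz'
  obtain ⟨c1, f1, rfl⟩ := cent_UU hp (two_of_sq ha) fun u hu =>
    h.wa.commute_fst hq (two_of_sq ha) (c _ (h.US u hu))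
  obtain ⟨c2, -, rfl⟩ := cent_UU hp (two_of_sq hb) fun u hu =>
    h.swap.wa.commute_fst hq (b := zl φ 0 c1) (two_of_sq hb) (by
      rw [tu_tu h.tt, ← (h.comm _ _).eq]; exact c _ (h.swap.US u hu))
  have k2 := (c t h.tS).mul_inv_cancel
  rw [h.wa.t_conj] at k2
  obtain ⟨k3, -⟩ := h.wa.inj hq (two_of_sq hb) (two_of_sq ha) (two_of_sq ha) (two_of_sq hb) k2
  rw [k3] at k hz'
  have l0 : Lo (0 : Fin m) := Hm.lo0 hp
  have r : IsTv (zl φ (0 : Fin m) c1) := isTv_zl hp (l0.ne_rev l0) f1 fun e => by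
    rw [e, zl_zero, map_one, map_one, mul_one] at hz'
    exact h.fr.z1_ne hp (isConj_one_left.1 hz')
  obtain ⟨α, β, p1, p2⟩ := h.wa.au hq (lf hp) (inv_mem hn)
  refine ⟨_, _, r.aut hp α, r.aut hp β, ?_⟩
  rw [← p1, ← p2, conj_mul, ← k]
  group

end CL.UM
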